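import Cfsg.Agent.H13.FF2
/-! `H26.FF`, part 3: the case `|U ∩ U'| = 8` gives the local structure `Ti` of the Tits group; `H13.ff : H26.FF`. -/
set_option autoImplicit false
namespace H13.FFa
open Cfsg Subgroup H26 H4 H118
open scoped Pointwise commutatorElement
universe u

variable {G : Type*} [Group G]

theorem cm_right (a b c : G) : ⁅a, b * c⁆ = ⁅a, b⁆ * (b * ⁅a, c⁆ * b⁻¹) := by
  simp only [commutatorElement_def]; group

theorem cm_swap {K : Subgroup G} {a b : G} (h : ⁅a, b⁆ ∈ K) : ⁅b, a⁆ ∈ K := commutatorElement_inv a b ▸ inv_mem h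

theorem n_commStab {A N L : Subgroup G} [Finite G] (h1 : L ≤ 𝐍 A) (h2 : L ≤ 𝐍 N) : L ≤ 𝐍 (commStab (A : Set G) N) :=
  fun g hg => mem_normalizer_of_conj_mem fun x hx =>
    ⟨mul_mem (mul_mem (h2 hg) hx.1) (inv_mem (h2 hg)), fun j hj => by
      have := conj_mem_of_mem_normalizer (h2 hg) (hx.2 _ (conj_mem_of_mem_normalizer' (h1 hg) hj))
      rwa [conjugate_commutatorElement, show g * (g⁻¹ * j * g) * g⁻¹ = j by group] at this⟩

/-- the data of the endgame -/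
structure En {Γ W : Type*} [Group Γ] [AddCommGroup W] [DistribMulAction Γ W] (S V : Subgroup G) (z y : G)
    (mk : G → W) (ac : G → Γ) (F : Subgroup Γ) (η : Γ) (i₀ : W) (Y : Subgroup G) (σ a : G) : Prop where
  b : B3 S V z y
  m : Md (𝐂 (zpowers z)) (Up V z) z mk ac
  f : Fi F
  s : St4 F (ac a) (m.im (Up V z ⊓ Up V y)) (mk y) i₀
  t : Et F (ac a) η
  memY : ∀ u, u ∈ Y ↔ u ∈ Up V z ∧ mk u ∈ rg W η
  σM : σ ∈ 𝐍 V
  σz : σ * z * σ⁻¹ = y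
  σy : σ * y * σ⁻¹ = z
  aA : a ∈ Up V y
  aT : a ∉ Tp V z

/-- `C_H(Y/Z)` -/
abbrev tY (Y : Subgroup G) (z : G) : Subgroup G := 𝐂 (zpowers z) ⊓ commStab (Y : Set G) (zpowers z)
/-- `N_H(Y)` -/
abbrev hY (Y : Subgroup G) (z : G) : Subgroup G := 𝐂 (zpowers z) ⊓ 𝐍 Y
/-- the centralizer of `C(Y)/Y` in `N_H(Y)` -/
abbrev eY (Y : Subgroup G) (z : G) : Subgroup G := hY Y z ⊓ commStab (𝐂 Y : Subgroup G) Y
/-- the elements of `C(Y)` centralized by `E` modulo `Z` -/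
abbrev dY (Y : Subgroup G) (z : G) : Subgroup G := 𝐂 Y ⊓ commStab (eY Y z : Subgroup G) (zpowers z)

namespace En
variable [Finite G] {Γ W : Type*} [Group Γ] [Finite Γ] [AddCommGroup W] [Finite W] [DistribMulAction Γ W]
  {S V : Subgroup G} {z y : G} {mk : G → W} {ac : G → Γ} {F : Subgroup Γ} {η : Γ} {i₀ : W} {Y : Subgroup G} {σ a : G}
  (h : En S V z y mk ac F η i₀ Y σ a) {g x t u d e : G}
include h

omit [Finite G] [Finite Γ] [Finite W] in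
theorem YU : Y ≤ Up V z := fun u hu => ((h.memY u).1 hu).1
omit [Finite G] [Finite Γ] in
theorem IY : Up V z ⊓ Up V y ≤ Y := fun i hi => (h.memY i).2 ⟨hi.1, h.s.b2 h.t.mem h.t.inv h.t.ne ⟨i, hi.1, hi, rfl⟩⟩
omit [Finite Γ] in
theorem VY : V ≤ Y := h.b.VI.trans h.IY
omit [Finite Γ] in
theorem ZY : zpowers z ≤ Y := (zpowers_le.2 h.b.zV).trans h.VY
omit [Finite Γ] [Finite W] in
theorem YD : Y ≤ 𝐂 Y := h.YU.trans ((h.b.Up_ab h.b.colz).trans (centralizer_anti h.YU))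
omit [Finite Γ] in
theorem DV : 𝐂 Y ≤ 𝐂 V := centralizer_anti h.VY
omit [Finite Γ] in
theorem DH : 𝐂 Y ≤ 𝐂 (zpowers z) := centralizer_anti h.ZY
omit [Finite Γ] [Finite W] in
theorem nY (hx : x ∈ 𝐂 (zpowers z)) (e : ∀ w ∈ rg W η, ac x • w ∈ rg W η) : x ∈ 𝐍 Y :=
  mem_normalizer_of_conj_mem fun u hu => (h.memY _).2 ⟨h.m.cU hx (h.YU hu), by
    rw [← h.m.smul _ hx _ (h.YU hu)]; exact e _ ((h.memY u).1 hu).2⟩
omit [Finite W] in
theorem MY (hx : x ∈ 𝐂 (zpowers z)) (hM : x ∈ 𝐍 V) : x ∈ 𝐍 Y :=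
  h.nY hx fun _ => h.s.a_norm h.t (h.b.comm_a h.m h.f h.aA h.aT hx hM)
omit [Finite W] in
theorem CVY : 𝐂 V ≤ 𝐍 Y := fun _ hx => h.MY (B3.CV h.b.zV hx) (centralizer_le_normalizer _ hx)
omit [Finite W] in
theorem SY : S ≤ hY Y z := fun _ hx => ⟨h.b.S_le hx, h.MY (h.b.S_le hx) (h.b.le hx)⟩
omit [Finite G] [Finite Γ] [Finite W] in
theorem mem_tY : t ∈ tY Y z ↔ t ∈ 𝐂 (zpowers z) ∧ rg W η ≤ fx W (ac t) := and_congr_right fun ht =>
  ⟨fun k w hw => by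
    obtain ⟨u, hu, rfl⟩ := h.m.mk_surj w
    exact (h.m.fix ht hu).2 (k.2 u ((h.memY u).2 ⟨hu, hw⟩)),
  fun k => ⟨centralizer_le_normalizer _ ht, fun u hu => (h.m.fix ht (h.YU hu)).1 (k ((h.memY u).1 hu).2)⟩⟩
omit [Finite G] [Finite Γ] [Finite W] in
theorem TY : Tp V z ≤ tY Y z := fun _ ht =>
  ⟨Tp_le_c ht, centralizer_le_normalizer _ (Tp_le_c ht), fun u hu => (mem_Tp.1 ht).2 u (h.YU hu)⟩
omit [Finite Γ] in
theorem tY_le : tY Y z ≤ hY Y z := fun t ht => ⟨ht.1, mem_normalizer_of_conj_mem fun u hu => by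
  simpa [commutatorElement_def] using mul_mem (h.ZY (ht.2.2 u hu)) hu⟩
omit [Finite Γ] in
theorem D_le : 𝐂 Y ≤ tY Y z := fun d hd => ⟨h.DH hd, centralizer_le_normalizer _ (h.DH hd), fun u hu => by
  rw [commutatorElement_eq_one_iff_mul_comm.2 (hd u hu).symm]; exact one_mem _⟩
omit h [Finite Γ] [Finite W] in
theorem n_tY : hY Y z ≤ 𝐍 (tY Y z) := le_normalizer_inf (inf_le_left.trans le_normalizer)
  (n_commStab inf_le_right (inf_le_left.trans (centralizer_le_normalizer _)))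
omit h [Finite Γ] [Finite W] in
theorem n_eY : hY Y z ≤ 𝐍 (eY Y z) :=
  le_normalizer_inf le_normalizer (n_commStab (le_normalizer_centralizer inf_le_right) inf_le_right)
omit h [Finite Γ] [Finite W] in
theorem n_dY : hY Y z ≤ 𝐍 (dY Y z) := le_normalizer_inf (le_normalizer_centralizer inf_le_right)
  (n_commStab n_eY (inf_le_left.trans (centralizer_le_normalizer _)))
omit [Finite G] [Finite Γ] [Finite W] in
theorem Y'A : cj σ Y ≤ Up V y := by rw [← h.σz, ← cj_Up]; exact cj_mono σ h.YU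
omit [Finite W] in
theorem σσ (hu : u ∈ cj σ Y) : σ * u * σ⁻¹ ∈ Y := by
  have k : ∀ c, σ * σ * c * (σ * σ)⁻¹ = σ * (σ * c * σ⁻¹) * σ⁻¹ := fun c => by group
  obtain ⟨v, hv, rfl⟩ := mem_cj'.1 hu
  exact k v ▸ conj_mem_of_mem_normalizer (h.CVY (h.b.memC (mem_c_of_conj_eq (by rw [k, h.σz, h.σy]))
    (by rw [k, h.σy, h.σz]))) hv
omit [Finite G] [Finite Γ] [Finite W] in
theorem σT : σ * t * σ⁻¹ ∈ Tp V z ↔ t ∈ Tp V y := by rw [← h.σy, ← cj_Tp, conj_mem_cj_iff]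
omit [Finite Γ] in
theorem zero_of (hu : u ∈ Y) (he : e ∈ 𝐂 (zpowers z)) (ee : ac e = η) (k : ⁅e, u⁆ ∈ zpowers z) : u ∈ zpowers z :=
  (h.m.mk_zero u (h.YU hu)).1 (rg_fix h.m.two (h.f.odd _ h.t.mem) ((h.memY u).1 hu).2 (ee ▸ (h.m.fix he (h.YU hu)).2 k))

omit [Finite Γ] in
theorem exists_v : ∃ v ∈ Y, ⁅a, v⁆ ∉ V := by
  obtain ⟨u, hu, k, e⟩ := h.s.b1 h.t.mem h.t.inv (h.s.b2 h.t.mem h.t.inv h.t.ne h.s.iI) (h.s.fixI _ h.s.iI)
  obtain ⟨v, hv, e1⟩ := h.m.mk_surj (η • u)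
  refine ⟨v, (h.memY v).2 ⟨hv, e1 ▸ smul_mem_rg_comm rfl hu⟩, fun n => ?_⟩
  have := h.b.mkV h.m n
  rw [h.m.comm (h.b.AH h.aA) hv, e1, h.s.sw h.t.inv, k, e] at this
  exact this.elim h.s.i0 h.s.iy

omit [Finite Γ] in
theorem exists_a : ∃ a' ∈ cj σ Y, En S V z y mk ac F η i₀ Y σ a' := by
  obtain ⟨v, hv, n⟩ := h.exists_v
  have m1 := h.Y'A (conj_mem_cj σ hv)
  have n1 : σ * v * σ⁻¹ ∉ Tp V z := fun k => n (cm_swap (zpowers_le.2 h.b.yV ((mem_Tp.1 (h.σT.1 k)).2 a h.aA)))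
  have e := h.b.ac_eq h.m h.f h.aA h.aT m1 n1
  exact ⟨_, conj_mem_cj σ hv, h.b, h.m, h.f, e ▸ h.s, e ▸ h.t, h.memY, h.σM, h.σz, h.σy, m1, n1⟩

theorem exists_x (aY : a ∈ cj σ Y) : ∃ x ∈ cj σ Y, x ∈ Tp V z ∧ x ∉ 𝐂 Y := by
  obtain ⟨w, hw, ⟨x, hx, xT, rfl⟩, n⟩ := h.s.exists_out h.t (fun w => ∃ u ∈ Up V z, u ∈ Tp V y ∧ mk u = w)
    fun v w hv hw => by
      obtain ⟨v, mv, rfl⟩ := h.m.mk_surj v
      obtain ⟨w, mw, rfl⟩ := h.m.mk_surj w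
      exact ⟨v * w, mul_mem mv mw, h.b.twoU h.m h.f mv (fun k => hv ⟨v, mv, k, rfl⟩) mw fun k => hw ⟨w, mw, k, rfl⟩,
        h.m.mk_mul _ mv _ mw⟩
  refine ⟨_, conj_mem_cj σ ((h.memY x).2 ⟨hx, hw⟩), h.σT.2 xT, fun k => n ((h.m.fix (h.b.AH h.aA) hx).2 ?_)⟩
  have := k _ (h.σσ aY)
  rw [conj_mul, conj_mul, mul_left_inj, mul_right_inj] at this
  rw [commutatorElement_eq_one_iff_mul_comm.2 this]; exact one_mem _

theorem dsplit (hd : d ∈ 𝐂 Y) : (∀ b ∈ cj σ Y, ⁅d, b⁆ ∈ zpowers y) ∨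
    ∀ b ∈ cj σ Y, ⁅d * (σ * a * σ⁻¹), b⁆ ∈ zpowers y := by
  have m1 := conj_mem_of_mem_normalizer' (normalizer_le_normalizer_centralizer V h.σM) (h.DV hd)
  have m2 := B3.CV h.b.zV m1
  have key : ∀ c ∈ tY Y z, ∀ b ∈ cj σ Y, ⁅σ * c * σ⁻¹, b⁆ ∈ zpowers y := fun c hc b hb => by
    obtain ⟨v, hv, rfl⟩ := mem_cj'.1 hb
    rw [← conjugate_commutatorElement, ← h.σz, ← cj_zpowers]; exact conj_mem_cj σ (hc.2.2 v hv)
  rcases h.s.cases4 h.t (h.b.comm_a h.m h.f h.aA h.aT m2 (centralizer_le_normalizer _ m1)) with k | k | ⟨-, _, ⟨i, -, hi, rfl⟩, k⟩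
  · left; simpa [mul_assoc] using key _ (h.mem_tY.2 ⟨m2, k⟩)
  · right
    have := key _ (h.mem_tY.2 ⟨mul_mem m2 (h.b.AH h.aA), h.m.ac_mul _ m2 _ (h.b.AH h.aA) ▸ k⟩)
    rwa [show σ * (σ⁻¹ * d * σ * a) * σ⁻¹ = d * (σ * a * σ⁻¹) by group] at this
  · refine (k ?_).elim
    rw [h.m.smul _ m2 _ hi.1]; congr 1
    calc _ = σ⁻¹ * (d * (σ * i * σ⁻¹) * d⁻¹) * σ := by group
      _ = _ := by
        rw [mem_centralizer_iff'.1 hd _ (h.IY (conj_mem_of_mem_normalizer (h.b.nI h.m h.f h.σM) hi))]; group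

theorem Y'E (aY : a ∈ cj σ Y) : cj σ Y ≤ eY Y z := fun b hb => by
  have m1 := h.b.UC h.b.yV h.b.y1 (h.Y'A hb)
  have yY : zpowers y ≤ Y := (zpowers_le.2 h.b.yV).trans h.VY
  refine ⟨⟨B3.CV h.b.zV m1, h.CVY m1⟩, h.CVY m1, fun d hd => cm_swap ?_⟩
  rcases h.dsplit hd with k | k
  · exact yY (k b hb)
  · have := yY (k b hb)
    rw [commutatorElement_mul_left_eq_conj_mul] at this
    exact (Y.mul_mem_cancel_left (conj_mem_of_mem_normalizer (centralizer_le_normalizer _ hd)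
      (commutator_le_of_le_normalizer (zpowers_le.2 (h.CVY m1))
        (commutator_mem_commutator (h.σσ aY) (mem_zpowers b))))).1 this

theorem exists_e (aY : a ∈ cj σ Y) : ∃ e ∈ eY Y z, ac e = η := by
  obtain ⟨g, hg, e⟩ := h.m.ac_surj (η ^ 2)
  have m1 := h.Y'E aY aY
  have m2 : g ∈ hY Y z := ⟨hg, h.nY hg fun w => e ▸ smul_mem_rg_comm ((Commute.refl η).pow_left 2)⟩
  refine ⟨_, mul_mem m1 (conj_mem_of_mem_normalizer (n_eY m2) m1), ?_⟩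
  rw [h.m.ac_mul _ m1.1.1 _ (conj_mem_of_mem_normalizer (n_eY m2) m1).1.1, h.m.ac_conj hg m1.1.1, e, ← mul_assoc,
    ← mul_assoc, h.s.inv_of h.t (npow_mem_zpowers η 2), ← mul_inv_rev, ← pow_add, ← h.s.inv4 h.t, inv_inv]

omit [Finite Γ] [Finite W] in
theorem χ_mk (ht : t ∈ 𝐂 (zpowers z)) (hu : u ∈ Up V z) {v : G} (hv : v ∈ Up V z) (e : mk u = mk v) : χ t u = χ t v := by
  have k := ht _ ((h.m.mk_eq hu hv).1 e)
  refine χ_congr ?_
  rw [show u = u * v⁻¹ * v by simp, ← mul_assoc, ← k, mul_assoc, mul_assoc _ v, mul_right_inj]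

variable (he : e ∈ eY Y z) (ee : ac e = η)
include he ee

omit [Finite Γ] ee in
theorem yk (k : ℕ) : e ^ k * y * (e ^ k)⁻¹ ∈ Y := conj_mem_of_mem_normalizer (pow_mem he.1.2 k) (h.VY h.b.yV)
omit [Finite Γ] [Finite W] in
theorem mk_yk (k : ℕ) : mk (e ^ k * y * (e ^ k)⁻¹) = η ^ k • mk y := by
  rw [← h.m.smul _ (pow_mem he.1.1 k) _ (B3.VU h.b.zV h.b.yV), h.m.ac_pow he.1.1, ee]

omit h he ee in
/-- the coordinates of the functional induced by `t` -/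
noncomputable def vec (e y t : G) : Fin 5 → ZMod 2 := fun k => χ t (e ^ k.1 * y * (e ^ k.1)⁻¹)

omit [Finite Γ] ee in
theorem vec_mul (ht : t ∈ tY Y z) {t' : G} (ht' : t' ∈ tY Y z) : vec e y (t * t') = vec e y t + vec e y t' :=
  funext fun k => χ_mul_left h.b.zz ht.1 (ht.2.2 _ (h.yk he k)) (ht'.2.2 _ (h.yk he k))

theorem vec_shift (ht : t ∈ 𝐂 (zpowers z)) : vec e y (e⁻¹ * t * e) = fun k => vec e y t (k + 1) := funext fun k => by
  rw [vec, ← χ_conj e, show e * (e⁻¹ * t * e) * e⁻¹ = t by group,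
    show e * (e ^ k.1 * y * (e ^ k.1)⁻¹) * e⁻¹ = e ^ (k.1 + 1) * y * (e ^ (k.1 + 1))⁻¹ by rw [pow_succ']; group]
  refine h.χ_mk ht (h.YU (h.yk he _)) (h.YU (h.yk he _)) ?_
  rw [h.mk_yk he ee, h.mk_yk he ee, Fin.val_add, ← pow_mod_orderOf, h.s.five h.t]; rfl

theorem vec_sum (ht : t ∈ tY Y z) : ∑ k, vec e y t k = 0 := by
  have m := h.yk he
  have c : ∀ u ∈ Y, ∀ v ∈ Y, χ t (u * v) = χ t u + χ t v := fun u hu v hv =>
    χ_mul_right h.b.zz (h.b.UH (h.YU hu)) (ht.2.2 u hu) (ht.2.2 v hv)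
  have c' : ∀ u ∈ Y, ∀ v ∈ Y, mk (u * v) = mk u + mk v := fun u hu v hv => h.m.mk_mul _ (h.YU hu) _ (h.YU hv)
  have m1 := mul_mem (m 0) (m 1)
  have m2 := mul_mem m1 (m 2)
  have m3 := mul_mem m2 (m 3)
  rw [Fin.sum_univ_five]
  refine (show _ = _ by rw [c _ m3 _ (m 4), c _ m2 _ (m 3), c _ m1 _ (m 2), c _ (m 0) _ (m 1)]; rfl :
    χ t _ = _).symm.trans ((h.χ_mk ht.1 (h.YU (mul_mem m3 (m 4))) (one_mem _) ?_).trans (χ_zero.2 (by simp)))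
  rw [c' _ m3 _ (m 4), c' _ m2 _ (m 3), c' _ m1 _ (m 2), c' _ (m 0) _ (m 1), h.m.mk_one]
  simp only [h.mk_yk he ee]; exact h.s.sum5 h.t

theorem vec_zero (ht : t ∈ 𝐂 (zpowers z)) (k : vec e y t = 0) : t ∈ 𝐂 Y := fun u hu => by
  have zt : z ∈ centralizer {t} := mem_centralizer_singleton_iff.2 (ht z (mem_zpowers z))
  refine mem_centralizer_singleton_iff.1 ((h.m.mem_im zt (h.YU hu)).1 (h.s.rg_le_span h.t (fun n => ?_)
    ((h.memY u).1 hu).2))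
  rw [← pow_mod_orderOf, h.s.five h.t, ← h.mk_yk he ee]
  exact ⟨_, h.YU (h.yk he _), mem_centralizer_singleton_iff.2
    (χ_zero.1 (congrFun k ⟨n % 5, Nat.mod_lt _ (by norm_num)⟩)).symm, rfl⟩

theorem pair {B : Subgroup G} (hB : B ≤ tY Y z) (nB : ∀ b ∈ B, e⁻¹ * b * e ∈ B) (hx : x ∈ B) (xD : x ∉ 𝐂 Y)
    (w : Fin 5 → ZMod 2) (hw : ∑ k, w k = 0) : ∃ b ∈ B, vec e y b = w :=
  shift_span (P := fun w => ∃ b ∈ B, vec e y b = w) ⟨1, one_mem _, funext fun _ => χ_zero.2 (by simp)⟩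
    (by rintro _ _ ⟨b, hb, rfl⟩ ⟨c, hc, rfl⟩; exact ⟨b * c, mul_mem hb hc, h.vec_mul he (hB hb) (hB hc)⟩)
    (by rintro _ ⟨b, hb, rfl⟩; exact ⟨_, nB b hb, h.vec_shift he ee (hB hb).1⟩) ⟨x, hx, rfl⟩
    (fun k => xD (h.vec_zero he ee (hB hx).1 k)) (h.vec_sum he ee (hB hx)) w hw

theorem sq_D (ht : t ∈ tY Y z) {b : G} (hb : b ∈ tY Y z) (k : vec e y b = vec e y t) : b * t ∈ 𝐂 Y :=
  h.vec_zero he ee (mul_mem hb ht).1 (by
    rw [h.vec_mul he hb ht, k]; funext j; exact CharTwo.add_self_eq_zero _)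

theorem idx16 (hx : x ∈ tY Y z) (xD : x ∉ 𝐂 Y) : (𝐂 Y).relIndex (tY Y z) = 16 := by
  let φ : tY Y z →* Multiplicative (Fin 4 → ZMod 2) := MonoidHom.mk'
    (fun t => Multiplicative.ofAdd fun k => vec e y t k.castSucc) fun s t => by
      rw [Subgroup.coe_mul, h.vec_mul he s.2 t.2]; rfl
  have k1 : φ.ker = (𝐂 Y).subgroupOf (tY Y z) := by
    ext t
    refine ⟨fun k => h.vec_zero he ee t.2.1 ?_, fun k => funext fun j => χ_zero.2 (k _ (h.yk he _)).symm⟩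
    have k2 : ∀ j : Fin 4, vec e y t j.castSucc = 0 := congrFun k
    have k3 := h.vec_sum he ee t.2
    rw [Fin.sum_univ_castSucc, Finset.sum_eq_zero fun j _ => k2 j, zero_add] at k3
    exact funext (Fin.lastCases k3 k2)
  have k2 : Function.Surjective φ := fun w => by
    obtain ⟨b, hb, k⟩ := h.pair he ee le_rfl (fun b => conj_mem_of_mem_normalizer' (n_tY he.1)) hx xD
      (Fin.snoc (α := fun _ => ZMod 2) w.toAdd (∑ j, w.toAdd j))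
      (by rw [Fin.sum_univ_castSucc, Fin.snoc_last]; simp [CharTwo.add_self_eq_zero])
    exact ⟨⟨b, hb⟩, funext fun j => by change vec e y b _ = _; rw [k]; simp; rfl⟩
  rw [relIndex, ← k1, index_ker, MonoidHom.range_eq_top.2 k2, card_top]
  simp

omit [Finite Γ] he ee in
theorem cwd (ht : t ∈ tY Y z) {w : G} (hw : w ∈ Y) (k : ⁅t, d⁆ ∈ zpowers z) : ⁅t, w * d⁆ ∈ zpowers z := by
  rw [cm_right]
  exact mul_mem (ht.2.2 w hw) (conj_mem_of_mem_normalizer (centralizer_le_normalizer _ (h.b.UH (h.YU hw))) k)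

omit [Finite Γ] in
theorem ed (hd : d ∈ 𝐂 Y) (hx : x ∈ eY Y z) (xD : x ∈ 𝐂 Y) : ⁅x, d⁆ ∈ zpowers z := by
  refine h.zero_of (hx.2.2 d hd) he.1.1 ee ?_
  rw [commutatorElement_eq_one_iff_mul_comm.2]
  · exact one_mem _
  have k1 := hd _ (he.2.2 d hd)
  have k2 := xD _ (he.2.2 d hd)
  have k3 := hd _ (he.2.2 x xD)
  have k4 := h.YD (he.2.2 d hd) _ (he.2.2 x xD)
  have k5 := xD _ (he.2.2 x xD)
  rw [← mul_inv_eq_iff_eq_mul, conjugate_commutatorElement,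
    show e * x * e⁻¹ = ⁅e, x⁆ * x by simp [commutatorElement_def],
    show e * d * e⁻¹ = ⁅e, d⁆ * d by simp [commutatorElement_def]]
  generalize ⁅e, x⁆ = v at *
  generalize ⁅e, d⁆ = w at *
  calc _ = v * (x * w) * d * x⁻¹ * (w * v)⁻¹ * (w * d * w⁻¹)⁻¹ := by simp only [commutatorElement_def]; group
    _ = v * w * ⁅x, d⁆ * d * (v * w)⁻¹ * d⁻¹ := by
      rw [← k2, k1, ← k4]; simp only [commutatorElement_def]; group
    _ = _ := by
      have c1 : Commute (v * w) ⁅x, d⁆ := by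
        have a : Commute (v * w) x := Commute.mul_left k5 k2
        have b : Commute (v * w) d := Commute.mul_left k3 k1
        exact ((a.mul_right b).mul_right a.inv_right).mul_right b.inv_right
      have c2 : Commute (v * w) d := Commute.mul_left k3 k1
      rw [c1.eq, mul_assoc _ (v * w), c2.eq]; group

variable (aY : a ∈ cj σ Y) (xY : x ∈ cj σ Y) (xT : x ∈ Tp V z) (xD : x ∉ 𝐂 Y)
include aY xY xT xD

theorem kd1 (hd : d ∈ 𝐂 Y) (k : ⁅x, d⁆ ∈ zpowers z) (ht : t ∈ eY Y z) (ht' : t ∈ tY Y z) : ⁅t, d⁆ ∈ zpowers z := by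
  obtain ⟨b, hb, k1⟩ := h.pair he ee (B := eY Y z ⊓ tY Y z ⊓ commStab {d} (zpowers z)) (inf_le_left.trans inf_le_right)
    (fun b hb => ⟨⟨conj_mem_of_mem_normalizer' (n_eY he.1) hb.1.1, conj_mem_of_mem_normalizer' (n_tY he.1) hb.1.2⟩,
      centralizer_le_normalizer _ (mul_mem (mul_mem (inv_mem he.1.1) hb.1.2.1) he.1.1), fun c hc => by
        rw [show c = d from hc, show ⁅e⁻¹ * b * e, d⁆ = e⁻¹ * ⁅b, ⁅e, d⁆ * d⁆ * e by
          simp only [commutatorElement_def]; group]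
        exact conj_mem_of_mem_normalizer' (centralizer_le_normalizer _ he.1.1)
          (h.cwd hb.1.2 (he.2.2 d hd) (hb.2.2 d rfl))⟩)
    ⟨⟨h.Y'E aY xY, h.TY xT⟩, centralizer_le_normalizer _ (Tp_le_c xT), fun c hc => (show c = d from hc) ▸ k⟩ xD _
    (h.vec_sum he ee ht')
  have k2 : b * t ∈ commStab {d} (zpowers z) := ⟨centralizer_le_normalizer _ (mul_mem hb.1.2.1 ht'.1), fun c hc =>
    (show c = d from hc) ▸ h.ed he ee hd (mul_mem hb.1.1 ht) (h.sq_D he ee ht' hb.1.2 k1)⟩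
  exact ((Subgroup.mul_mem_cancel_left _ hb.2).1 k2).2 d rfl

theorem kd2 (hd : d ∈ 𝐂 Y) (k : ⁅x, d⁆ ∈ zpowers z) : ∃ w ∈ Y, w * d ∈ dY Y z := by
  obtain ⟨v, hv, e1⟩ := rg_surj h.m.two (h.f.odd _ h.t.mem) (neg_mem ((h.memY _).1 (he.2.2 d hd)).2)
  obtain ⟨w, hw, rfl⟩ := h.m.mk_surj v
  have wY := (h.memY w).2 ⟨hw, hv⟩
  have m1 := mul_mem (h.YD wY) hd
  have nz : 𝐂 (zpowers z) ≤ 𝐍 (zpowers z) := centralizer_le_normalizer _
  have cY : ∀ g ∈ hY Y z, ∀ u ∈ Y, ⁅g, u⁆ ∈ Y := fun g hg u hu =>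
    mul_mem (conj_mem_of_mem_normalizer hg.2 hu) (inv_mem hu)
  have k1 : ⁅e, w * d⁆ ∈ zpowers z := by
    rw [cm_right, mem_centralizer_iff'.1 (h.YD wY) _ (he.2.2 d hd)]
    refine (h.m.mk_zero _ (h.YU (mul_mem (cY e he.1 w wY) (he.2.2 d hd)))).1 ?_
    rw [h.m.mk_mul _ (h.YU (cY e he.1 w wY)) _ (h.YU (he.2.2 d hd)), h.m.comm he.1.1 hw, ee, e1, neg_add_cancel]
  have k2 := fun t => h.kd1 he ee aY xY xT xD m1 (h.cwd (h.TY xT) wY k) (t := t)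
  refine ⟨w, wY, m1, nz (h.DH m1), fun g hg => cm_swap ?_⟩
  generalize w * d = c at *
  have gi := inv_mem hg
  obtain ⟨ψ, ⟨j, rfl⟩, k3⟩ := h.s.dich' h.t (γ := ac g⁻¹) (by
    rw [h.m.smul _ gi.1.1 _ (B3.VU h.b.zV h.b.yV)]
    exact ((h.memY _).1 (conj_mem_of_mem_normalizer gi.1.2 (h.VY h.b.yV))).2)
  obtain ⟨n, k4⟩ := h.s.norm_a h.t k3
  have m2 := conj_mem_of_mem_normalizer (n_eY gi.1) he
  have m3 := mul_mem m2 (inv_mem (pow_mem he n))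
  have k5 : g⁻¹ * e * g⁻¹⁻¹ * (e ^ n)⁻¹ ∈ Tp V z := (B3.ac_T h.m m3.1.1).1 (by
    rw [h.m.ac_mul _ m2.1.1 _ (inv_mem (pow_mem he n)).1.1, h.m.ac_conj gi.1.1 he.1.1, h.m.ac_inv (pow_mem he n).1.1,
      h.m.ac_pow he.1.1, ee, mul_inv_eq_one]
    calc _ = (η ^ j)⁻¹ * (η ^ j * ac g⁻¹ * η * (η ^ j * ac g⁻¹)⁻¹) * η ^ j := by group
      _ = _ := by rw [k4]; group)
  have eB : e ∈ commStab {c} (zpowers z) := ⟨nz he.1.1, fun c' hc => (show c' = c from hc) ▸ k1⟩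
  have k6 : g⁻¹ * e * g⁻¹⁻¹ ∈ commStab {c} (zpowers z) := by
    simpa using mul_mem (⟨nz m3.1.1, fun c' hc => (show c' = c from hc) ▸ k2 _ m3 (h.TY k5)⟩ :
      _ ∈ commStab {c} (zpowers z)) (pow_mem eB n)
  have k7 := conj_mem_of_mem_normalizer (nz hg.1.1) (k6.2 c rfl)
  rw [show g * ⁅g⁻¹ * e * g⁻¹⁻¹, c⁆ * g⁻¹ = ⁅e, ⁅g, c⁆ * c⁆ by simp only [commutatorElement_def]; group, cm_right] at k7
  exact h.zero_of (hg.2.2 c m1) he.1.1 ee ((mul_mem_cancel_right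
    (conj_mem_of_mem_normalizer (nz (h.b.UH (h.YU (hg.2.2 c m1)))) k1)).1 k7)

omit he ee xY xT xD in
theorem d_Y' : dY Y z ≤ 𝐂 (cj σ Y) := fun d hd b hb => by
  have k1 := fun b hb => hd.2.2 b (h.Y'E aY hb)
  rcases h.dsplit hd.1 with k | k
  · refine (commutatorElement_eq_one_iff_mul_comm.1 ?_).symm
    exact (mem_two h.b.zz (k1 b hb)).resolve_right fun e => (mem_two h.b.yy (e ▸ k b hb)).elim h.b.z1 h.b.yz.symm
  · obtain ⟨v, hv, n⟩ := h.exists_v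
    have := zpowers_le.2 h.b.yV (k _ (conj_mem_cj σ hv))
    rw [commutatorElement_mul_left_eq_conj_mul, mul_mem_cancel_right (zpowers_le.2 h.b.zV (k1 _ (conj_mem_cj σ hv))),
      ← conjugate_commutatorElement] at this
    have := conj_mem_of_mem_normalizer' h.σM (conj_mem_of_mem_normalizer' (centralizer_le_normalizer _ (h.DV hd.1)) this)
    exact (n (by simpa [mul_assoc] using this)).elim

omit he ee xY xT xD in
theorem d_W : dY Y z ≤ 𝐂 (ncl Y (𝐍 V)) := le_centralizer_iff.1 (ncl_le_iff.2 fun g hg => le_centralizer_iff.1 (by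
  have key : ∀ g ∈ 𝐍 V, g * z * g⁻¹ = y → dY Y z ≤ 𝐂 (cj g Y) := fun g hg k => by
    have m := mul_mem (inv_mem h.σM) hg
    rw [show g = σ * (σ⁻¹ * g) by group, cj_mul, cj_eq_of_mem_normalizer (h.MY (mem_c_of_conj_eq (by
      calc _ = σ⁻¹ * (g * z * g⁻¹) * σ := by group
        _ = _ := by rw [k, ← h.σz]; group)) m)]
    exact h.d_Y' aY
  rcases h.b.memV (conj_mem_of_mem_normalizer hg h.b.zV) with k | k | k | k
  · exact absurd k (conj_ne_one g h.b.z1)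
  · rw [cj_eq_of_mem_normalizer (h.MY (mem_c_of_conj_eq k) hg)]; exact inf_le_left
  · exact key g hg k
  · obtain ⟨q, hq, n⟩ := h.b.exists_q h.m h.f
    have qM := Ge.Tp_le_n (Ln.self V) h.b.zV hq
    have := cj_mono q (key (q⁻¹ * g) (mul_mem (inv_mem qM) hg) (by
      calc _ = q⁻¹ * (g * z * g⁻¹) * q := by group
        _ = _ := by rw [k, ← h.b.movy (Tp_le_c hq) qM n]; group))
    rwa [cj_eq_of_mem_normalizer (n_dY (h.tY_le (h.TY hq))), cj_centralizer, ← cj_mul, mul_inv_cancel_left] at this))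

theorem d_S : dY Y z ⊓ S ≤ zpowers z := by
  by_contra n
  obtain ⟨P, hP, ⟨p1, p2⟩, hm⟩ := exists_minimal_le (Q := fun P => S ≤ 𝐍 P ∧ ¬ P ≤ zpowers z) (dY Y z ⊓ S)
    ⟨le_normalizer_inf (h.SY.trans n_dY) le_normalizer, n⟩
  have p3 : ⁅P, S⁆ ≤ zpowers z := by_contra fun k => (commutator_lt (h.b.syl.isP.to_le (hP.trans inf_le_right))
    h.b.syl.isP p1 fun e => p2 (e ▸ bot_le)).ne
    (hm _ (commutator_le_of_le_normalizer p1) ⟨le_normalizer_commutator_right _ _, k⟩)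
  obtain ⟨c, hc, cn⟩ := SetLike.not_le_iff_exists.1 p2
  obtain ⟨cd, cS⟩ := hP hc
  obtain ⟨q, hq, k⟩ := h.pair he ee (B := eY Y z ⊓ tY Y z) inf_le_right (fun b hb =>
    ⟨conj_mem_of_mem_normalizer' (n_eY he.1) hb.1, conj_mem_of_mem_normalizer' (n_tY he.1) hb.2⟩)
    ⟨h.Y'E aY xY, h.TY xT⟩ xD ![1, 1, 0, 0, 0] (by decide)
  have qV : q ∉ 𝐂 V := fun e1 => by
    have : χ q (e ^ 0 * y * (e ^ 0)⁻¹) = 1 := congrFun k 0
    rw [χ_zero.2 (by simpa using (e1 y h.b.yV).symm)] at this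
    exact zero_ne_one this
  have qM : q ∈ 𝐍 V := mem_normalizer_of_conj_mem fun v hv => by
    simpa [commutatorElement_def] using mul_mem (zpowers_le.2 h.b.zV (hq.2.2.2 v (h.VY hv))) hv
  have l : commStab (𝐂 (ncl Y (𝐍 V)) : Subgroup G) V ≤ 𝐍 V := fun _ k => k.1
  have nN := n_commStab (le_normalizer_centralizer (le_normalizer_ncl Y (𝐍 V))) (le_refl (𝐍 V))
  have mq : q ∈ commStab (𝐂 (ncl Y (𝐍 V)) : Subgroup G) V := ⟨qM, fun d hd => zpowers_le.2 h.b.zV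
    (h.kd1 he ee aY xY xT xD (centralizer_anti (le_ncl _ _) hd) (by
      rw [commutatorElement_eq_one_iff_mul_comm.2 (hd x (cj_le_ncl h.σM xY))]; exact one_mem _) hq.1 hq.2)⟩
  have cV := h.DV cd.1
  have hc' := fun n (hn : n ∈ commStab (𝐂 (ncl Y (𝐍 V)) : Subgroup G) V) => hn.2 c (h.d_W aY cd)
  have cc : c * c = 1 := by_contra fun n1 => by
    have m : c * c ∈ S ⊓ 𝐂 (commStab (𝐂 (ncl Y (𝐍 V)) : Subgroup G) V) := ⟨mul_mem cS cS, fun n hn => by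
      have k1 := h.b.four.sq _ (hc' n hn)
      have k2 := cV _ (hc' n hn)
      calc _ = ⁅n, c⁆ * (c * ⁅n, c⁆) * c * n := by simp only [commutatorElement_def]; group
        _ = _ := by rw [← k2, ← mul_assoc, k1, one_mul]⟩
    have := z_mem h.b.toGe inf_le_left (le_normalizer_inf le_normalizer (h.b.le.trans (le_normalizer_centralizer nN)))
      fun e => n1 (mem_bot.1 (e ▸ m))
    obtain ⟨k, hk, k3, kV⟩ := exists_three h.b.toGe l nN mq hq.2.1 qV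
    exact h.b.z1 (four_fpf h.b.four (l hk) k3 kV h.b.zV (by rw [this.2 k hk, mul_inv_cancel_right]))
  have c1 : c ∉ V := fun k => cn (h.zero_of (h.VY k) he.1.1 ee (cm_swap (cd.2.2 e he)))
  obtain ⟨r, -, -, rS, k1⟩ := aff h.b.toGe l nN mq hq.2.1 qV cV cc c1 hc' h.b.yV
  exact (mem_two h.b.zz (k1 ▸ cm_swap (p3 (commutator_mem_commutator hc rS)))).elim h.b.y1 h.b.yz

theorem d_Z : dY Y z ≤ zpowers z := fun d hd => by
  have k := h.d_S he ee aY xY xT xD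
  have l : dY Y z ≤ hY Y z := inf_le_left.trans (h.D_le.trans h.tY_le)
  refine mem_of_parts (p := 2) (isOfFinOrder_of_finite d) (fun n o => ?_) fun n j o => ?_
  · have m := pow_mem hd n
    generalize d ^ n = c at *
    have nQ := le_normalizer_pCoreOf 2 _ (l m).1
    rw [eq_one_of_mem_isPGroup (isPGroup_pCoreOf 2 _) (h.b.charH ⟨(l m).1, fun s hs => ?_⟩) o]
    · exact one_mem _
    have k1 : ⁅c, s⁆ ∈ zpowers z := k ⟨show ⁅c, s⁆ ∈ dY Y z by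
      simpa only [commutatorElement_def, mul_assoc] using
        mul_mem m (conj_mem_of_mem_normalizer (n_dY (h.SY (h.b.QS hs))) (inv_mem m)),
      h.b.QS (mul_mem (conj_mem_of_mem_normalizer nQ hs) (inv_mem hs))⟩
    refine (mem_centralizer_singleton_iff.1 (mem_of_pow_mem_coprime_orderOf o ?_)).symm
    refine mem_centralizer_singleton_iff.2 (commutatorElement_eq_one_iff_mul_comm.1 ?_)
    rw [pow_two, commutatorElement_mul_left_eq_conj_mul, mem_centralizer_iff'.1 (l m).1 _ k1]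
    rcases mem_two h.b.zz k1 with e | e <;> simp [e, h.b.zz]
  · obtain ⟨g, hg, k1⟩ := (h.b.syl.mono h.SY le_top).exists_conj_mem (l (pow_mem hd n)) o
    simpa [mul_assoc] using conj_mem_of_mem_normalizer' (centralizer_le_normalizer _ hg.1)
      (k ⟨conj_mem_of_mem_normalizer (n_dY hg) (pow_mem hd n), k1⟩)

theorem kd (hd : d ∈ 𝐂 Y) (k : ⁅x, d⁆ ∈ zpowers z) : d ∈ Y := by
  obtain ⟨w, hw, k1⟩ := h.kd2 he ee aY xY xT xD hd k
  exact (mul_mem_cancel_left hw).1 (h.ZY (h.d_Z he ee aY xY xT xD k1))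

theorem Y_eq : Y = Up V z := le_antisymm h.YU fun u hu => h.kd he ee aY xY xT xD
  (centralizer_anti h.YU (h.b.Up_ab h.b.colz hu)) ((mem_Tp.1 xT).2 u hu)

theorem twoD (hd : d ∈ 𝐂 Y) {c : G} (hc : c ∈ 𝐂 Y) (n1 : d ∉ Y) (n2 : c ∉ Y) : d * c ∈ Y := by
  have key : ∀ d ∈ 𝐂 Y, d ∉ Y → ⁅x, d⁆ ∈ V ∧ ⁅x, d⁆ ∉ zpowers z := fun d hd n => by
    refine ⟨cm_swap ?_, fun k => n (h.kd he ee aY xY xT xD hd k)⟩
    rcases h.dsplit hd with k | k
    · exact zpowers_le.2 h.b.yV (k x xY)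
    · have := zpowers_le.2 h.b.yV (k x xY)
      rwa [commutatorElement_mul_left_eq_conj_mul, mul_mem_cancel_left (conj_mem_of_mem_normalizer
        (centralizer_le_normalizer _ (h.DV hd)) (zpowers_le.2 h.b.zV (cm_swap ((h.TY xT).2.2 _ (h.σσ aY)))))] at this
  refine h.kd he ee aY xY xT xD (mul_mem hd hc) ?_
  rw [cm_right, mem_centralizer_iff'.1 (h.DV hd) _ (key c hc n2).1]
  exact two_of_relIndex (h.b.four.relIndex_of_card (zpowers_le.2 h.b.zV) (card_two h.b.zz h.b.z1)) _ (key d hd n1).1 _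
    (key c hc n2).1 (key d hd n1).2 (key c hc n2).2

theorem ti : Ti S V := by
  have eY := h.Y_eq he ee aY xY xT xD
  have top : ∀ w, w ∈ rg W η := fun w => by
    obtain ⟨u, hu, rfl⟩ := h.m.mk_surj w
    exact ((h.memY u).1 (eY ▸ hu)).2
  have eT : tY Y z = Tp V z := by rw [eY]; rfl
  have oz : orderOf z = 2 := orderOf_eq_prime (by rw [pow_two, h.b.zz]) h.b.z1
  have t8 : ∀ t ∈ Tp V z, t ^ 2 ^ 3 = 1 := fun t ht => by
    have k1 := h.sq_D he ee (h.TY ht) (h.TY ht) rfl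
    have k2 : t * t * (t * t) ∈ Y := by
      by_cases c : t * t ∈ Y
      exacts [mul_mem c c, h.twoD he ee aY xY xT xD k1 k1 c c]
    rw [← h.b.Up_sq h.b.colz (h.YU k2)]; simp only [← pow_two, ← pow_mul]; norm_num
  have eQ : pCoreOf 2 (𝐂 (zpowers z)) = Tp V z := le_antisymm h.b.QT
    (le_pCoreOf (isPGroup_iff_mem.2 fun t ht => ⟨3, t8 t ht⟩) Tp_le_c (c_le_n_Tp V z))
  have TS : Tp V z ≤ S := eQ ▸ h.b.QS
  obtain ⟨s, sS, hs⟩ : ∃ s ∈ S, ac s * η * (ac s)⁻¹ = η ^ 2 := by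
    obtain ⟨i, -, hi, e1⟩ := h.s.iI
    obtain ⟨-, r, rS, rV, k⟩ := h.b.affI h.m h.f hi fun n => (e1 ▸ h.b.mkV h.m n).elim h.s.i0 h.s.iy
    have rH := h.b.S_le rS
    have n : ac r • mk i ≠ mk i := fun n => (mem_two h.b.zz (k ▸ (h.m.fix rH hi.1).1 n)).elim h.b.y1 h.b.yz
    rcases h.s.cases4 h.t (h.b.comm_a h.m h.f h.aA h.aT rH (h.b.le rS)) with j | j | ⟨j | j, -⟩
    · exact (n (j (top _))).elim
    · refine (n ?_).elim
      have : (ac r * ac a) • mk i = mk i := j (top _)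
      rwa [mul_smul, h.s.fixI _ ⟨i, hi.1, hi, rfl⟩] at this
    · exact ⟨r, rS, j⟩
    · refine ⟨r⁻¹, inv_mem rS, ?_⟩
      have : ac r * η ^ 2 * (ac r)⁻¹ = η := by
        rw [← conj_pow, j, ← pow_mul, ← pow_mod_orderOf, h.s.five h.t]; norm_num
      rw [h.m.ac_inv rH]; conv_lhs => rw [← this]
      group
  have sH := h.b.S_le sS
  obtain ⟨gen, c20⟩ := h.s.top_gen h.t top (h.b.comm_a h.m h.f h.aA h.aT sH (h.b.le sS)) hs
  have cs : ∀ g ∈ 𝐂 (zpowers z), ac g * ac a = ac a * ac g → ∃ n : ℕ, g * (s ^ n)⁻¹ ∈ Tp V z := fun g hg k => by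
    obtain ⟨n, hn⟩ := mem_powers_iff_mem_zpowers.2 (gen _ k)
    exact ⟨n, (B3.ac_T h.m (mul_mem hg (inv_mem (pow_mem sH n)))).1 (by
      rw [h.m.ac_mul _ hg _ (inv_mem (pow_mem sH n)), h.m.ac_inv (pow_mem sH n), h.m.ac_pow sH, mul_inv_eq_one]
      exact hn.symm)⟩
  have m16 : e ^ 16 ∈ 𝐂 (zpowers z) := pow_mem he.1.1 16
  have e16 : ac (e ^ 16) = η := by rw [h.m.ac_pow he.1.1, ee, ← pow_mod_orderOf, h.s.five h.t]; norm_num
  have nb : Nat.card ↥(Up V z ⊓ Up V y) = 8 := by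
    have : Up V z ⊓ Up V y = h.m.pre (h.m.im (Up V z ⊓ Up V y)) := by
      ext u
      exact ⟨fun k => ⟨k.1, u, k.1, k, rfl⟩, fun k => (h.m.mem_im (h.b.VI h.b.zV) k.1).1 k.2⟩
    rw [this, h.m.card_pre (B3.VU h.b.zV h.b.zV), h.s.cardI, oz]
  refine ⟨h.b.toF4, ?_, ?_, ?_, ⟨e ^ 16, h.b.fH_eq ▸ m16, s, sS, ?_, ?_, ?_, ?_, ?_⟩, ?_, ?_, ?_, fun g hg gH => ?_⟩ <;>
    try simp only [← h.b.Up_z, ← h.b.Tp_z, h.b.fH_eq, eQ]
  · have : Up V z = h.m.pre (rg W η) := eY.symm.trans (Subgroup.ext h.memY)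
    rw [this, h.m.card_pre (B3.VU h.b.zV h.b.zV), h.s.card_rg h.t.mem h.t.inv h.t.ne, oz]
  · have : h.m.hom.ker = (Tp V z).subgroupOf _ := by ext g; exact B3.ac_T h.m g.2
    rw [relIndex, ← this, index_ker, MonoidHom.range_eq_top.2 h.m.hom_surj, card_top, c20]
  · have := t8 _ ((B3.ac_T h.m (pow_mem he.1.1 5)).1 (by rw [h.m.ac_pow he.1.1, ee, h.s.pow5 h.t]))
    rw [← pow_mul, show 16 * 5 = 5 * 2 ^ 3 * 2 by norm_num, pow_mul, pow_mul, this, one_pow]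
  · exact fun k => h.t.ne (e16 ▸ (B3.ac_T h.m m16).2 k)
  · have m1 := mul_mem (mul_mem sH m16) (inv_mem sH)
    refine (B3.ac_T h.m (mul_mem (inv_mem (pow_mem m16 2)) m1)).1 ?_
    rw [h.m.ac_mul _ (inv_mem (pow_mem m16 2)) _ m1, h.m.ac_conj sH m16, h.m.ac_inv (pow_mem m16 2), h.m.ac_pow m16, e16,
      hs, inv_mul_cancel]
  · intro g hg
    obtain ⟨n, k⟩ := cs g (h.b.S_le hg) (h.b.comm_a h.m h.f h.aA h.aT (h.b.S_le hg) (h.b.le hg))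
    simpa using mul_mem (mem_sup_left k) (mem_sup_right (npow_mem_zpowers s n) : _ ∈ Tp V z ⊔ zpowers s)
  · intro g hg
    obtain ⟨ψ, mψ, k⟩ := h.s.dich' h.t (top (ac g • mk y))
    obtain ⟨j, rfl⟩ := mem_powers_iff_mem_zpowers.2 mψ
    obtain ⟨n, k1⟩ := cs _ (mul_mem (pow_mem m16 j) hg) (by
      rw [h.m.ac_mul _ (pow_mem m16 j) _ hg, h.m.ac_pow m16, e16]; exact k)
    simpa [mul_assoc] using mul_mem (inv_mem (mem_sup_right (npow_mem_zpowers (e ^ 16) j) : _ ∈ S ⊔ zpowers (e ^ 16)))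
      (mem_sup_left (mul_mem (TS k1) (pow_mem sS n)))
  · rw [← eT, ← eY]; exact h.idx16 he ee (h.TY xT) xD
  · exact Ge.c_le_Tp h.b.colz
  · rw [← eY]
    refine Nat.le_of_dvd two_pos (relIndex_dvd_two_iff.2 ?_)
    by_cases c : 𝐂 Y ≤ Y
    · exact ⟨1, one_mem _, fun b hb => .inr (c hb)⟩
    · obtain ⟨c, hc, n⟩ := SetLike.not_le_iff_exists.1 c
      exact ⟨c, hc, fun b hb => (em _).symm.imp_left fun k => h.twoD he ee aY xY xT xD hb hc k n⟩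
  · rw [cj_Up]
    rcases h.b.memV (conj_mem_of_mem_normalizer hg h.b.zV) with k | k | k | k
    · exact absurd k (conj_ne_one g h.b.z1)
    · exact absurd (h.b.fH_eq ▸ mem_c_of_conj_eq k) gH
    · exact k ▸ ⟨h.b.nT, nb⟩
    · obtain ⟨q, hq, n⟩ := h.b.exists_q h.m h.f
      rw [k, ← h.b.movy (Tp_le_c hq) (Ge.Tp_le_n (Ln.self V) h.b.zV hq) n, ← cj_Up,
        ← cj_eq_of_mem_normalizer (c_le_n_Up V z (Tp_le_c hq)), ← cj_inf, card_cj, ← cj_eq_of_mem hq, cj_le_cj_iff]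
      exact ⟨h.b.nT, nb⟩

end En
end H13.FFa

namespace H13
open Cfsg Subgroup H26 H4 H118 FFa
universe u

theorem ff : H26.FF.{u} := fun G _ _ S V h g hg hn => by
  obtain ⟨z, h1⟩ := exists_ge h
  rw [← h1.Up_z, cj_Up] at hn ⊢
  have b : B3 S V z (g * z * g⁻¹) := ⟨h1, conj_mem_of_mem_normalizer hg h1.zV, conj_ne_one g h1.z1,
    fun e => hn (e.symm ▸ h1.Up_ab h1.colz), hn⟩
  refine (em _).imp_right fun hI => ?_
  obtain ⟨Γ, W, _, _, _, _, _, mk, ac, m⟩ := exists_md (h1.Up_ea h1.colz) (c_le_n_Up V z) le_rfl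
  obtain ⟨F, f⟩ := b.exists_fi m
  obtain ⟨a, ha, n⟩ := SetLike.not_le_iff_exists.1 b.nT
  obtain ⟨i₀, s⟩ := b.st4 m f ha n hI
  obtain ⟨η, t⟩ := s.exists_et
  obtain ⟨σ, σM, σz, σy⟩ := b.swap
  obtain ⟨a', aY, k⟩ := En.exists_a (Y := m.pre (rg W η)) ⟨b, m, f, s, t, fun _ => Iff.rfl, σM, σz, σy, ha, n⟩
  obtain ⟨x, xY, xT, xD⟩ := k.exists_x aY
  obtain ⟨e, he, ee⟩ := k.exists_e aY
  exact k.ti he ee aY xY xT xD

end H13
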