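import Mathlib

/-! A prime `p ≡ 3 (mod 20)`, `p ≡ -1 (mod l)`: `-5` is a square mod `p`. -/

set_option autoImplicit false

namespace H13.AmD

theorem sq5 (p : ℕ) (hp : p.Prime) (h : p % 20 = 3) : IsSquare (-5 : ZMod p) := by
  haveI := Fact.mk hp
  have ho : Odd p := Nat.odd_iff.2 (by omega)
  have h1 : jacobiSym (-5) p = 1 := by
    have e : jacobiSym ((5 : ℕ) : ℤ) p = jacobiSym p 5 :=
      jacobiSym.quadratic_reciprocity_one_mod_four (by norm_num) ho
    have e2 : jacobiSym (p : ℤ) 5 = -1 := by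
      rw [jacobiSym.mod_left, show (p : ℤ) % (5 : ℕ) = 3 by omega]
      norm_num
    have e3 : jacobiSym (-1) p = -1 := by
      rw [jacobiSym.at_neg_one ho, ZMod.χ₄_nat_three_mod_four (by omega)]
    have : (-5 : ℤ) = -1 * ((5 : ℕ) : ℤ) := by norm_num
    rw [this, jacobiSym.mul_left, e, e2, e3]; norm_num
  have := ZMod.isSquare_of_jacobiSym_eq_one h1
  simpa using this

theorem pD (l : ℕ) (hl : l.Prime) (h2 : l ≠ 2) (h5 : l ≠ 5) :
    ∃ p : ℕ, p.Prime ∧ p % 4 = 3 ∧ IsSquare (-5 : ZMod p) ∧ l ∣ p + 1 := by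
  have c : Nat.Coprime 20 l := by
    rw [show 20 = 2 ^ 2 * 5 by norm_num]
    exact Nat.Coprime.mul_left (Nat.Coprime.pow_left _ ((Nat.coprime_primes Nat.prime_two hl).2 h2.symm))
      ((Nat.coprime_primes (by norm_num) hl).2 h5.symm)
  obtain ⟨a, h1, h3⟩ := Nat.chineseRemainder c 3 (l - 1)
  have l1 := hl.one_lt
  have ca : a.Coprime (20 * l) := by
    refine Nat.Coprime.mul_right ?_ ?_
    · rw [Nat.Coprime, h1.gcd_eq]; norm_num
    · rw [Nat.Coprime, h3.gcd_eq]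
      have : (l - 1).Coprime (l - 1 + 1) := by simp
      rwa [Nat.sub_add_cancel l1.le] at this
  obtain ⟨p, -, hp, e⟩ := Nat.forall_exists_prime_gt_and_modEq 0 (q := 20 * l) (by omega) ca
  have e1 : p % 20 = 3 := ((e.of_mul_right l).trans h1)
  have e2 : p + 1 ≡ l - 1 + 1 [MOD l] := ((e.of_mul_left 20).trans h3).add_right 1
  rw [Nat.sub_add_cancel l1.le] at e2
  exact ⟨p, hp, by omega, sq5 p hp e1, (Nat.modEq_zero_iff_dvd).1 (e2.trans (Nat.modEq_zero_iff_dvd.2 dvd_rfl))⟩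

end H13.AmD
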