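import Cfsg.Agent.H13.CitJ
import Cfsg.Agent.H17.Dich
import Cfsg.Agent.H18.Bender
import Cfsg.Agent.H21.Crit
import Cfsg.Agent.H22.QD
import Cfsg.Agent.H22.GW
import Cfsg.Agent.H2.LyE
import Cfsg.Agent.S0516

/-! Groups whose involution centralizers are 2-nilpotent (`C2N`): odd elements commuting with an involution of
`N(D)` centralize `D` (`C2N.cent`), and Gorenstein's theorem for simple groups (`C2N.simple`: CIT or dihedral
Sylow 2-subgroups). -/

set_option autoImplicit false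
open Cfsg H18 Subgroup
open H5 (piNat_two_compl A1)
open H21 (PNil)
open scoped MatrixGroups

namespace H13
universe u

/-- all involution centralizers have a normal 2-complement -/
def C2N (G : Type*) [Group G] : Prop := ∀ t : G, t * t = 1 → t ≠ 1 → PNil 2 C1(t)

variable {G : Type u} [Group G] [Finite G] {D H Q S X : Subgroup G} {n t w x : G}

theorem c2n_of (h : ∀ t : G, orderOf t = 2 → HasNormalPComplement 2 C1(t)) : C2N G := fun t t2 t1 =>
  (hasNormalPComplement_iff Nat.prime_two).1 (h t (H9.orderOf_eq_two.2 ⟨t2, t1⟩))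

namespace C2N
variable (hG : C2N G)
include hG

theorem cent (hD : PiGrp {2} D) (hx : Odd (orderOf x)) (xn : x ∈ N(D)) (ht : PiElt {2} t) (t1 : t ≠ 1)
    (tn : t ∈ N(D)) (e : x * t = t * x) : x ∈ C(D) := by
  obtain ⟨u, hu, u2, u1⟩ := exists_inv_zpowers ht t1
  have xu : x ∈ C1(u) := C1_le_of_mem_zpowers hu (mem_C1.2 e)
  have hx' : PiElt {2}ᶜ x := piNat_two_compl.2 hx
  refine PxQ (two_elt u2).zpowers hx'.zpowers hD (by rw [C_zpowers, zpowers_le]; exact mem_C1.2 (mem_C1.1 xu).symm)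
    (zpowers_le.2 (zpowers_le.2 tn hu)) (zpowers_le.2 xn) ?_ (mem_zpowers x)
  rw [C_zpowers]
  exact cent_symm (zpowers_le.2 ((hG u u2 u1).cent hD.inf_left inf_le_right
    ⟨xu, inf_normalizer_le_normalizer_inf ⟨xn, le_N xu⟩⟩ hx'))

theorem cit_of_se [IsSimpleGroup G] (h : IsStronglyEmbedded H) : CIT G := fun x t ho t2 e => by
  obtain ⟨Q, s, hA, hQ⟩ := H9.bender_simple h
  have se := sein_top.2 h
  have hO := H9.O_eq_bot_of_simple (G := G) (se.even.trans_dvd (card_subgroup_dvd_card H))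
  have hS : Hall {2} Q ⊤ := hall_of_norm Nat.prime_two (hA.sd.hall_left hQ (piNat_two_compl.2 hA.odd))
    ((top_inf_eq _).ge.trans (se.norm_le hA.leQ hA.even))
  wlog tQ : t ∈ Q generalizing x t
  · obtain ⟨g, -, l⟩ := sylow_le_cj Nat.prime_two hS (two_elt t2).zpowers le_top
    simpa using this (g * x * g⁻¹) (g * t * g⁻¹) (by rwa [orderOf_conj]) (H9.conj_sq t2 g) (by simp [mul_assoc, ← e]; rw [← mul_assoc t, ← e, mul_assoc])
      (l (conj_mem_cj (mem_zpowers t)))
  refine or_iff_not_imp_right.2 fun t1 => ?_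
  have xH : x ∈ H := se.C1_le (hA.leQ tQ) t2 t1 ⟨trivial, mem_C1.2 e⟩
  have xC := hG.cent hQ ho (hA.sd.nml.norm xH) (two_elt t2) t1 (le_N tQ) e
  obtain ⟨q, hq, d, hd, rfl⟩ := hA.sd.mem_iff.1 xH
  have c : q⁻¹ * (q * d) = q * d * q⁻¹ := mem_C.1 xC _ (inv_mem hq)
  have : q⁻¹ = 1 := by
    rw [← piPart_eq c (hQ.elt (inv_mem hq)) (piNat_two_compl.2 ho), inv_mul_cancel_left]
    exact piPart_eq_one (PiGrp.elt (piNat_two_compl.2 hA.odd) hd)
  obtain rfl := inv_eq_one.1 this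
  exact mem_bot.1 (A1.ker_eq_bot hA hO ▸ (⟨by rwa [one_mul], xC⟩ : 1 * d ∈ _ ⊓ C(Q)))

theorem cit_of_core (h : ∀ t : G, orderOf t = 2 → O[{2}ᶜ](C1(t)) = ⊥) : CIT G := fun x t ho t2 e =>
  or_iff_not_imp_right.2 fun t1 => mem_bot.1 (h t (H9.orderOf_eq_two.2 ⟨t2, t1⟩) ▸
    (hG t t2 t1).mem_of_nml pcore_nml.norm (mem_C1.2 e) (piNat_two_compl.2 ho))

theorem not_ab (h2 : ∀ H : Subgroup G, H.index ≠ 2) {P : Sylow 2 G} (h : H3.AB P X w x) (w2 : w * w ≠ 1) : False := by
  have hP : PiGrp {2} (P : Subgroup G) := piGrp_of_isPGroup Nat.prime_two h.pg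
  have wP := h.le h.hw
  have := H22.res_le P (H22.ab_norm h) fun D hD hc n hn ho h3 a ha => by
    obtain rfl | c | ⟨v, -, c⟩ := H22.crit h hD hc hn ho h3
    · exact mul_mem (inv_mem ha) (conj_mem_N hn ha)
    · exact absurd (mem_bot.1 c.qd.sb) w2
    · exact absurd (hG.cent (hP.of_le hD) ho hn (hP.elt wP) (by rintro rfl; exact w2 (one_mul 1))
        (C_le_N (mem_C.2 fun d hd => h.cen d (hD hd))) c) h3
  rw [H22.res_eq_top h2, top_inf_eq] at this
  exact absurd (h.idx.symm.trans (relIndex_eq_one_iff.2 this)) (by decide)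

theorem not_qd (h2 : ∀ H : Subgroup G, H.index ≠ 2) {P : Sylow 2 G} (h : IsQuasiDihedral (P : Subgroup G)) : False := by
  obtain ⟨k, x, y, h⟩ := H22.exists_qd h
  obtain ⟨D, n, v, c, hn, ho, e⟩ := h.exists_q (h.of_no2 h2).2
  have hP : PiGrp {2} (P : Subgroup G) := piGrp_of_isPGroup Nat.prime_two h.ab.pg
  have := hG.cent (hP.of_le c.le) ho hn (two_elt h.mc.u_mul_u) h.mc.u_ne_one
    (C_le_N (mem_C.2 fun d hd => h.ab.cen d (c.le hd))) e
  exact c.out (by rw [← mem_C.1 this v c.qd.hb, mul_inv_cancel_right]; exact c.hv)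

/-- Gorenstein's theorem -/
theorem simple [IsSimpleGroup G] (hn : ¬ IsMulCommutative G) : CIT G ∨ H22.Kn G := by
  by_cases h3 : PRankLE 2 2 G
  · obtain ⟨S⟩ : Nonempty (Sylow 2 G) := inferInstance
    have := Fintype.ofFinite (GaloisField 2 4)
    have h1 := Nat.card_eq_fintype_card.symm.trans (GaloisField.card 2 4 (by decide))
    obtain ⟨P⟩ : Nonempty (Sylow 2 (PSU 3 (GaloisField 2 4) 4)) := inferInstance
    have h2 : ∀ H : Subgroup G, H.index ≠ 2 := fun H e => by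
      obtain rfl | rfl := (normal_of_index_eq_two e).eq_bot_or_eq_top
      · exact hn (isCyclic_of_prime_card (index_bot.symm.trans e)).isMulCommutative
      · simp at e
    obtain ⟨m, -, ⟨e⟩⟩ | h | h | h := Cfsg.Agent.S0516.result hn h3 S h1 P
    · exact Or.inr (H22.gw_sylow hn S e)
    · exact (hG.not_qd h2 h).elim
    · obtain ⟨m, X, a, b, z, h⟩ := H3.wr_of_isW h
      refine (hG.not_ab h2 h.abs fun e => h.u_ne ?_).elim
      rw [pow_succ', pow_mul, pow_two, e, one_pow]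
    · exact let ⟨_, h⟩ := H2.lyons_se h1 S P h; Or.inl (hG.cit_of_se h)
  · have hc : ∀ t : G, orderOf t = 2 → H17.pLay 2 C1(t) = ⊥ := fun t ht =>
      H17.pLay_C1_of_solv (hG t (H9.mul_self_of_orderOf ht) (H9.ne_one_of_orderOf ht)).solv_two
    obtain h | ⟨M, h, -⟩ := H17.dich hc h3 (H17.index_ne_two_of_simple h3)
    · exact Or.inl (hG.cit_of_core fun t ht => le_bot_iff.1 (H17.oddCore_eq_bot_of_simple
        (H17.even_of_not_prankLE h3) ▸ H17.core_eq_pcore (t := t) ▸ h t ht))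
    · exact Or.inl (hG.cit_of_se h)
end C2N
end H13
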