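import Cfsg.Agent.H20.QP4
import Cfsg.Agent.H1.Coprime

/-! Equivariant `p`-stability, part 1: partner pairs of minimal quadratic elements whose root groups lie in one class
fall into at most two orbits under the group generated by the root groups (`EQ.three`). -/

set_option autoImplicit false
set_option linter.unusedSectionVars false
set_option linter.unusedVariables false

namespace H13.EQ
open Subgroup H28 H20.QP LinearMap Module

theorem half {X Y : Type*} [AddCommGroup X] [DecidableEq Y] (T : Finset X) (f : X → Y)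
    (hf : ∀ s ∈ T, ∀ s' ∈ T, f s = f s' → s = s' ∨ s = -s') : T.card ≤ 2 * (T.image f).card := by
  classical
  refine Finset.card_le_mul_card_image T 2 fun b hb => ?_
  obtain ⟨s, hs, rfl⟩ := Finset.mem_image.1 hb
  refine (Finset.card_le_card (t := {s, -s}) fun x hx => ?_).trans Finset.card_le_two
  rw [Finset.mem_filter] at hx
  simpa using hf x hx.1 s hs hx.2

theorem half' {X Y : Type*} [AddCommGroup X] [DecidableEq Y] (T : Finset X) (h0 : 0 ∈ T) (f : X → Y)
    (hf : ∀ s ∈ T, ∀ s' ∈ T, f s = f s' → s = s' ∨ s = -s') : T.card < 2 * (T.image f).card := by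
  classical
  have h1 := half (T.erase 0) f fun s hs s' hs' => hf s (Finset.mem_of_mem_erase hs) s' (Finset.mem_of_mem_erase hs')
  have h2 : f 0 ∉ (T.erase 0).image f := fun h => by
    obtain ⟨s, hs, e⟩ := Finset.mem_image.1 h
    exact Finset.ne_of_mem_erase hs (by simpa using hf s (Finset.mem_of_mem_erase hs) 0 h0 e)
  have h3 := Finset.card_insert_of_notMem h2
  rw [← Finset.image_insert, Finset.insert_erase h0] at h3
  have := Finset.card_erase_add_one h0
  omega

universe u
variable {k : Type u} [Field k]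

theorem noAnti {R : Type*} [Ring R] [Finite R] [Algebra k R] (h2 : (2 : k) ≠ 0) (J : Submodule k R)
    (hj : ∀ a ∈ J, ∀ c ∈ J, a * c + c * a ∈ J) (hd : ∀ a ∈ J, ∀ c ∈ J, a * c = 0 → a = 0 ∨ c = 0)
    {u v : R} (hu : u ∈ J) (hv : v ∈ J) (h : u * v + v * u = 0) : u = 0 ∨ v = 0 := by
  classical
  have := Fintype.ofFinite R
  have hm : ∀ a ∈ J, ∀ c ∈ J, a * c = c * a → a * c ∈ J := fun a ha c hc e => by
    have := J.smul_mem (2 : k)⁻¹ (hj a ha c hc)
    rwa [← e, ← two_smul k, smul_smul, inv_mul_cancel₀ h2, one_smul] at this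
  let T : Finset R := Finset.univ.filter fun t => t ∈ J ∧ Commute t u ∧ Commute t v ∧
    ∀ c, Commute c u → Commute c v → Commute t c
  have hT : ∀ t, t ∈ T ↔ t ∈ J ∧ Commute t u ∧ Commute t v ∧ ∀ c, Commute c u → Commute c v → Commute t c :=
    fun t => by simp [T]
  have cm : ∀ s ∈ T, ∀ t ∈ T, Commute s t := fun s hs t ht =>
    ((hT s).1 hs).2.2.2 t ((hT t).1 ht).2.1 ((hT t).1 ht).2.2.1
  have mul : ∀ s ∈ T, ∀ t ∈ T, s * t ∈ T := fun s hs t ht => by
    obtain ⟨a1, a2, a3, a4⟩ := (hT s).1 hs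
    obtain ⟨b1, b2, b3, b4⟩ := (hT t).1 ht
    exact (hT _).2 ⟨hm _ a1 _ b1 (cm s hs t ht), a2.mul_left b2, a3.mul_left b3,
      fun c h1 h2 => (a4 c h1 h2).mul_left (b4 c h1 h2)⟩
  have add : ∀ s ∈ T, ∀ t ∈ T, s + t ∈ T := fun s hs t ht => by
    obtain ⟨a1, a2, a3, a4⟩ := (hT s).1 hs
    obtain ⟨b1, b2, b3, b4⟩ := (hT t).1 ht
    exact (hT _).2 ⟨add_mem a1 b1, a2.add_left b2, a3.add_left b3,
      fun c h1 h2 => (a4 c h1 h2).add_left (b4 c h1 h2)⟩
  have h0 : (0 : R) ∈ T := (hT _).2 ⟨zero_mem _, Commute.zero_left _, Commute.zero_left _, fun c _ _ => Commute.zero_left _⟩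
  have huu : u * u ∈ T := (hT _).2 ⟨hm _ hu _ hu rfl, (Commute.refl u).mul_left (Commute.refl u),
    show u * u * v = v * (u * u) by linear_combination (norm := noncomm_ring) u * h - h * u,
    fun c h1 _ => h1.symm.mul_left h1.symm⟩
  have hvv : v * v ∈ T := (hT _).2 ⟨hm _ hv _ hv rfl,
    show v * v * u = u * (v * v) by linear_combination (norm := noncomm_ring) v * h - h * v,
    (Commute.refl v).mul_left (Commute.refl v), fun c _ h1 => h1.symm.mul_left h1.symm⟩
  have sq : ∀ s ∈ T, ∀ s' ∈ T, s * s = s' * s' → s = s' ∨ s = -s' := fun s hs s' hs' e => by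
    have := hd _ (sub_mem ((hT s).1 hs).1 ((hT s').1 hs').1) _ (add_mem ((hT s).1 hs).1 ((hT s').1 hs').1) (by
      linear_combination (norm := noncomm_ring) e + (cm s hs s' hs').eq)
    rwa [sub_eq_zero, add_eq_zero_iff_eq_neg] at this
  by_contra hc
  push Not at hc
  have uu : u * u ≠ 0 := fun e => hc.1 (by simpa using hd _ hu _ hu e)
  have a1 := half' T h0 (fun s => s * s) sq
  have a2 := half' T h0 (fun t => t * t * (u * u) + v * v) fun s hs s' hs' e => sq s hs s' hs' (by
    have := hd _ (sub_mem ((hT _).1 (mul s hs s hs)).1 ((hT _).1 (mul s' hs' s' hs')).1) _ ((hT _).1 huu).1 (by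
      linear_combination (norm := noncomm_ring) e)
    exact sub_eq_zero.1 (this.resolve_right uu))
  obtain ⟨w, hw⟩ : ((T.image fun s => s * s) ∩ T.image fun t => t * t * (u * u) + v * v).Nonempty := by
    refine Finset.inter_nonempty_of_card_lt_card_add_card (s := T) ?_ ?_ (by omega)
    · exact Finset.image_subset_iff.2 fun s hs => mul s hs s hs
    · exact Finset.image_subset_iff.2 fun s hs => add _ (mul _ (mul s hs s hs) _ huu) _ hvv
  obtain ⟨b1, b2⟩ := Finset.mem_inter.1 hw
  obtain ⟨s, hs, rfl⟩ := Finset.mem_image.1 b1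
  obtain ⟨t, ht, e⟩ := Finset.mem_image.1 b2
  obtain ⟨s1, s2, s3, -⟩ := (hT s).1 hs
  obtain ⟨t1, t2, t3, -⟩ := (hT t).1 ht
  have st := cm s hs t ht
  have tu : t * u + v ∈ J := add_mem (hm _ t1 _ hu t2) hv
  have c1 : Commute s (t * u + v) := (st.mul_right s2).add_right s3
  have key := hd _ (sub_mem tu s1) _ (add_mem tu s1) (by
    linear_combination (norm := noncomm_ring) e - c1.eq + t * h - t * t2.eq * u - t3.eq * u)
  have cu : Commute (t * u + v) u := by
    rcases key with h1 | h1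
    · rw [sub_eq_zero.1 h1]; exact s2
    · rw [add_eq_zero_iff_eq_neg.1 h1]; exact s2.neg_left
  have c2 : v * u = u * v := by
    have := (t2.mul_left (Commute.refl u)).eq
    linear_combination (norm := noncomm_ring) cu.eq - this
  rw [c2, ← two_smul k, smul_eq_zero_iff_right h2] at h
  exact (hd _ hu _ hv h).elim hc.1 hc.2

variable {M : Type*} [AddCommGroup M] [Module k M] [FiniteDimensional k M]
  {G : Subgroup (End k M)ˣ} {α β a b c x y z α' β' b' : End k M} {g : (End k M)ˣ}

/-- the Weyl element of a pair of partners -/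
noncomputable def nn (p : Pt G a b) : (End k M)ˣ := un a p.a.sq * (un b p.b.sq)⁻¹ * un a p.a.sq

theorem nn_mem (p : Pt G a b) : nn p ∈ G0 G :=
  mul_mem (mul_mem (p.a.le_G0 (un_mem.2 p.a.mem_cE)) (inv_mem (p.b.le_G0 (un_mem.2 p.b.mem_cE))))
    (p.a.le_G0 (un_mem.2 p.a.mem_cE))
theorem nn_val (p : Pt G a b) : (nn p : End k M) = 1 - (a * b + b * a) + a - b := by
  simp only [nn, Units.val_mul, un_val, un_inv]
  linear_combination (norm := noncomm_ring) -p.aba + p.a.sq
theorem nn_inv (p : Pt G a b) : (((nn p)⁻¹ : (End k M)ˣ) : End k M) = 1 - (a * b + b * a) - a + b := by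
  simp only [nn, mul_inv_rev, inv_inv, Units.val_mul, un_val, un_inv]
  linear_combination (norm := noncomm_ring) p.aba + p.a.sq
theorem nn_b (p : Pt G a b) (hy : y ∈ cE G b) : nn p * y * ((nn p)⁻¹ : (End k M)ˣ) = -(a * y * a) := by
  have h1 := p.symm.ea hy
  have h2 := cE_mul p.b.mem_cE hy
  have h3 := cE_mul hy p.b.mem_cE
  rw [nn_val, nn_inv]
  have : (1 - (a * b + b * a) + a - b) * y = a * y := by linear_combination (norm := noncomm_ring) -h1.1 - h2
  rw [this]
  linear_combination (norm := noncomm_ring) -a * h1.2 + a * h3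
theorem nn_a (p : Pt G a b) (hx : x ∈ cE G a) : nn p * x * ((nn p)⁻¹ : (End k M)ˣ) = -(b * x * b) := by
  have h1 := p.ea hx
  have h2 := cE_mul p.a.mem_cE hx
  have h3 := cE_mul hx p.a.mem_cE
  rw [nn_val, nn_inv]
  have : (1 - (a * b + b * a) + a - b) * x = -(b * x) := by linear_combination (norm := noncomm_ring) -h1.1 + h2
  rw [this]
  linear_combination (norm := noncomm_ring) b * h1.2 + b * h3
theorem nn_sq (p : Pt G a b) : ((nn p * nn p : (End k M)ˣ) : End k M) = 1 - ((a * b + b * a) + (a * b + b * a)) := by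
  have h1 := p.ea p.a.mem_cE
  have h2 := p.symm.ea p.b.mem_cE
  rw [Units.val_mul, nn_val]
  linear_combination (norm := noncomm_ring) p.ee - h1.1 - h1.2 + h2.1 + h2.2 + p.a.sq + p.b.sq

theorem hua (p : Pt G a b) (hy : y ∈ cE G b) : a * y * a ∈ cE G a := by
  have := ((cE_q hy).conj (G0_le (nn_mem p))).neg
  rw [nn_b p hy, neg_neg] at this
  exact (mem_cE p.a.sq).2 ⟨this, by rw [mul_assoc]; exact rml _ _, kml _ _⟩

theorem ptn (hk : Big k) (p : Pt G α β) (ha : a ∈ cE G α) (h0 : a ≠ 0) : ∃ b ∈ cE G β, Pt G a b := by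
  obtain ⟨b, hb, b0, e1, e2, -⟩ := p.a.exists_ptn hk p.b p.opp ha h0
  exact ⟨b, hb, (p.a.of_cE ha h0).1, (p.b.of_cE hb b0).1, by rwa [← mul_assoc], by rwa [← mul_assoc]⟩

theorem hua' (hk : Big k) (p : Pt G α β) (ha : a ∈ cE G α) (hy : y ∈ cE G β) : a * y * a ∈ cE G α := by
  by_cases h0 : a = 0
  · simp [h0]
  obtain ⟨b, hb, q⟩ := ptn hk p ha h0
  exact p.a.cE_eq ha h0 ▸ hua q ((p.b.cE_eq hb q.b.ne).symm ▸ hy)

theorem dom (hk : Big k) (p : Pt G α β) (ha : a ∈ cE G α) (hc : c ∈ cE G α) (e : a * β * c = 0) : a = 0 ∨ c = 0 := by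
  by_contra h
  push Not at h
  exact p.a.opp_of_mem hk p.b p.opp ha h.1 p.b.mem_cE p.b.ne
    (zr ((cE_r ha).trans (p.a.of_cE hc h.2).2.1.ge) e)

theorem unit (p : Pt G α β) (ha : a ∈ cE G α) : α * β * a = a ∧ a * β * α = a := by
  have h1 := p.ea ha
  have h2 := cE_mul p.a.mem_cE ha
  have h3 := cE_mul ha p.a.mem_cE
  exact ⟨by linear_combination (norm := noncomm_ring) h1.1 - β * h2,
    by linear_combination (norm := noncomm_ring) h1.2 - h3 * β⟩

theorem sq_fib [Finite M] (hk : Big k) (p : Pt G α β) (ha : a ∈ cE G α) (hc : c ∈ cE G α)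
    (e : a * β * a = c * β * c) : a = c ∨ a = -c := by
  have : Finite (End k M) := Finite.of_injective _ DFunLike.coe_injective
  have inj : ∀ a ∈ cE G α, a * β = 0 → a = 0 := fun a ha e => by rw [← (unit p ha).2, e, zero_mul]
  have := noAnti hk.two ((cE G α).map (mulRight k β)) ?_ ?_ (u := (a - c) * β) (v := (a + c) * β)
    ⟨_, sub_mem ha hc, rfl⟩ ⟨_, add_mem ha hc, rfl⟩ (by linear_combination (norm := noncomm_ring) 2 • e * β)
  · exact this.imp (fun h => sub_eq_zero.1 (inj _ (sub_mem ha hc) h))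
      fun h => add_eq_zero_iff_eq_neg.1 (inj _ (add_mem ha hc) h)
  · rintro _ ⟨u, hu, rfl⟩ _ ⟨v, hv, rfl⟩
    refine ⟨_, sub_mem (sub_mem (hua' hk p (add_mem hu hv) p.b.mem_cE) (hua' hk p hu p.b.mem_cE))
      (hua' hk p hv p.b.mem_cE), ?_⟩
    simp only [mulRight_apply]
    noncomm_ring
  · rintro _ ⟨u, hu, rfl⟩ _ ⟨v, hv, rfl⟩ h
    simp only [mulRight_apply] at h ⊢
    have h1 : u * β * v = 0 := by
      rw [← (unit p hv).2]
      linear_combination (norm := noncomm_ring) h * α
    exact (dom hk p hu hv h1).imp (fun h => by simp [h]) fun h => by simp [h]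

/-- conjugacy of pairs under the group generated by the root groups -/
def Ev (G : Subgroup (End k M)ˣ) (a b a' b' : End k M) : Prop :=
  ∃ g ∈ G0 G, g * a * (g⁻¹ : (End k M)ˣ) = a' ∧ g * b * (g⁻¹ : (End k M)ˣ) = b'

theorem Ev.symm {a' : End k M} (h : Ev G a b a' b') : Ev G a' b' a b := by
  obtain ⟨g, hg, rfl, rfl⟩ := h
  exact ⟨g⁻¹, inv_mem hg, by simp [mul_assoc], by simp [mul_assoc]⟩
theorem Ev.trans {a' : End k M} (h : Ev G a b a' b') (h' : Ev G a' b' x y) : Ev G a b x y := by
  obtain ⟨g, hg, rfl, rfl⟩ := h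
  obtain ⟨g', hg', rfl, rfl⟩ := h'
  exact ⟨g' * g, mul_mem hg' hg, by simp [mul_assoc], by simp [mul_assoc]⟩

theorem pt_conj (p : Pt G a b) (hg : g ∈ G) : Pt G (g * a * (g⁻¹ : (End k M)ˣ)) (g * b * (g⁻¹ : (End k M)ˣ)) :=
  ⟨p.a.conj hg, p.b.conj hg, by simpa [mul_assoc] using p.aba' _, by simpa [mul_assoc] using p.symm.aba' _⟩

theorem ev_sq (hk : Big k) (p : Pt G x y) (hz : z ∈ cE G x) (h0 : z ≠ 0) :
    ∃ y' ∈ cE G y, Pt G (z * y * z) y' ∧ Ev G x y (z * y * z) y' := by
  obtain ⟨b, hb, q⟩ := ptn hk p hz h0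
  have e1 := p.a.cE_eq hz h0
  have e2 := p.b.cE_eq hb q.b.ne
  have hg := mul_mem (nn_mem q) (nn_mem p)
  have a1 : (nn q * nn p : (End k M)ˣ) * x * ((nn q * nn p)⁻¹ : (End k M)ˣ) = z * y * z := by
    have := nn_a p p.a.mem_cE
    rw [mul_assoc y, p.bab] at this
    have h := nn_b q (e2 ▸ neg_mem p.b.mem_cE)
    rw [mul_neg z, neg_mul _ z, neg_neg, ← this] at h
    simpa [mul_assoc] using h
  have a2 : (nn q * nn p : (End k M)ˣ) * y * ((nn q * nn p)⁻¹ : (End k M)ˣ) = b * x * b := by
    have := nn_b p p.b.mem_cE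
    rw [mul_assoc x, p.aba] at this
    have h := nn_a q (e1 ▸ neg_mem p.a.mem_cE)
    rw [mul_neg b, neg_mul _ b, neg_neg, ← this] at h
    simpa [mul_assoc] using h
  exact ⟨b * x * b, e2 ▸ hua q.symm (e1 ▸ p.a.mem_cE), a1 ▸ a2 ▸ pt_conj p (G0_le hg), _, hg, a1, a2⟩

theorem pt_uniq (hk : Big k) (p : Pt G a b) (q : Pt G a b') (h : b' ∈ cE G b) : b' = b := by
  by_contra hne
  refine p.a.opp_of_mem hk p.b p.opp p.a.mem_cE p.a.ne (sub_mem h p.b.mem_cE) (sub_ne_zero.2 hne) ?_
  linear_combination (norm := noncomm_ring) q.aba - p.aba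

theorem odd_of_nil {R : Type*} [Ring R] [Algebra k R] (h2 : (2 : k) ≠ 0) {t : Rˣ} (hf : IsOfFinOrder t)
    (ht : IsNilpotent ((t : R) - 1)) : Odd (orderOf t) := by
  refine Nat.not_even_iff_odd.1 fun ⟨m, hm⟩ => ?_
  have h0 := hf.orderOf_pos
  refine pow_ne_one_of_lt_orderOf (x := t) (n := m) (by omega) (by omega) (Units.ext ?_)
  have h1 : ((t : R) ^ m - 1) * (2 + ((t : R) ^ m - 1)) = 0 := by
    have := congrArg Units.val (pow_orderOf_eq_one t)
    rw [hm, pow_add, Units.val_mul, Units.val_pow_eq_pow_val, Units.val_one] at this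
    linear_combination (norm := noncomm_ring) this
  have h3 : IsNilpotent ((t : R) ^ m - 1) := by
    rw [← mul_geom_sum]
    refine Commute.isNilpotent_mul_right ?_ ht
    exact Commute.sum_right _ _ _ fun i _ => ((Commute.refl _).sub_left (Commute.one_left _)).pow_right i
  have h4 : IsUnit (2 : R) := by
    have := (Ne.isUnit h2).map (algebraMap k R)
    rwa [map_ofNat] at this
  have h5 := h3.isUnit_add_left_of_commute h4 (Commute.ofNat_right _ 2)
  rw [h5.mul_left_eq_zero, sub_eq_zero] at h1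
  simpa using h1

theorem dih {Γ : Type*} [Group Γ] {z w : Γ} (hz : z * z = 1) (hw : w * w = 1) (h : Odd (orderOf (z * w))) :
    ∃ n : ℕ, (z * w) ^ n * w * ((z * w) ^ n)⁻¹ = z := by
  obtain ⟨m, hm⟩ := h
  have h1 : w * (z * w) * w⁻¹ = (z * w)⁻¹ := by
    rw [mul_inv_rev, inv_eq_of_mul_eq_one_right hz, inv_eq_of_mul_eq_one_right hw, mul_assoc, mul_assoc, hw, mul_one]
  have h2 : w * ((z * w) ^ (m + 1))⁻¹ = (z * w) ^ (m + 1) * w := by
    rw [← inv_pow, ← h1, conj_pow, inv_eq_of_mul_eq_one_right hw, ← mul_assoc, ← mul_assoc, hw, one_mul]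
  refine ⟨m + 1, ?_⟩
  rw [mul_assoc, h2, ← mul_assoc, ← pow_add, show m + 1 + (m + 1) = 2 * m + 1 + 1 by ring, pow_succ, ← hm,
    pow_orderOf_eq_one, one_mul, mul_assoc, hw, mul_one]

theorem same_eps (hk : Big k) (p : Pt G a b) (q : Pt G a b') (e : a * b' + b' * a = a * b + b * a) :
    Ev G a b' a b := by
  set γ := a * b - a * b' with hγ
  have h1 : γ = b' * a - b * a := by linear_combination (norm := noncomm_ring) hγ - e
  have ga : γ * a = 0 := by rw [h1, sub_mul, mul_assoc, mul_assoc, p.a.sq]; simp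
  have ag : a * γ = 0 := by rw [hγ, mul_sub, p.a.sq', p.a.sq']; simp
  have gg : γ * γ = 0 := by
    nth_rewrite 2 [hγ]
    rw [mul_sub, ← mul_assoc, ← mul_assoc, ga]; simp
  have hb : b' = (1 + γ) * b * (1 - γ) := by
    have h2 : b * (1 - γ) = b * a * b' := by rw [hγ]; linear_combination (norm := noncomm_ring) -p.bab
    rw [mul_assoc, h2, h1]
    linear_combination (norm := noncomm_ring) -q.bab - b' * p.aba * b' + b * p.aba * b'
  have key : ∀ l : k, (γ + l • a) * b' * (γ + l • a) ∈ cE G a := fun l => by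
    set c := γ + l • a with hc
    have ca : c * a = 0 := by simp [hc, add_mul, ga, p.a.sq]
    have ac : a * c = 0 := by simp [hc, mul_add, ag, p.a.sq]
    have cg : c * γ = 0 := by simp [hc, add_mul, gg, ag]
    have gc : γ * c = 0 := by simp [hc, mul_add, gg, ga]
    have cc : c * c = 0 := by nth_rewrite 2 [hc]; simp [mul_add, cg, ca]
    have cr : range c ≤ range a := by
      rw [show c = a * (b - b' + l • 1) by simp [hc, hγ, mul_add, mul_sub]]; exact rml _ _
    have ck : ker a ≤ ker c := by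
      rw [show c = (b' - b + l • 1) * a by simp [hc, h1, add_mul, sub_mul]]; exact kml _ _
    have u1 : a * b * c = c := by
      have := zr cr (x := a * b - 1) (by linear_combination (norm := noncomm_ring) p.aba)
      linear_combination (norm := noncomm_ring) this
    have u2 : c * b * a = c := by
      have := zl ck (y := b * a - 1) (by linear_combination (norm := noncomm_ring) p.aba)
      linear_combination (norm := noncomm_ring) this
    have hd := p.b.conj' (p.a.toQ.smul (-l))
    set d := (1 + (-l) • a) * b * (1 - (-l) • a) with hdd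
    have ada : a * d * a = a := by simp [hdd, mul_add, add_mul, mul_assoc, p.a.sq, p.a.sq', p.aba]
    have adc : a * d * c = c := by
      simpa [hdd, mul_add, add_mul, mul_assoc, p.a.sq, p.a.sq', ac] using u1
    have cda : c * d * a = c := by
      have : ∀ x, c * (a * x) = 0 := fun x => by rw [← mul_assoc, ca, zero_mul]
      simpa [hdd, mul_add, add_mul, mul_assoc, p.a.sq, p.a.sq', this] using u2
    have e1 : (1 + c) * (1 + (-l) • a) = 1 + γ := by simp [mul_add, add_mul, ca]; rw [hc]; abel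
    have e2 : (1 - (-l) • a) * (1 - c) = 1 - γ := by simp [mul_sub, add_mul, ac]; simp [hc]
    have hb' : b' = (1 + c) * d * (1 - c) := by
      rw [hb, hdd, ← e1, ← e2]; simp only [mul_assoc]
    by_cases hne : d * b' * d = 0
    · have h2 : d * c * d * c * d = 0 := by
        rw [hb'] at hne
        linear_combination (norm := noncomm_ring) -hne + hd.sq * (1 - c) * d + d * c * hd.sq
      have h3 : c * d * c = 0 := by
        have := congrArg (fun x => a * x * a) h2
        simp only [mul_zero, zero_mul] at this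
        rw [← this]
        calc c * d * c = (a * d * c) * d * (c * d * a) := by rw [adc, cda]
          _ = _ := by simp only [mul_assoc]
      have : c * b' * c = 0 := by
        rw [hb']
        linear_combination (norm := noncomm_ring) h3 + cc * d * (1 - c) * c - c * d * cc
      rw [this]; exact zero_mem _
    · obtain ⟨y, hy, y1, y2⟩ := hd.partner hk q.b hne
      have y0 : y ≠ 0 := fun e => hd.ne (by rw [← y1, e]; simp)
      obtain ⟨x, hx, r⟩ := ptn hk q.symm hy y0
      have d1 : d * (1 - c) * y = 0 := zr (cE_r hy) (by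
        rw [hb']; linear_combination (norm := noncomm_ring) hd.sq * (1 - c) - d * cc * d * (1 - c))
      have d2 : y * ((1 + c) * d) = 0 := zl (cE_k hy) (by
        rw [hb']; linear_combination (norm := noncomm_ring) (1 + c) * hd.sq - (1 + c) * d * cc * d)
      have h2 : c * y * c = -a := by
        have : d * c * y * c * d = -d := by
          linear_combination (norm := noncomm_ring) -y1 - d1 * c * d + d * d2
        calc c * y * c = (a * d * c) * y * (c * d * a) := by rw [adc, cda]
          _ = a * (d * c * y * c * d) * a := by simp only [mul_assoc]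
          _ = _ := by rw [this, mul_neg, neg_mul, ada]
      have u3 : a * b' * c = c := by
        have := zr cr (x := a * b' - 1) (by linear_combination (norm := noncomm_ring) q.aba)
        linear_combination (norm := noncomm_ring) this
      have x0 := q.a.of_cE hx r.b.ne
      have u4 : c * y * x = c := by
        have := zl (x0.2.2.le.trans ck) (y := y * x - 1) (by linear_combination (norm := noncomm_ring) r.bab)
        linear_combination (norm := noncomm_ring) this
      have h3 : c * y * (c * b' * c + x) = 0 := by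
        linear_combination (norm := noncomm_ring) h2 * b' * c - u3 + u4
      have h4 : c * b' * c + x = 0 := by
        have r1 : range (c * b' * c + x) ≤ range (c * (y * c)) := by
          rw [← mul_assoc c y, h2, range_neg]
          rintro _ ⟨m, rfl⟩
          exact add_mem (cr ⟨_, rfl⟩) (cE_r hx ⟨_, rfl⟩)
        ext m
        obtain ⟨m', hm⟩ := r1 ⟨m, rfl⟩
        have h5 : a (y (c m')) = 0 := by
          have := congrArg (· m) h3
          simp only [End.mul_apply (c * y), ← hm] at this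
          have h6 := congrArg (· (y (c m'))) h2
          simp only [End.mul_apply, LinearMap.neg_apply, LinearMap.zero_apply] at h6 this
          rw [this] at h6
          exact neg_eq_zero.1 h6.symm
        rw [← hm]
        exact ck h5
      rw [eq_neg_of_add_eq_zero_left h4]
      exact neg_mem hx
  have hg : γ ∈ cE G a := by
    have := Submodule.smul_mem _ (2 : k)⁻¹ (sub_mem (sub_mem (key 1) (key 0)) p.a.mem_cE)
    have u3 : a * b' * γ = γ := by rw [hγ]; linear_combination (norm := noncomm_ring) q.aba * b - q.aba * b'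
    have u4 : γ * b' * a = γ := by rw [h1]; linear_combination (norm := noncomm_ring) b' * q.aba - b * q.aba
    rwa [show (γ + (1 : k) • a) * b' * (γ + (1 : k) • a) - (γ + (0 : k) • a) * b' * (γ + (0 : k) • a) - a = (2 : k) • γ by
      rw [one_smul, zero_smul, two_smul]
      linear_combination (norm := noncomm_ring) u3 + u4 + q.aba, smul_smul, inv_mul_cancel₀ hk.two, one_smul] at this
  refine Ev.symm ⟨un γ gg, p.a.le_G0 (un_mem.2 hg), ?_, hb.symm⟩
  rw [un_val, un_inv]
  linear_combination (norm := noncomm_ring) ga - ag - ga * γ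

theorem same [Finite M] (hk : Big k) (p : Pt G a b) (q : Pt G a b') : Ev G a b' a b := by
  have : Finite (End k M) := Finite.of_injective _ DFunLike.coe_injective
  set ε := a * b + b * a with hε
  set ε' := a * b' + b' * a with hε'
  have h1 := p.ea p.a.mem_cE
  have h2 := q.ea q.a.mem_cE
  have ee := p.ee
  have ee' := q.ee
  rw [← hε] at h1 ee
  rw [← hε'] at h2 ee'
  have z1 := nn_sq p
  have z2 := nn_sq q
  rw [← hε] at z1
  rw [← hε'] at z2
  have zm : nn p * nn p ∈ G0 G := mul_mem (nn_mem p) (nn_mem p)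
  have wm : nn q * nn q ∈ G0 G := mul_mem (nn_mem q) (nn_mem q)
  set z := nn p * nn p
  set w := nn q * nn q
  have zz : z * z = 1 := Units.ext (by
    rw [Units.val_mul, z1, Units.val_one]; linear_combination (norm := noncomm_ring) 4 • ee)
  have ww : w * w = 1 := Units.ext (by
    rw [Units.val_mul, z2, Units.val_one]; linear_combination (norm := noncomm_ring) 4 • ee')
  set ν := ((z * w : (End k M)ˣ) : End k M) - 1 with hν
  have hν' : ν = -(ε + ε) - (ε' + ε') + (ε + ε) * (ε' + ε') := by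
    rw [hν, Units.val_mul, z1, z2]; noncomm_ring
  have an : a * ν = 0 := by
    rw [hν']
    linear_combination (norm := noncomm_ring) -(2 • h1.2) + 2 • h2.2 + 2 • h1.2 * (ε' + ε')
  have na : ν * a = 0 := by
    rw [hν']
    linear_combination (norm := noncomm_ring) 2 • h1.1 - 2 • h2.1 + 2 • (ε + ε) * h2.1
  have nil : ν * ν * ν = 0 := by
    have e1 : ε * ν = a * (b * ν) := by rw [hε]; linear_combination (norm := noncomm_ring) b * an
    have e2 : ε' * ν = a * (b' * ν) := by rw [hε']; linear_combination (norm := noncomm_ring) b' * an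
    have : ν * ν = a * (-(b * ν + b * ν) + (b' * ν + b' * ν)) := by
      nth_rewrite 1 [hν']
      linear_combination (norm := noncomm_ring) -(2 • e1) - 2 • e2 + 4 • ε * e2 + 4 • h1.1 * (b' * ν)
    rw [mul_assoc, this, ← mul_assoc, na, zero_mul]
  obtain ⟨n, hn⟩ := dih zz ww (odd_of_nil hk.two (isOfFinOrder_of_finite _) ⟨3, by rw [← hν, pow_three', nil]⟩)
  have um : (z * w) ^ n ∈ G0 G := pow_mem (mul_mem zm wm) n
  have ca : Commute ((z * w : (End k M)ˣ) : End k M) a := by
    rw [show ((z * w : (End k M)ˣ) : End k M) = ν + 1 by rw [hν]; abel]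
    exact Commute.add_left (na.trans an.symm) (Commute.one_left _)
  have ua : (((z * w) ^ n : (End k M)ˣ) : End k M) * a * ((((z * w) ^ n)⁻¹ : (End k M)ˣ) : End k M) = a := by
    rw [Units.mul_inv_eq_iff_eq_mul, Units.val_pow_eq_pow_val]
    exact (ca.pow_left n).eq
  set g := (z * w) ^ n
  have r := pt_conj q (G0_le um)
  rw [ua] at r
  refine Ev.trans ⟨g, um, ua, rfl⟩ (same_eps hk p r ?_)
  have h3 := congrArg Units.val hn
  rw [Units.val_mul, Units.val_mul, z1, z2] at h3
  have h4 : (2 : k) • ((g : End k M) * ε' * (g⁻¹ : (End k M)ˣ) - ε) = 0 := by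
    rw [two_smul]
    linear_combination (norm := noncomm_ring) g.mul_inv - h3
  rw [smul_eq_zero_iff_right hk.two, sub_eq_zero] at h4
  rw [← hε, ← h4, hε']
  nth_rewrite 1 2 [← ua]
  simp [mul_add, add_mul, mul_assoc]

theorem ev_root [Finite M] (hk : Big k) (p : Pt G α β) (q : Pt G α' β') (h : E G α' ∈ cls G (E G α)) :
    ∃ x ∈ cE G α, ∃ y ∈ cE G β, Pt G x y ∧ Ev G α' β' x y := by
  obtain ⟨g, hg, e⟩ := cls_symm h
  rw [cj_E (G0_le hg)] at e
  have r := pt_conj q (G0_le hg)
  have hx := cE_of_E e ▸ r.a.mem_cE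
  obtain ⟨y, hy, s⟩ := ptn hk p hx r.a.ne
  exact ⟨_, hx, y, hy, s, Ev.trans ⟨g, hg, rfl, rfl⟩ (same hk s r)⟩

theorem three [Finite M] (hk : Big k) (p : Pt G α β) (q : Pt G a b) (r : Pt G x y) (h : E G a ∈ cls G (E G α))
    (h' : E G x ∈ cls G (E G α)) : Ev G α β a b ∨ Ev G α β x y ∨ Ev G a b x y := by
  classical
  have : Finite (End k M) := Finite.of_injective _ DFunLike.coe_injective
  have := Fintype.ofFinite (End k M)
  obtain ⟨a', ha, b', hb, q', e1⟩ := ev_root hk p q h
  obtain ⟨x', hx, y', hy, r', e2⟩ := ev_root hk p r h'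
  suffices Ev G α β a' b' ∨ Ev G α β x' y' ∨ Ev G a' b' x' y' from
    this.imp (·.trans e1.symm) (Or.imp (·.trans e2.symm) fun h => (e1.trans h).trans e2.symm)
  let T : Finset (End k M) := Finset.univ.filter fun t => t ∈ cE G α ∧ t ≠ 0
  have hT : ∀ t, t ∈ T ↔ t ∈ cE G α ∧ t ≠ 0 := fun t => by simp [T]
  have A : ∀ {a b}, Pt G a b → a ∈ cE G α → b ∈ cE G β →
      T.card ≤ 2 * (T.image fun z => z * b * z).card ∧ (T.image fun z => z * b * z) ⊆ T := fun {a b} q ha hb => by
    have e := p.a.cE_eq ha q.a.ne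
    refine ⟨half T _ fun s hs s' hs' => sq_fib hk q (e ▸ ((hT s).1 hs).1) (e ▸ ((hT s').1 hs').1),
      Finset.image_subset_iff.2 fun s hs => (hT _).2 ⟨hua' hk p ((hT s).1 hs).1 hb, fun h => ?_⟩⟩
    exact ((hT s).1 hs).2 (by simpa using dom hk q (e ▸ ((hT s).1 hs).1) (e ▸ ((hT s).1 hs).1) h)
  have B : ∀ {a b x y}, Pt G a b → a ∈ cE G α → b ∈ cE G β → Pt G x y → x ∈ cE G α → y ∈ cE G β → ¬ Ev G a b x y →
      Disjoint (T.image fun z => z * b * z) (T.image fun z => z * y * z) := fun {a b x y} q ha hb r hx hy hn => by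
    refine Finset.disjoint_left.2 fun w h1 h2 => hn ?_
    obtain ⟨s, hs, rfl⟩ := Finset.mem_image.1 h1
    obtain ⟨t, ht, e⟩ := Finset.mem_image.1 h2
    obtain ⟨u, hu, p1, e1⟩ := ev_sq hk q (p.a.cE_eq ha q.a.ne ▸ ((hT s).1 hs).1) ((hT s).1 hs).2
    obtain ⟨v, hv, p2, e2⟩ := ev_sq hk r (p.a.cE_eq hx r.a.ne ▸ ((hT t).1 ht).1) ((hT t).1 ht).2
    rw [p.b.cE_eq hb q.b.ne] at hu
    rw [p.b.cE_eq hy r.b.ne] at hv
    rw [e] at p2 e2
    rw [pt_uniq hk p1 p2 (p.b.cE_eq hu p1.b.ne ▸ hv)] at e2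
    exact e1.trans e2.symm
  by_contra hc
  push Not at hc
  have a1 := A p p.a.mem_cE p.b.mem_cE
  have a2 := A q' ha hb
  have a3 := A r' hx hy
  have b1 := B p p.a.mem_cE p.b.mem_cE q' ha hb hc.1
  have b2 := B p p.a.mem_cE p.b.mem_cE r' hx hy hc.2.1
  have b3 := B q' ha hb r' hx hy hc.2.2
  have c1 := Finset.card_le_card (Finset.union_subset (Finset.union_subset a1.2 a2.2) a3.2)
  rw [Finset.card_union_of_disjoint (Finset.disjoint_union_left.2 ⟨b2, b3⟩), Finset.card_union_of_disjoint b1] at c1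
  have := Finset.card_pos.2 ⟨α, (hT α).2 ⟨p.a.mem_cE, p.a.ne⟩⟩
  omega

end H13.EQ
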