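import Cfsg.Agent.H13.EQ1

/-! Equivariant `p`-stability, part 2: a coprime group of odd order normalizing a linear group with a quadratic element
and no unipotent normal subgroup centralizes a nontrivial image of `SL₂(k)` (`EQ.lin`). -/

set_option autoImplicit false
set_option linter.unusedSectionVars false
set_option linter.unusedVariables false

namespace H13.EQ
open Subgroup H28 H20.QP LinearMap Module

universe u
variable {k : Type u} [Field k] {M : Type*} [AddCommGroup M] [Module k M] [FiniteDimensional k M]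
  {G B C : Subgroup (End k M)ˣ} {α β a b x y τ : End k M} {g : (End k M)ˣ}

/-- pairs of ring elements with the conjugation action of the units -/
@[ext] structure Pr (R : Type*) where
  /-- first entry -/
  a : R
  /-- second entry -/
  b : R

instance prAct {R : Type*} [Ring R] : MulAction Rˣ (Pr R) where
  smul g x := ⟨g * x.a * (g⁻¹ : Rˣ), g * x.b * (g⁻¹ : Rˣ)⟩
  one_smul x := Pr.ext (show ((1 : Rˣ) : R) * x.a * ((1 : Rˣ)⁻¹ : Rˣ) = _ by simp)
    (show ((1 : Rˣ) : R) * x.b * ((1 : Rˣ)⁻¹ : Rˣ) = _ by simp)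
  mul_smul g h x := Pr.ext
    (show ((g * h : Rˣ) : R) * x.a * ((g * h)⁻¹ : Rˣ) = g * (h * x.a * (h⁻¹ : Rˣ)) * (g⁻¹ : Rˣ) by simp [mul_assoc])
    (show ((g * h : Rˣ) : R) * x.b * ((g * h)⁻¹ : Rˣ) = g * (h * x.b * (h⁻¹ : Rˣ)) * (g⁻¹ : Rˣ) by simp [mul_assoc])

theorem smul_a {R : Type*} [Ring R] (g : Rˣ) (x : Pr R) : (g • x).a = g * x.a * (g⁻¹ : Rˣ) := rfl
theorem smul_b {R : Type*} [Ring R] (g : Rˣ) (x : Pr R) : (g • x).b = g * x.b * (g⁻¹ : Rˣ) := rfl

theorem ev_iff {x y : Pr (End k M)} : Ev G x.a x.b y.a y.b ↔ ∃ g ∈ G0 G, g • x = y :=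
  exists_congr fun g => and_congr_right fun _ => ⟨fun h => Pr.ext h.1 h.2, fun h => h ▸ ⟨rfl, rfl⟩⟩

theorem conj_G0 (hg : g ∈ G) {x : (End k M)ˣ} (hx : x ∈ G0 G) : g * x * g⁻¹ ∈ G0 G := G0_cj hg ▸ conj_mem_cj hx

theorem cls_conj (hg : g ∈ G) (h : C ∈ cls G B) : cj g C ∈ cls G (cj g B) := by
  obtain ⟨x, hx, rfl⟩ := h
  exact ⟨_, conj_G0 hg hx, by rw [← cj_mul, ← cj_mul]; simp⟩

/-- the stabilizer of a class -/
def St (G B : Subgroup (End k M)ˣ) : Subgroup (End k M)ˣ where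
  carrier := {g | g ∈ G ∧ cj g B ∈ cls G B}
  one_mem' := ⟨one_mem _, by simpa using cls_self⟩
  mul_mem' := fun {g h} hg hh => ⟨mul_mem hg.1 hh.1, cj_mul g h B ▸ cls_trans hg.2 (cls_conj hg.1 hh.2)⟩
  inv_mem' := fun {g} hg => ⟨inv_mem hg.1, cls_symm (by simpa using cls_conj (inv_mem hg.1) hg.2)⟩

theorem exists_D (h : Q k G τ) (h0 : τ ≠ 0) : ∃ α, D G α := by
  induction hn : rk τ using Nat.strong_induction_on generalizing τ with
  | _ n ih =>
    by_cases hm : ∀ β, Q k G β → β ≠ 0 → rk τ ≤ rk β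
    · exact ⟨τ, h, h0, hm⟩
    · push Not at hm
      obtain ⟨β, h1, h2, h3⟩ := hm
      exact ih _ (hn ▸ h3) h1 h2 rfl

theorem fix_pair [Finite M] (hk : Big k) {A : Subgroup (End k M)ˣ} (hA : A ≤ G)
    (hc : (Nat.card A).Coprime (Nat.card (G0 G))) (ho : Odd (Nat.card A)) (hs : Group.IsSolvable A) (p : Pt G α β) :
    ∃ π : Pr (End k M), Pt G π.a π.b ∧ ∀ a ∈ A, cj a (E G π.a) ∈ cls G (E G π.a) → a • π = π := by
  have : Finite (End k M) := Finite.of_injective _ DFunLike.coe_injective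
  let π : Pr (End k M) := ⟨α, β⟩
  have key : ∀ a ∈ A ⊓ St G (E G α), ∃ g ∈ G0 G, g • π = a • π := fun a ha => by
    have a2 := mul_mem ha ha
    have cj1 : ∀ {x y : Pr (End k M)} {a}, a ∈ G → (∃ g ∈ G0 G, g • x = y) → ∃ g ∈ G0 G, g • a • x = a • y := by
      rintro x _ a ha ⟨g, hg, rfl⟩
      exact ⟨_, conj_G0 ha hg, by simp [← mul_smul]⟩
    have b1 : a ∈ G ∧ cj a (E G α) ∈ cls G (E G α) := ha.2
    have b2 : a * a ∈ G ∧ cj (a * a) (E G α) ∈ cls G (E G α) := a2.2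
    rw [cj_E b1.1] at b1
    rw [cj_E b2.1] at b2
    rcases three hk p (pt_conj p b1.1) (pt_conj p b2.1) b1.2 b2.2 with h | h | h
    · exact (ev_iff (x := π) (y := a • π)).1 h
    · have h1 : ∀ n : ℕ, ∃ g ∈ G0 G, g • π = (a * a) ^ n • π := fun n => by
        induction n with
        | zero => exact ⟨1, one_mem _, by simp⟩
        | succ n ih =>
          obtain ⟨g, hg, e⟩ := (ev_iff (x := π) (y := (a * a) • π)).1 h
          obtain ⟨g', hg', e'⟩ := cj1 b2.1 ih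
          exact ⟨g' * g, mul_mem hg' hg, by rw [mul_smul, e, e', pow_succ', ← mul_smul]⟩
      obtain ⟨m, hm⟩ := ho
      have := h1 (m + 1)
      rwa [← pow_two, ← pow_mul, show 2 * (m + 1) = 2 * m + 1 + 1 by ring, pow_succ, ← hm,
        show a ^ Nat.card A = 1 from congrArg Subtype.val (pow_card_eq_one' (x := (⟨a, ha.1⟩ : A))), one_mul] at this
    · have := cj1 (inv_mem b1.1) ((ev_iff (x := a • π) (y := (a * a) • π)).1 h)
      simpa [← mul_smul] using this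
  obtain ⟨g, hg, e⟩ := H1.exists_fixed_point (A := A ⊓ St G (E G α)) (K := G0 G)
    (fun a ha => mem_normalizer_iff_cj.2 (G0_cj ha.2.1)) (H1.coprime_of_le_left hc inf_le_left)
    (H1.solvable_or_of_le_left (Or.inl hs) inf_le_left) π key
  refine ⟨g • π, pt_conj p (G0_le hg), fun a ha h => e a ⟨ha, hA ha, ?_⟩⟩
  have h1 : E G (g • π).a ∈ cls G (E G α) := ⟨g, hg, cj_E (G0_le hg)⟩
  exact cls_trans (cls_trans h1 h) (cls_symm (cls_conj (hA ha) h1))

theorem th_U (p : Pt G a b) (c : k) : (p.mu.θ (xU c) : End k M) = 1 + c • a := by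
  simp [-smul_add, MU.θ_xU, (p.ea p.a.mem_cE).1]
theorem th_L (p : Pt G a b) (c : k) : (p.mu.θ (xL c) : End k M) = 1 + c • b := by
  have := (p.symm.ea p.b.mem_cE).1
  rw [add_comm] at this
  simp [-smul_add, MU.θ_xL, this]
theorem th_mem (hk : Big k) (p : Pt G a b) (s : SL2 k) : p.mu.θ s ∈ ⨆ C ∈ cls G (E G a), C := by
  have : p.mu.θ.range ≤ E G a ⊔ E G b := by
    rw [MonoidHom.range_eq_map, ← upper_sup_lower, Subgroup.map_le_iff_le_comap]
    refine sup_le (fun g hg => ?_) fun g hg => ?_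
    · obtain ⟨c, rfl⟩ := mem_upper.1 hg
      exact mem_sup_left (by simpa [mem_E, th_U p] using Submodule.smul_mem _ c p.a.mem_cE)
    · obtain ⟨c, rfl⟩ := mem_lower.1 hg
      exact mem_sup_right (by simpa [mem_E, th_L p] using Submodule.smul_mem _ c p.b.mem_cE)
  exact sup_le (le_iSup₂_of_le (f := fun A _ => A) _ cls_self le_rfl)
    (le_iSup₂_of_le (f := fun A _ => A) _ (p.a.cj_of_opp hk p.b p.opp) le_rfl) (this ⟨s, rfl⟩)
theorem th_conj (p : Pt G a b) (q : Pt G (g * a * (g⁻¹ : (End k M)ˣ)) (g * b * (g⁻¹ : (End k M)ˣ))) (s : SL2 k) :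
    g * p.mu.θ s * g⁻¹ = q.mu.θ s := Units.ext (by
  simp [MU.θ_val, F, mul_add, add_mul, mul_sub, sub_mul, mul_assoc])

theorem lin [Finite M] (hk : Big k) (hG : NU k G) {A : Subgroup (End k M)ˣ} (hA : A ≤ G)
    (hc : (Nat.card A).Coprime (Nat.card (G0 G))) (ho : Odd (Nat.card A)) (hs : Group.IsSolvable A)
    (hτ : Q k G τ) (h0 : τ ≠ 0) : ∃ Θ : SL2 k →* (End k M)ˣ,
      Θ.range ≤ G0 G ⊓ centralizer (A : Set (End k M)ˣ) ∧ Θ (xU 1) ≠ 1 := by
  classical
  have : Finite (End k M) := Finite.of_injective _ DFunLike.coe_injective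
  obtain ⟨α, hα⟩ := exists_D hτ h0
  obtain ⟨β, hβ, hne⟩ := hα.exists_opp hk hG
  obtain ⟨β', p, -⟩ := hα.exists_pt hk hβ hne
  obtain ⟨π, q, hπ⟩ := fix_pair hk hA hc ho hs p
  let ι := MulAction.orbit A π
  have : Fintype ι := (Set.finite_range _).fintype
  have pt : ∀ o : ι, Pt G o.1.a o.1.b := by
    rintro ⟨_, a, rfl⟩
    exact pt_conj q (hA a.2)
  let θ : ι → (SL2 k →* (End k M)ˣ) := fun o => (pt o).mu.θ
  have cm : Pairwise fun i j : ι => ∀ x y, Commute (θ i x) (θ j y) := by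
    rintro ⟨_, a, rfl⟩ ⟨_, b, rfl⟩ hij x y
    refine comm_commute (cls_comm hk hG ⟨_, (pt _).a, rfl⟩ ⟨_, (pt _).a, rfl⟩ fun e => hij (Subtype.ext ?_))
      (th_mem hk (pt _) x) (th_mem hk (pt _) y)
    have e1 : cj a.1 (E G π.a) ∈ cls G (cj b.1 (E G π.a)) := by
      rw [cj_E (hA a.2), cj_E (hA b.2)]
      exact e ▸ cls_self
    have := hπ _ (b⁻¹ * a).2 (by simpa [cj_mul] using cls_conj (inv_mem (hA b.2)) e1)
    rwa [coe_mul, coe_inv, mul_smul, inv_smul_eq_iff] at this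
  let Θ := (MonoidHom.noncommPiCoprod θ cm).comp (Pi.constMonoidHom ι (SL2 k))
  have cm' : ∀ s, ((Finset.univ : Finset ι) : Set ι).Pairwise (Function.onFun Commute fun i => θ i s) :=
    fun s i _ j _ h => cm h _ _
  have hΘ : ∀ s, Θ s = Finset.univ.noncommProd (fun i => θ i s) (cm' s) := fun s => rfl
  refine ⟨Θ, ?_, fun e => ?_⟩
  · rintro _ ⟨s, rfl⟩
    rw [hΘ]
    refine ⟨Subgroup.noncommProd_mem _ _ fun i _ => cls_le ⟨_, (pt i).a, rfl⟩ (th_mem hk (pt i) s), fun a ha => ?_⟩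
    rw [← mul_inv_eq_iff_eq_mul, ← MulAut.conj_apply]
    erw [Finset.map_noncommProd _ _ _ (MulAut.conj a).toMonoidHom]
    let σ : ι ≃ ι := MulAction.toPerm (⟨a, ha⟩ : A)
    have h1 : ∀ i, (MulAut.conj a).toMonoidHom (θ i s) = θ (σ i) s := fun i => th_conj (pt i) (pt (σ i)) s
    simp only [h1, Finset.noncommProd]
    congr 1
    conv_rhs => rw [← Multiset.map_univ_val_equiv σ, Multiset.map_map]
    rfl
  · let o : ι := ⟨π, MulAction.mem_orbit_self π⟩
    rw [hΘ, ← Finset.mul_noncommProd_erase _ (Finset.mem_univ o)] at e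
    have h1 : Commute (θ o (xL 1)) (θ o (xU 1)) := by
      rw [eq_inv_of_mul_eq_one_left e]
      exact (Finset.noncommProd_commute _ _ _ _ fun i hi => cm (Finset.ne_of_mem_erase hi).symm _ _).inv_right
    have h2 := congrArg Units.val h1.eq
    simp only [Units.val_mul, θ, th_U (pt o), th_L (pt o), one_smul] at h2
    refine q.opp ?_
    rw [show π.a * π.b = π.b * π.a by linear_combination (norm := noncomm_ring) -h2, mul_assoc, q.a.sq, mul_zero]

end H13.EQ
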