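import Cfsg.Agent.H13.EQ2
import Cfsg.Agent.H4.PSol
import Cfsg.Agent.H4.Quad

/-! Equivariant `p`-stability, part 3: if a coprime group `A` of odd order acts on `K` and `C_K(A)` does not involve
`PSL₂(p)`, `p ≥ 5`, then `KA` is `p`-stable (`EQ.Hyp.pStab`) and the ZJ-theorem holds for `K` (`EQ.Hyp.zj`). -/

set_option autoImplicit false
set_option linter.unusedSectionVars false
set_option linter.unusedVariables false

namespace H13.EQ
open Subgroup H26 H4 Cfsg
open scoped commutatorElement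

universe u

/-- the standing hypothesis -/
structure Hyp (p : ℕ) (X : Type*) [Group X] {Γ : Type*} [Group Γ] (K A : Subgroup Γ) : Prop where
  nm : K.Normal
  cop : (Nat.card A).Coprime (Nat.card K)
  odd : Odd (Nat.card A)
  solv : Group.IsSolvable A
  idx : K.index.Coprime p
  ns : ¬ Sec X (K ⊓ 𝐂 A)

section
variable {p : ℕ} {X : Type*} [Group X] {Γ Γ' : Type*} [Group Γ] [Group Γ'] [Finite Γ] {K A : Subgroup Γ}

theorem Hyp.ns_map (h : Hyp p X K A) (f : Γ →* Γ') : ¬ Sec X (K.map f ⊓ 𝐂 (A.map f)) := fun hs => h.ns (by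
  have := h.nm
  rw [← H1.map_inf_centralizer_eq f le_normalizer_of_normal (H1.coprime_of_le_right h.cop inf_le_left)
    (Or.inl h.solv)] at hs
  exact hs.of_map)

theorem Hyp.cop_map (h : Hyp p X K A) (f : Γ →* Γ') : (Nat.card (A.map f)).Coprime (Nat.card (K.map f)) :=
  (h.cop.coprime_dvd_left (card_map_dvd _ _)).coprime_dvd_right (card_map_dvd _ _)

theorem Hyp.solv_map (h : Hyp p X K A) (f : Γ →* Γ') : Group.IsSolvable (A.map f) := by
  have := h.solv
  exact Group.isSolvable_of_surjective (f.subgroupMap_surjective A)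

theorem Hyp.map (h : Hyp p X K A) {f : Γ →* Γ'} (hf : Function.Surjective f) : Hyp p X (K.map f) (A.map f) :=
  ⟨h.nm.map f hf, h.cop_map f, h.odd.of_dvd_nat (card_map_dvd _ _), h.solv_map f,
    h.idx.coprime_dvd_left (index_map_dvd _ hf), h.ns_map f⟩

theorem Hyp.mem (h : Hyp p X K A) (f : Γ →* Γ') {x : Γ} {n : ℕ} (hx : f x ^ p ^ n = 1) : f x ∈ K.map f := by
  have := h.nm
  obtain ⟨m, hm⟩ := exists_pow_eq_self_of_coprime (x := f x) (n := K.index)
    ((h.idx.pow_right n).coprime_dvd_right (orderOf_dvd_of_pow_eq_one hx))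
  rw [← hm, ← map_pow]
  exact pow_mem (mem_map_of_mem f (K.pow_index_mem x)) m

end

variable {p : ℕ} [hp : Fact p.Prime] {F : Type*} [Field F] [Fintype F]

theorem big (h5 : 5 ≤ p) : H20.QP.Big (ZMod p) :=
  H20.QP.big_of (by rw [ZMod.ringChar_zmod_n]; omega) (by rw [Nat.card_zmod]; omega)

theorem sec_of_hom (h5 : 5 ≤ p) (hF : Fintype.card F = p) {Γ : Type*} [Group Γ] (Θ : H28.SL2 (ZMod p) →* Γ)
    (h : Θ (H28.xU 1) ≠ 1) : Sec (Matrix.ProjectiveSpecialLinearGroup (Fin 2) F) Θ.range := by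
  let e := ZMod.ringEquivOfPrime F hp.out hF
  let Θ' := Θ.comp (Matrix.SpecialLinearGroup.map (n := Fin 2) e.symm.toRingHom)
  obtain ⟨c, c0, c1⟩ := (big h5).ex
  have hk : Θ'.ker ≤ center _ := (H20.QP.sl2_normal (c := e c) (by simpa using c0)
    (by rw [← map_pow]; exact fun h => c1 (e.injective (h.trans (map_one e).symm))) Θ'.ker inferInstance).resolve_left fun e' => h (by
      have : Θ' (H28.xU 1) = 1 := e'.ge (mem_top _)
      simpa [Θ', H20.QP.map_xU] using this)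
  refine sec_of_rel (Θ'.prod (QuotientGroup.mk' _)).range ?_ (fun x => ?_) ?_
  · rintro x ⟨s, hs⟩
    rw [← show QuotientGroup.mk' _ s = x from congrArg Prod.snd hs]
    exact (QuotientGroup.eq_one_iff s).2 (hk (congrArg Prod.fst hs))
  · obtain ⟨s, rfl⟩ := QuotientGroup.mk'_surjective _ x
    exact ⟨_, s, rfl⟩
  · rintro _ ⟨s, rfl⟩
    exact ⟨_, rfl⟩

theorem un_pow {R : Type*} [Ring R] [Algebra (ZMod p) R] {y : R} (h : y * y = 0) (n : ℕ) :
    ((H20.QP.un y h ^ n : Rˣ) : R) = 1 + (n : ZMod p) • y := by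
  induction n with
  | zero => simp
  | succ n ih => rw [pow_succ, Units.val_mul, ih]; simp [add_mul, mul_add, h, add_smul]; abel

theorem Hyp.min (h5 : 5 ≤ p) (hF : Fintype.card F = p) {Γ : Type*} [Group Γ] [Finite Γ] {K A P : Subgroup Γ}
    (h : Hyp p (Matrix.ProjectiveSpecialLinearGroup (Fin 2) F) K A) [P.Normal] (hP : IsPGroup p P) (h0 : P ≠ ⊥)
    (hm : ∀ N : Subgroup Γ, N.Normal → N ≤ P → N = ⊥ ∨ N = P) {a : Γ}
    (qa : ⁅⁅P, zpowers a⁆, zpowers a⁆ = ⊥) : a ∈ 𝐂 P := by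
  have hV : IsElementaryAbelian p P := phi_eq_bot_iff.1 ((hm _ inferInstance (phi_le p P)).resolve_right (phi_lt hP h0).ne)
  let ι : Γ →* 𝐍 P := (MonoidHom.id Γ).codRestrict _ fun x => (normalizer_eq_top P).ge (mem_top x)
  let ρ : Γ →* (Module.End (ZMod p) (EA hV))ˣ := ((EA.rep hV).comp ι).toHomUnits
  have hρ : ∀ g x, EA.val ((ρ g : Module.End (ZMod p) (EA hV)) x) = g * EA.val x * g⁻¹ := fun g x => rfl
  have irr : IsIrreducibleFor ρ.range := by
    obtain ⟨⟨v, hv⟩, hv1⟩ := (ne_bot_iff_exists_ne_one.1 h0)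
    refine ⟨⟨EA.mk hV v hv, fun e => hv1 (Subtype.ext (EA.val_eq_one.2 e))⟩, fun W hW => ?_⟩
    let N : Subgroup Γ :=
      { carrier := {g | ∃ w ∈ W, EA.val w = g}
        one_mem' := ⟨0, zero_mem _, rfl⟩
        mul_mem' := by
          rintro _ _ ⟨x, hx, rfl⟩ ⟨y, hy, rfl⟩
          exact ⟨_, add_mem hx hy, rfl⟩
        inv_mem' := by
          rintro _ ⟨x, hx, rfl⟩
          exact ⟨_, neg_mem hx, rfl⟩ }
    refine (hm N ⟨?_⟩ ?_).imp (fun e => eq_bot_iff.2 fun w hw => ?_) fun e => eq_top_iff.2 fun w _ => ?_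
    · rintro _ ⟨x, hx, rfl⟩ g
      exact ⟨_, hW _ ⟨g, rfl⟩ x hx, hρ g x⟩
    · rintro _ ⟨x, hx, rfl⟩
      exact EA.val_mem x
    · exact EA.val_eq_one.1 (e.le ⟨w, hw, rfl⟩)
    · obtain ⟨x, hx, e⟩ := e.ge (EA.val_mem w)
      exact EA.val_injective e ▸ hx
  by_contra hn
  have sq : ((ρ a : Module.End (ZMod p) (EA hV)) - 1) * ((ρ a : Module.End (ZMod p) (EA hV)) - 1) = 0 :=
    EA.rep_quad (g := ι a) qa
  have hG : H20.QP.G0 ρ.range ≤ K.map ρ := by
    refine iSup₂_le ?_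
    rintro _ ⟨α, hα, rfl⟩ g hg
    obtain ⟨x, rfl⟩ := H20.QP.E_le hg
    obtain ⟨y, hy, e⟩ := H20.QP.E_cases hg
    exact h.mem ρ (n := 1) (Units.ext (by rw [e, pow_one, un_pow (p := p)]; simp))
  obtain ⟨Θ, h1, h2⟩ := lin (big h5) (H20.QP.nu_of_irr irr) (A := A.map ρ) (map_le_range _ _)
    (H1.coprime_of_le_right (h.cop_map ρ) hG) (h.odd.of_dvd_nat (card_map_dvd _ _)) (h.solv_map ρ)
    (τ := (ρ a : Module.End (ZMod p) (EA hV)) - 1) ⟨sq, fun c => ⟨ρ a ^ c.val, ⟨a ^ c.val, map_pow _ _ _⟩, by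
      rw [show ρ a = H20.QP.un _ sq from Units.ext (by simp), un_pow (p := p)]; simp⟩⟩
    fun e => hn (EA.rep_eq_one_iff (g := ι a).1 (sub_eq_zero.1 e))
  exact h.ns_map ρ ((sec_of_hom h5 hF Θ h2).mono (h1.trans (inf_le_inf_right _ hG)))

theorem stab (h5 : 5 ≤ p) (hF : Fintype.card F = p) (n : ℕ) : ∀ {Γ : Type u} [Group Γ] [Finite Γ] {K A P : Subgroup Γ}
    (h : Hyp p (Matrix.ProjectiveSpecialLinearGroup (Fin 2) F) K A) [P.Normal] (hP : IsPGroup p P)
    (hn : Nat.card P = n) {a : Γ} (qa : ⁅⁅P, zpowers a⁆, zpowers a⁆ = ⊥), a ∈ opMod p ⊤ (𝐂 P) := by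
  induction n using Nat.strong_induction_on with | _ n ih
  intro Γ _ _ K A P h _ hP hn a qa
  have hc : ∀ {P : Subgroup Γ} [P.Normal], (⊤ : Subgroup Γ) ≤ 𝐍 (𝐂 P) := fun {P} _ =>
    le_normalizer_centralizer (normalizer_eq_top _).ge
  by_cases h0 : P = ⊥
  · exact inf_le_opMod hc ⟨trivial, by simp [h0]⟩
  by_cases hm : ∀ N : Subgroup Γ, N.Normal → N ≤ P → N = ⊥ ∨ N = P
  · exact inf_le_opMod hc ⟨trivial, h.min h5 hF hP h0 hm qa⟩
  push Not at hm
  obtain ⟨N, hN, h1, h2, h3⟩ := hm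
  let f := QuotientGroup.mk' N
  have hf := QuotientGroup.mk'_surjective N
  have := (inferInstance : P.Normal).map f hf
  have a1 := ih _ (hn ▸ card_lt_of_lt (lt_of_le_of_ne h1 h3)) h (hP.to_le h1) rfl (a := a)
    (eq_bot_iff.2 ((commutator_mono (commutator_mono h1 le_rfl) le_rfl).trans qa.le))
  have a2 := ih (Nat.card (P.map f)) (by
    have e := H1.card_map_mul_card_inf_ker f P
    rw [QuotientGroup.ker_mk', inf_eq_left.2 h1] at e
    rw [← hn, ← e]
    exact lt_mul_of_one_lt_right Nat.card_pos (N.one_lt_card_iff_ne_bot.2 h2)) (h.map hf) (hP.map f) rfl (a := f a)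
    (by rw [← MonoidHom.map_zpowers, ← map_commutator, ← map_commutator, qa, Subgroup.map_bot])
  refine le_opMod (D := opMod p ⊤ (𝐂 N) ⊓ (opMod p ⊤ (𝐂 (P.map f))).comap f) le_top
    (le_normalizer_inf (le_normalizer_opMod _ _ _) fun x _ => le_normalizer_comap f
      (le_normalizer_opMod p ⊤ _ (mem_top _))) ?_ ⟨a1, a2⟩
  refine le_centralizer_of_stab (pResidualOf_pResidualOf _ _) (hP.to_le h1) ?_
    ((pResidualOf_mono inf_le_left).trans (pResidualOf_opMod_le hc))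
  refine le_trans ?_ (QuotientGroup.ker_mk' N).le
  rw [← Subgroup.map_eq_bot_iff, map_commutator, commutator_eq_bot_iff', map_pResidualOf]
  exact (pResidualOf_mono (map_le_iff_le_comap.2 inf_le_right)).trans
    (pResidualOf_opMod_le (le_normalizer_centralizer (normalizer_eq_top _).ge))

theorem Hyp.zj (h5 : 5 ≤ p) (hF : Fintype.card F = p) {Γ : Type u} [Group Γ] [Finite Γ] {K A S : Subgroup Γ}
    (h : Hyp p (Matrix.ProjectiveSpecialLinearGroup (Fin 2) F) K A) (hS : IsSyl p S K) (hc : CharPOf p K) :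
    (⊤ : Subgroup Γ) ≤ 𝐍 (centerThompsonOf 0 S) := by
  have := h.nm
  have hs : PStab p (⊤ : Subgroup Γ) := fun P B h1 _ h3 _ _ h6 a ha => by
    have := normal_of_top_le_normalizer h3
    exact stab h5 hF _ h h1 rfl (quadratic_zpowers h6 ha)
  have hS' : IsSyl p S ⊤ := ⟨le_top, hS.isP, fun Q hQ h1 _ => hS.max Q hQ h1 fun x hx => by
    obtain ⟨n, hn⟩ := isPGroup_iff_mem.1 hQ x hx
    simpa using h.mem (MonoidHom.id Γ) hn⟩
  have hn : (⊤ : Subgroup Γ) ≤ 𝐍 (pCoreOf p K) := le_normalizer_pCoreOf_of_le (normalizer_eq_top K).ge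
  have h1 := zj_aux (by omega) (Or.inl rfl) hS' hs (isPGroup_pCoreOf p K) le_top hn
  have hZ := (centerThompsonOf_le 0 S).trans hS.le
  rwa [inf_eq_left.2] at h1
  rw [← opMod_eq_pCoreOf (le_normalizer_centralizer (le_normalizer_pCoreOf p K)) ((isPGroup_pCoreOf p K).to_le hc)]
  refine le_trans (le_inf hZ ?_) (inf_opMod_le le_top (le_normalizer_centralizer hn))
  exact hs _ _ (isPGroup_pCoreOf p K) le_top hn (hS.isP.to_le (centerThompsonOf_le 0 S)) le_top
    (commutator_eq_bot_iff_le_centralizer.2 ((commutator_le_of_le_normalizer'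
      (hS.pCoreOf_le.trans (le_normalizer_centerThompsonOf 0 S))).trans (comm_le_centralizer (centerThompsonOf_comm 0 S))))

end H13.EQ
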