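import Cfsg.Agent.H26.Loc
/-! Abstract part of `H26.FF`: an involution `a` acting on an `𝔽₂`-module `W` with `[W, a] ≤ I ≤ C(a)`, a normal
self-centralizing subgroup `F` of odd order whose `a`-inverted elements have no fixed point on `I` (`St`);
for `|I| = 4` (`St4`) the inverted elements form a group of order 5 (`St4.main`). -/
set_option autoImplicit false
namespace H13.FFa
open Subgroup

variable {Γ W : Type*} [Group Γ] [AddCommGroup W] [DistribMulAction Γ W]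

theorem fix_of_sq {θ : Γ} (ho : Odd (orderOf θ)) {w : W} (h : θ • θ • w = w) : θ • w = w := by
  have : θ ^ 2 ∈ MulAction.stabilizer Γ w := by rw [MulAction.mem_stabilizer_iff, pow_two, mul_smul, h]
  exact H26.mem_of_pow_mem_coprime_orderOf (H := MulAction.stabilizer Γ w) (Nat.coprime_two_right.2 ho) this

theorem one_of_sq {θ : Γ} (ho : Odd (orderOf θ)) (h : θ * θ = 1) : θ = 1 :=
  H26.eq_one_of_pow_coprime (Nat.coprime_two_right.2 ho) (pow_orderOf_eq_one θ) (by rw [pow_two, h])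

theorem exists_sqrt {θ : Γ} (ho : Odd (orderOf θ)) : ∃ k : ℕ, θ ^ k * θ ^ k = θ := by
  obtain ⟨m, hm⟩ := ho
  exact ⟨m + 1, by rw [← pow_add, show m + 1 + (m + 1) = (2 * m + 1) + 1 by ring, pow_succ, ← hm, pow_orderOf_eq_one,
    one_mul]⟩

/-- `[W, θ]` -/
def rg (W : Type*) [AddCommGroup W] [DistribMulAction Γ W] (θ : Γ) : AddSubgroup W where
  carrier := {w | ∃ v, θ • v - v = w}
  zero_mem' := ⟨0, by simp⟩
  add_mem' := by rintro _ _ ⟨v, rfl⟩ ⟨u, rfl⟩; exact ⟨v + u, by rw [smul_add]; abel⟩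
  neg_mem' := by rintro _ ⟨v, rfl⟩; exact ⟨-v, by rw [smul_neg]; abel⟩

/-- the elements acting trivially on `W / Y` -/
def tr (Γ : Type*) [Group Γ] [DistribMulAction Γ W] (Y : AddSubgroup W) : Subgroup Γ where
  carrier := {f | ∀ w, f • w - w ∈ Y}
  one_mem' := fun w => by simp
  mul_mem' := fun {f g} hf hg w => by
    have := Y.add_mem (hf (g • w)) (hg w)
    rwa [sub_add_sub_cancel, ← mul_smul] at this
  inv_mem' := fun {f} hf w => by
    have := Y.neg_mem (hf (f⁻¹ • w))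
    rwa [smul_inv_smul, neg_sub] at this

/-- the fixed points of an element -/
def fx (W : Type*) [AddCommGroup W] [DistribMulAction Γ W] (c : Γ) : AddSubgroup W where
  carrier := {w | c • w = w}
  zero_mem' := smul_zero c
  add_mem' := fun {v u} hv hu => by
    change c • (v + u) = v + u
    rw [smul_add, show c • v = v from hv, show c • u = u from hu]
  neg_mem' := fun {v} hv => by
    change c • (-v) = -v
    rw [smul_neg, show c • v = v from hv]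

theorem mem_tr_rg (θ : Γ) : θ ∈ tr Γ (rg W θ) := fun w => ⟨w, rfl⟩

theorem rg_le {φ : Γ} {Y : AddSubgroup W} (h : φ ∈ tr Γ Y) : rg W φ ≤ Y := by
  rintro _ ⟨v, rfl⟩; exact h v

theorem rg_le_of_mem {φ θ : Γ} (h : φ ∈ zpowers θ) : rg W φ ≤ rg W θ :=
  rg_le ((zpowers_le_of_mem (mem_tr_rg θ)) h)

theorem smul_mem_rg (γ : Γ) {θ : Γ} {w : W} (h : w ∈ rg W θ) : γ • w ∈ rg W (γ * θ * γ⁻¹) := by
  obtain ⟨v, rfl⟩ := h
  exact ⟨γ • v, by rw [smul_sub, mul_smul, mul_smul, inv_smul_smul]⟩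

theorem smul_mem_rg' {γ θ : Γ} (hc : γ * θ * γ⁻¹ ∈ zpowers θ) {w : W} (h : w ∈ rg W θ) : γ • w ∈ rg W θ :=
  rg_le_of_mem hc (smul_mem_rg γ h)

theorem smul_mem_rg_comm {γ θ : Γ} (hc : γ * θ = θ * γ) {w : W} (h : w ∈ rg W θ) : γ • w ∈ rg W θ :=
  smul_mem_rg' (by rw [hc, mul_inv_cancel_right]; exact mem_zpowers θ) h

section
variable (h2 : ∀ w : W, w + w = 0)
include h2

theorem sub_eq (v w : W) : v - w = v + w := by linear_combination (norm := abel1) -h2 w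

theorem eq_of_add {v w : W} (h : v + w = 0) : v = w := by linear_combination (norm := abel1) h - h2 w

theorem rg_fix {θ : Γ} (ho : Odd (orderOf θ)) {w : W} (h : w ∈ rg W θ) (hf : θ • w = w) : w = 0 := by
  obtain ⟨v, rfl⟩ := h
  rw [smul_sub] at hf
  have : θ • v = v := fix_of_sq ho (by linear_combination (norm := abel1) hf + h2 (θ • v) - h2 v)
  rw [this, sub_self]

theorem rg_surj [Finite W] {θ : Γ} (ho : Odd (orderOf θ)) {w : W} (h : w ∈ rg W θ) :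
    ∃ u ∈ rg W θ, θ • u - u = w := by
  let f : rg W θ → rg W θ := fun u => ⟨θ • u.1 - u.1, u.1, rfl⟩
  have hf : Function.Injective f := fun u v e => by
    have e1 : θ • u.1 - u.1 = θ • v.1 - v.1 := congrArg Subtype.val e
    have := rg_fix h2 ho ((rg W θ).sub_mem u.2 v.2) (by rw [smul_sub]; linear_combination (norm := abel1) e1)
    exact Subtype.ext (sub_eq_zero.1 this)
  obtain ⟨u, hu⟩ := Finite.surjective_of_injective hf ⟨w, h⟩
  exact ⟨u.1, u.2, congrArg Subtype.val hu⟩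

theorem decomp [Finite W] {θ : Γ} (ho : Odd (orderOf θ)) (w : W) : ∃ c, ∃ v ∈ rg W θ, θ • c = c ∧ w = c + v := by
  obtain ⟨u, hu, e⟩ := rg_surj h2 ho (⟨w, rfl⟩ : θ • w - w ∈ rg W θ)
  exact ⟨w - u, u, hu, by rw [smul_sub]; linear_combination (norm := abel1) -e, by abel⟩

theorem one_of_tr (hf : ∀ γ : Γ, (∀ w : W, γ • w = w) → γ = 1) {c : Γ} (ho : Odd (orderOf c))
    (h : c ∈ tr Γ (fx W c)) : c = 1 :=
  hf c fun w => sub_eq_zero.1 (rg_fix h2 ho ⟨w, rfl⟩ (h w))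
end

theorem four_gen {F : Subgroup Γ} (hn : F.Normal) (ho : ∀ f ∈ F, Odd (orderOf f)) {a b f : Γ} (ha : a * a = 1)
    (hb : b * b = 1) (hab : a * b = b * a) (hf : f ∈ F) (hfa : a * f ≠ f * a) :
    ∃ θ ∈ F, θ ≠ 1 ∧ a * θ * a = θ⁻¹ ∧ (b * θ = θ * b ∨ a * b * θ = θ * (a * b)) := by
  have ai : a⁻¹ = a := inv_eq_of_mul_eq_one_right ha
  have bi : b⁻¹ = b := inv_eq_of_mul_eq_one_right hb
  have key : ∀ w c : Γ, w * w = 1 → a * w ∈ F → c * a = a * c → c * w = w * c → w ≠ a →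
      a * w ≠ 1 ∧ a * (a * w) * a = (a * w)⁻¹ ∧ c * (a * w) = a * w * c := fun w c hw _ h1 h2 h3 => by
    refine ⟨fun e => h3 ?_, ?_, ?_⟩
    · rw [← ai]; exact eq_inv_of_mul_eq_one_right e
    · rw [← mul_assoc, ha, one_mul, mul_inv_rev, ai, inv_eq_of_mul_eq_one_right hw]
    · rw [← mul_assoc, h1, mul_assoc, h2, mul_assoc]
  obtain ⟨b', hb'⟩ : ∃ b', b' = f * (a * b) * f⁻¹ := ⟨_, rfl⟩
  have hab2 : a * b * (a * b) = 1 := by
    rw [mul_assoc, ← mul_assoc b, ← hab, mul_assoc, hb, mul_one, ha]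
  have hbb : b' * b' = 1 := by
    rw [hb']; calc _ = f * (a * b * (a * b)) * f⁻¹ := by group
      _ = 1 := by rw [hab2]; group
  obtain ⟨x, hx⟩ : ∃ x, x = b * b' := ⟨_, rfl⟩
  let π := QuotientGroup.mk' F
  have πf : π f = 1 := (QuotientGroup.eq_one_iff f).2 hf
  have πx : π x = π a := by
    rw [hx, hb', map_mul, map_mul, map_mul, map_inv, πf, one_mul, inv_one, mul_one, ← map_mul, hab, ← mul_assoc, hb,
      one_mul]
  have hxx : x * x ∈ F := (QuotientGroup.eq_one_iff _).1 (by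
    change π (x * x) = 1
    rw [map_mul, πx, ← map_mul, ha, map_one])
  obtain ⟨m, hm⟩ := ho _ hxx
  obtain ⟨w, hw⟩ : ∃ w, w = x ^ (2 * m + 1) := ⟨_, rfl⟩
  have hww : w * w = 1 := by
    rw [hw, ← (Commute.refl x).mul_pow, ← hm, pow_orderOf_eq_one]
  have wi : w⁻¹ = w := inv_eq_of_mul_eq_one_right hww
  have haw : a * w ∈ F := (QuotientGroup.eq_one_iff _).1 (by
    change π (a * w) = 1
    rw [hw, map_mul, map_pow, πx, ← map_pow, pow_succ, pow_mul, pow_two, ha, one_pow, one_mul, ← map_mul, ha, map_one])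
  have cw : ∀ c : Γ, c * x * c⁻¹ = x⁻¹ → c * w = w * c := fun c hc => by
    have : c * w * c⁻¹ = w := by rw [hw, ← conj_pow, hc, inv_pow, ← hw, wi]
    rw [← this, inv_mul_cancel_right, this]
  have b'i : b'⁻¹ = b' := inv_eq_of_mul_eq_one_right hbb
  by_cases e : w = a
  · have h1 : b' * a = a * b' := e ▸ cw b' (by
      rw [hx, b'i, mul_inv_rev, bi, b'i, mul_assoc, mul_assoc, hbb, mul_one])
    have h2 : (f⁻¹ * a * f) * (f⁻¹ * a * f) = 1 := by
      calc _ = f⁻¹ * (a * a) * f := by group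
        _ = 1 := by rw [ha]; group
    have h3 : a * (f⁻¹ * a * f) ∈ F := by
      have := F.mul_mem (hn.conj_mem _ (F.inv_mem hf) a) hf
      rwa [ai, show a * f⁻¹ * a * f = a * (f⁻¹ * a * f) by group] at this
    obtain ⟨k1, k2, k3⟩ := key _ (a * b) h2 h3 (by rw [mul_assoc, ← hab]) (by
      calc _ = f⁻¹ * (b' * a) * f := by rw [hb']; group
        _ = _ := by rw [h1, hb']; group) (fun e => hfa (by
      calc a * f = f * (f⁻¹ * a * f) := by group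
        _ = _ := by rw [e]))
    exact ⟨_, h3, k1, k2, Or.inr k3⟩
  · obtain ⟨k1, k2, k3⟩ := key w b hww haw hab.symm (cw b (by
      rw [hx, mul_inv_rev, bi, b'i, ← mul_assoc, hb, one_mul])) e
    exact ⟨_, haw, k1, k2, Or.inl k3⟩

structure St (F : Subgroup Γ) (a : Γ) (I : AddSubgroup W) : Prop where
  two : ∀ w : W, w + w = 0
  faith : ∀ γ : Γ, (∀ w : W, γ • w = w) → γ = 1
  nor : F.Normal
  odd : ∀ f ∈ F, Odd (orderOf f)
  cen : ∀ x : Γ, (∀ f ∈ F, x * f = f * x) → x ∈ F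
  aa : a * a = 1
  a1 : a ≠ 1
  memI : ∀ w, a • w - w ∈ I
  fixI : ∀ i ∈ I, a • i = i
  sol : ∀ θ ∈ F, a * θ * a = θ⁻¹ → θ ≠ 1 → ∀ i ∈ I, θ • i = i → i = 0

namespace St
variable {F : Subgroup Γ} {a : Γ} {I : AddSubgroup W} (h : St F a I)
include h

theorem ai : a⁻¹ = a := inv_eq_of_mul_eq_one_right h.aa

theorem exists_nc : ∃ f ∈ F, a * f ≠ f * a := by
  by_contra! e
  exact h.a1 (one_of_sq (h.odd a (h.cen a e)) h.aa)

theorem sw {θ : Γ} (hi : a * θ * a = θ⁻¹) (w : W) : a • θ • w = θ⁻¹ • a • w := by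
  rw [← mul_smul, ← mul_smul, ← hi, mul_assoc, h.aa, mul_one]

theorem sw' {θ : Γ} (hi : a * θ * a = θ⁻¹) (w : W) : a • θ⁻¹ • w = θ • a • w := by
  rw [← mul_smul, ← mul_smul, ← hi, ← mul_assoc, ← mul_assoc, h.aa, one_mul]

theorem disj {θ : Γ} (hθ : θ ∈ F) (hi : a * θ * a = θ⁻¹) (h1 : θ ≠ 1) {j : W} (hj : j ∈ I) (hj' : θ • j ∈ I) :
    j = 0 := by
  have e := h.sw hi j
  rw [h.fixI _ hj', h.fixI _ hj] at e
  exact h.sol θ hθ hi h1 j hj (fix_of_sq (h.odd θ hθ) (by rw [e, smul_inv_smul]))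

theorem uniq {b : Γ} (hb : b * b = 1) (b1 : b ≠ 1) (hab : a * b = b * a) (hI : ∀ w, b • w - w ∈ I) : b = a := by
  obtain ⟨f, hf, hfa⟩ := h.exists_nc
  obtain ⟨θ, hθ, h1, hi, hc⟩ := four_gen h.nor h.odd h.aa hb hab hf hfa
  have key : ∀ c : Γ, c ∈ tr Γ I → c * θ = θ * c → c = 1 := fun c hc e => h.faith c fun w =>
    sub_eq_zero.1 (h.disj hθ hi h1 (hc w) (by
      rw [smul_sub, ← mul_smul, ← e, mul_smul]; exact hc _))
  rcases hc with e | e
  · exact (b1 (key b hI e)).elim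
  · rw [← h.ai]; exact eq_inv_of_mul_eq_one_right (key _ ((tr Γ I).mul_mem h.memI hI) e)

variable [Finite W] {θ : Γ} (hθ : θ ∈ F) (hi : a * θ * a = θ⁻¹)
include hθ hi

omit [Finite W] hθ in
theorem a_rg {w : W} (hw : w ∈ rg W θ) : a • w ∈ rg W θ :=
  smul_mem_rg' (by rw [h.ai, hi]; exact inv_mem (mem_zpowers θ)) hw

theorem b1 {w : W} (hw : w ∈ rg W θ) (ha : a • w = w) : ∃ u ∈ rg W θ, a • u = u ∧ θ⁻¹ • u - θ • u = w := by
  have ho := h.odd θ hθ
  obtain ⟨u1, m1, e1⟩ := rg_surj h.two ho (smul_mem_rg_comm (γ := θ) rfl hw)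
  obtain ⟨u, m, e⟩ := rg_surj h.two ho m1
  have k : ∀ v : W, θ⁻¹ • v - θ • v = θ⁻¹ • (θ • (θ • v - v) - (θ • v - v)) := fun v => by
    simp only [smul_sub, inv_smul_smul]
    linear_combination (norm := abel1) h.two v - h.two (θ • v)
  have e2 : θ⁻¹ • u - θ • u = w := by rw [k, e, e1, inv_smul_smul]
  refine ⟨u, m, ?_, e2⟩
  have e3 : θ⁻¹ • a • u - θ • a • u = w := by
    rw [← h.sw hi, ← h.sw' hi, ← ha, ← e2, smul_sub]
    linear_combination (norm := abel1) h.two (a • θ • u) - h.two (a • θ⁻¹ • u)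
  have m2 := (rg W θ).sub_mem (h.a_rg hi m) m
  refine sub_eq_zero.1 (rg_fix h.two ho m2 (fix_of_sq ho ?_))
  have e4 : θ⁻¹ • (a • u - u) = θ • (a • u - u) := by
    rw [smul_sub, smul_sub]; linear_combination (norm := abel1) e3 - e2
  rw [← e4, smul_inv_smul]

theorem b1' {w : W} (hw : w ∈ rg W θ) (ha : a • w = w) : ∃ v, a • v - v = w := by
  obtain ⟨u, -, k, e⟩ := h.b1 hθ hi hw ha
  exact ⟨θ • u, by rw [h.sw hi, k, e]⟩

theorem fix_mem {w : W} (hw : w ∈ rg W θ) (ha : a • w = w) : w ∈ I := by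
  obtain ⟨v, rfl⟩ := h.b1' hθ hi hw ha
  exact h.memI v

theorem fix_a {c : W} (h1 : θ ≠ 1) (hc : θ • c = c) : a • c = c :=
  sub_eq_zero.1 (h.sol θ hθ hi h1 _ (h.memI c) (by
    rw [smul_sub, ← h.sw' hi, hc, inv_smul_eq_iff.2 hc.symm]))

theorem b2 (h1 : θ ≠ 1) {i : W} (hI : i ∈ I) : i ∈ rg W θ := by
  obtain ⟨c, v, hv, hc, rfl⟩ := decomp h.two (h.odd θ hθ) i
  have e := h.fixI _ hI
  rw [smul_add, h.fix_a hθ hi h1 hc, add_right_inj] at e
  have : c ∈ I := by simpa using I.sub_mem hI (h.fix_mem hθ hi hv e)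
  rwa [h.sol θ hθ hi h1 c this hc, zero_add]

theorem b3 {w : W} (hw : w ∈ rg W θ) : ∃ i ∈ I, ∃ j ∈ I, w = i + θ • j := by
  obtain ⟨u, m, k, e⟩ := h.b1 hθ hi ((rg W θ).sub_mem (h.a_rg hi hw) hw) (h.fixI _ (h.memI w))
  refine ⟨w - θ • u, h.fix_mem hθ hi ((rg W θ).sub_mem hw (smul_mem_rg_comm rfl m)) ?_, u, h.fix_mem hθ hi m k, by abel⟩
  rw [smul_sub, h.sw hi, k]
  linear_combination (norm := abel1) -e
end St

theorem St.exists_inv {F : Subgroup Γ} {a : Γ} {I : AddSubgroup W} (h : St F a I) :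
    ∃ θ ∈ F, a * θ * a = θ⁻¹ ∧ θ ≠ 1 := by
  obtain ⟨f, hf, hfa⟩ := h.exists_nc
  refine ⟨f * (a * f⁻¹ * a⁻¹), F.mul_mem hf (h.nor.conj_mem _ (F.inv_mem hf) a), ?_, fun e => hfa ?_⟩
  · rw [h.ai]; calc _ = a * f * a * f⁻¹ * (a * a) := by group
      _ = _ := by rw [h.aa, mul_one, mul_inv_rev, mul_inv_rev, mul_inv_rev, h.ai]; group
  · calc a * f = f * (a * f⁻¹ * a⁻¹) * (a * f) := by rw [e, one_mul]
      _ = _ := by group

theorem St.comm_of_mem {F : Subgroup Γ} {a : Γ} {I : AddSubgroup W} [Finite W] (h : St F a I) {i : W} (hI : i ∈ I) :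
    ∃ v, a • v - v = i := by
  obtain ⟨θ, hθ, hi, h1⟩ := h.exists_inv
  exact h.b1' hθ hi (h.b2 hθ hi h1 hI) (h.fixI i hI)

theorem St.split {F : Subgroup Γ} {a : Γ} {I : AddSubgroup W} (h : St F a I) {f : Γ} (hf : f ∈ F) :
    ∃ θ ∈ F, a * θ * a = θ⁻¹ ∧ a * (θ⁻¹ * f) = θ⁻¹ * f * a := by
  have m : f * (a * f⁻¹ * a⁻¹) ∈ F := F.mul_mem hf (h.nor.conj_mem _ (F.inv_mem hf) a)
  have e : a * (f * (a * f⁻¹ * a⁻¹)) * a⁻¹ = (f * (a * f⁻¹ * a⁻¹))⁻¹ := by
    calc _ = a * f * a * f⁻¹ * (a * a)⁻¹ := by group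
      _ = _ := by rw [h.aa, inv_one, mul_one, mul_inv_rev, mul_inv_rev, mul_inv_rev, h.ai, h.ai]; group
  obtain ⟨k, hk⟩ := exists_sqrt (h.odd _ m)
  set θ := (f * (a * f⁻¹ * a⁻¹)) ^ k with hθ
  have e1 : a * θ * a⁻¹ = θ⁻¹ := by rw [hθ, ← conj_pow, e, inv_pow]
  refine ⟨θ, F.pow_mem m k, by rw [← e1, h.ai], ?_⟩
  have e2 : a * θ⁻¹ * a⁻¹ = θ := by rw [← conj_inv, e1, inv_inv]
  calc a * (θ⁻¹ * f) = a * θ⁻¹ * a⁻¹ * (a * f) := by group
    _ = θ⁻¹ * (θ * θ) * (a * f) := by rw [e2]; group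
    _ = _ := by rw [hk]; group

theorem zsmul_cases (h2 : ∀ w : W, w + w = 0) (m : ℤ) (w : W) : m • w = 0 ∨ m • w = w := by
  obtain ⟨k, rfl | rfl⟩ := Int.even_or_odd' m
  · left; rw [two_mul, add_smul, h2]
  · right; rw [two_mul, add_smul, add_smul, h2, zero_add, one_smul]

theorem conj_pow_pow {c η : Γ} {j : ℕ} (e : c * η * c⁻¹ = η ^ j) (n : ℕ) : c ^ n * η * (c ^ n)⁻¹ = η ^ j ^ n := by
  induction n with
  | zero => simp
  | succ n ih =>
    calc _ = c * (c ^ n * η * (c ^ n)⁻¹) * c⁻¹ := by rw [pow_succ']; group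
      _ = _ := by rw [ih, ← conj_pow, e, ← pow_mul, pow_succ']

structure St4 (F : Subgroup Γ) (a : Γ) (I : AddSubgroup W) (y i₀ : W) : Prop extends St F a I where
  nil : Group.IsNilpotent F
  yI : y ∈ I
  iI : i₀ ∈ I
  y0 : y ≠ 0
  i0 : i₀ ≠ 0
  iy : i₀ ≠ y
  four : ∀ i ∈ I, i = 0 ∨ i = y ∨ i = i₀ ∨ i = i₀ + y
  fixy : ∀ γ : Γ, γ * a = a * γ → γ • y = y
  span : ∀ Y : AddSubgroup W, (∀ γ : Γ, γ • y ∈ Y) → ∀ w, w ∈ Y

/-- `η` generates the set of `a`-inverted elements of `F` -/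
structure Et (F : Subgroup Γ) (a η : Γ) : Prop where
  mem : η ∈ F
  inv : a * η * a = η⁻¹
  ne : η ≠ 1
  gen : ∀ θ ∈ F, a * θ * a = θ⁻¹ → θ ∈ zpowers η
  ord : orderOf η = 3 ∨ orderOf η = 5

namespace St4
variable [Finite W] {F : Subgroup Γ} {a : Γ} {I : AddSubgroup W} {y i₀ : W} (h : St4 F a I y i₀)
include h

omit [Finite W] in
theorem cardI : Nat.card I = 4 := by
  have e : (I : Set W) = {0, y, i₀, i₀ + y} := by
    ext i; constructor
    · exact h.four i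
    · rintro (rfl | rfl | rfl | rfl)
      exacts [I.zero_mem, h.yI, h.iI, I.add_mem h.iI h.yI]
  have k1 : i₀ + y ≠ 0 := fun e => h.iy (eq_of_add h.two e)
  change (I : Set W).ncard = 4
  rw [e, Set.ncard_insert_of_notMem, Set.ncard_insert_of_notMem, Set.ncard_pair] <;>
    simp [h.y0, h.i0, h.iy, h.y0.symm, h.i0.symm, h.iy.symm, k1.symm]

theorem cI {γ : Γ} (e : γ * a = a * γ) {i : W} (hi : i ∈ I) : γ • i ∈ I := by
  obtain ⟨v, rfl⟩ := h.comm_of_mem hi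
  rw [smul_sub, ← mul_smul, e, mul_smul]; exact h.memI _

theorem fixc {c : Γ} (hc : c ∈ F) (e : a * c = c * a) {i : W} (hi : i ∈ I) : c • i = i := by
  have k := h.fixy c e.symm
  have k0 : c • i₀ = i₀ := by
    rcases h.four _ (h.cI e.symm h.iI) with k1 | k1 | k1 | k1
    · exact (h.i0 ((smul_eq_zero_iff_eq c).1 k1)).elim
    · exact (h.iy (smul_left_cancel c (k1.trans k.symm))).elim
    · exact k1
    · exact fix_of_sq (h.odd c hc) (by rw [k1, smul_add, k1, k, add_assoc, h.two, add_zero])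
  rcases h.four i hi with rfl | rfl | rfl | rfl
  exacts [smul_zero c, k, k0, by rw [smul_add, k, k0]]

theorem rg_fx {c θ : Γ} (hc : ∀ i ∈ I, c • i = i) (hθ : θ ∈ F) (hi : a * θ * a = θ⁻¹) (e' : c * θ = θ * c) :
    rg W θ ≤ fx W c := fun w hw => by
  obtain ⟨i, m, j, n, rfl⟩ := h.b3 hθ hi hw
  change c • _ = _
  rw [smul_add, ← mul_smul, e', mul_smul, hc i m, hc j n]

theorem rg_rg {η θ : Γ} (hη : η ∈ F) (hi' : a * η * a = η⁻¹) (h1 : η ≠ 1) (hθ : θ ∈ F) (hi : a * θ * a = θ⁻¹)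
    (e : θ * η = η * θ) : rg W θ ≤ rg W η := fun w hw => by
  obtain ⟨i, m, j, n, rfl⟩ := h.b3 hθ hi hw
  exact (rg W η).add_mem (h.b2 hη hi' h1 m) (smul_mem_rg_comm e (h.b2 hη hi' h1 n))

theorem card_rg {η : Γ} (hη : η ∈ F) (hi : a * η * a = η⁻¹) (h1 : η ≠ 1) : Nat.card (rg W η) = 16 := by
  let f : I × I → rg W η := fun p => ⟨p.1.1 + η • p.2.1,
    (rg W η).add_mem (h.b2 hη hi h1 p.1.2) (smul_mem_rg_comm rfl (h.b2 hη hi h1 p.2.2))⟩
  have hf : Function.Bijective f := ⟨fun p q e => by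
    have e1 : p.1.1 + η • p.2.1 = q.1.1 + η • q.2.1 := congrArg Subtype.val e
    have e2 : p.2.1 - q.2.1 = 0 := h.disj hη hi h1 (I.sub_mem p.2.2 q.2.2) (by
      rw [smul_sub, show η • p.2.1 - η • q.2.1 = q.1.1 - p.1.1 by linear_combination (norm := abel1) e1]
      exact I.sub_mem q.1.2 p.1.2)
    rw [sub_eq_zero.1 e2, add_left_inj] at e1
    exact Prod.ext (Subtype.ext e1) (Subtype.ext (sub_eq_zero.1 e2)), fun w => by
    obtain ⟨i, m, j, n, e⟩ := h.b3 hη hi w.2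
    exact ⟨(⟨i, m⟩, ⟨j, n⟩), Subtype.ext e.symm⟩⟩
  rw [← Nat.card_eq_of_bijective f hf, Nat.card_prod, h.cardI]

theorem exists_et [Finite Γ] : ∃ η, Et F a η := by
  let F1 := closure {θ | θ ∈ F ∧ a * θ * a = θ⁻¹}
  have le1 : F1 ≤ F := (closure_le _).2 fun _ k => k.1
  have sub : ∀ θ ∈ F, a * θ * a = θ⁻¹ → θ ∈ F1 := fun θ k1 k2 => subset_closure ⟨k1, k2⟩
  haveI := h.nil
  haveI : Group.IsNilpotent F1 := Group.nilpotent_of_mulEquiv (subgroupOfEquivOfLe le1)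
  obtain ⟨θ₀, m0, i0, n0⟩ := h.exists_inv
  haveI : Nontrivial F1 := ⟨⟨⟨θ₀, sub _ m0 i0⟩, 1, fun e => n0 (congrArg Subtype.val e)⟩⟩
  obtain ⟨⟨⟨η, hη⟩, hc⟩, n1⟩ := ne_bot_iff_exists_ne_one.1 (Group.IsNilpotent.center_ne_bot F1)
  have h1 : η ≠ 1 := fun e => n1 (Subtype.ext (Subtype.ext e))
  have cη : ∀ f ∈ F1, f * η = η * f := fun f hf => congrArg Subtype.val (mem_center_iff.1 hc ⟨f, hf⟩)
  have na : ∀ f ∈ F1, a * f * a ∈ F1 := fun f hf => by
    have : F1 ≤ F1.comap (MulAut.conj a).toMonoidHom := (closure_le _).2 fun θ k => by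
      change a * θ * a⁻¹ ∈ F1
      rw [h.ai, k.2]; exact F1.inv_mem (sub θ k.1 k.2)
    have := this hf
    change a * f * a⁻¹ ∈ F1 at this
    rwa [h.ai] at this
  have aaa : ∀ f, a * (a * f * a) * a = f := fun f => by
    rw [← mul_assoc, ← mul_assoc, h.aa, one_mul, mul_assoc, h.aa, mul_one]
  have cη' : ∀ f ∈ F1, f * (a * η * a) = a * η * a * f := fun f hf => by
    calc _ = a * (a * f * a) * a * (a * η * a) := by rw [aaa]
      _ = a * ((a * f * a) * (a * a) * η) * a := by group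
      _ = a * (η * (a * a) * (a * f * a)) * a := by rw [h.aa, mul_one, mul_one, cη _ (na f hf)]
      _ = a * η * a * (a * (a * f * a) * a) := by group
      _ = _ := by rw [aaa]
  have hi : a * η * a = η⁻¹ := by
    have mc : η * (a * η * a) ∈ F1 := F1.mul_mem hη (na η hη)
    have ca : a * (η * (a * η * a)) = η * (a * η * a) * a := by
      calc _ = a * η * a * η * a := by group
        _ = _ := by rw [cη' η hη]
    have cc : ∀ f ∈ F1, η * (a * η * a) * f = f * (η * (a * η * a)) := fun f hf => by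
      rw [mul_assoc, ← cη' f hf, ← mul_assoc, ← cη f hf, mul_assoc]
    have : F1 ≤ tr Γ (fx W (η * (a * η * a))) := (closure_le _).2 fun θ k w =>
      h.rg_fx (fun i => h.fixc (le1 mc) ca) k.1 k.2 (cc θ (sub θ k.1 k.2)) ⟨w, rfl⟩
    exact eq_inv_of_mul_eq_one_right (one_of_tr h.two h.faith (h.odd _ (le1 mc)) (this mc))
  have t1 : F1 ≤ tr Γ (rg W η) := (closure_le _).2 fun θ k w =>
    h.rg_rg (le1 hη) hi h1 k.1 k.2 (cη θ (sub θ k.1 k.2)) ⟨w, rfl⟩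
  have inv : ∀ f ∈ F1, a * f * a = f⁻¹ := fun f hf => by
    obtain ⟨θ, m, i, c⟩ := h.split (le1 hf)
    have mc : θ⁻¹ * f ∈ F1 := F1.mul_mem (F1.inv_mem (sub θ m i)) hf
    have := one_of_tr h.two h.faith (h.odd _ (le1 mc)) fun w =>
      h.rg_fx (fun i => h.fixc (le1 mc) c) (le1 hη) hi (cη _ mc) (t1 mc w)
    rwa [← inv_mul_eq_one.1 this]
  let v : Fin 3 → W := ![y, i₀, i₀ + y]
  have vI : ∀ k, v k ∈ I := fun k => by fin_cases k; exacts [h.yI, h.iI, I.add_mem h.iI h.yI]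
  have k1 : i₀ + y ≠ 0 := fun e => h.iy (eq_of_add h.two e)
  have v0 : ∀ k, v k ≠ 0 := fun k => by fin_cases k; exacts [h.y0, h.i0, k1]
  have vi : Function.Injective v := fun k l e => by
    fin_cases k <;> fin_cases l <;> simp_all [v, h.iy, h.iy.symm, h.y0, h.i0]
  let φ : Option (F1 × Fin 3) → rg W η := fun o => o.elim 0 fun p =>
    ⟨p.1.1 • v p.2, smul_mem_rg_comm (cη _ p.1.2) (h.b2 (le1 hη) hi h1 (vI _))⟩
  have hφ : Function.Injective φ := by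
    rintro (_ | ⟨θ, k⟩) (_ | ⟨θ', l⟩) e
    · rfl
    · exact (v0 l ((smul_eq_zero_iff_eq θ'.1).1 (congrArg Subtype.val e).symm)).elim
    · exact (v0 k ((smul_eq_zero_iff_eq θ.1).1 (congrArg Subtype.val e))).elim
    · have e1 : θ.1 • v k = θ'.1 • v l := congrArg Subtype.val e
      have m := (θ'⁻¹ * θ).2
      have e2 : (θ'⁻¹ * θ).1 • v k = v l := by
        change (θ'.1⁻¹ * θ.1) • _ = _
        rw [mul_smul, e1, inv_smul_smul]
      have e3 : θ'⁻¹ * θ = 1 := Subtype.ext (by_contra fun n =>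
        v0 k (h.disj (le1 m) (inv _ m) n (vI k) (e2 ▸ vI l)))
      obtain rfl := inv_mul_eq_one.1 e3
      rw [vi (smul_left_cancel _ e1)]
  have c1 := Nat.card_le_card_of_injective φ hφ
  rw [h.card_rg (le1 hη) hi h1, Finite.card_option, Nat.card_prod, Nat.card_eq_fintype_card (α := Fin 3),
    Fintype.card_fin] at c1
  have d := H26.orderOf_dvd_card_of_mem hη
  have o := h.odd η (le1 hη)
  have o1 : orderOf η ≠ 1 := fun e => h1 (orderOf_eq_one_iff.1 e)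
  have c0 : 0 < Nat.card F1 := Nat.card_pos
  have l := Nat.le_of_dvd c0 d
  have k : (orderOf η = 3 ∨ orderOf η = 5) ∧ Nat.card F1 ≤ orderOf η := by
    obtain ⟨t, ht⟩ := o
    generalize Nat.card F1 = n at *
    generalize orderOf η = r at *
    have : n ≤ 5 := by omega
    have : r ≤ 5 := by omega
    interval_cases n <;> interval_cases r <;> omega
  have e : zpowers η = F1 := eq_of_le_of_card_ge (zpowers_le_of_mem hη) (by rw [Nat.card_zpowers]; exact k.2)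
  exact ⟨η, le1 hη, hi, h1, fun θ m i => e ▸ sub θ m i, k.1⟩

variable [Finite Γ] {η : Γ} (e : Et F a η)
include e

omit [Finite W] [Finite Γ] in
theorem inv_of {θ : Γ} (m : θ ∈ zpowers η) : a * θ * a = θ⁻¹ := by
  obtain ⟨k, rfl⟩ := m
  have := e.inv
  rw [show a * η * a = a * η * a⁻¹ by rw [h.ai]] at this
  rw [show ∀ x, a * x * a = a * x * a⁻¹ by rw [h.ai]; simp, ← conj_zpow, this, inv_zpow]

omit [Finite W] in
theorem norm_a {γ : Γ} (c : γ * a = a * γ) : ∃ j : ℕ, γ * η * γ⁻¹ = η ^ j := by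
  have : γ * η * γ⁻¹ ∈ zpowers η := e.gen _ (h.nor.conj_mem _ e.mem γ) (by
    calc _ = (a * γ) * η * (a⁻¹ * γ)⁻¹ := by group
      _ = γ * (a * η * a) * γ⁻¹ := by rw [h.ai, ← c, mul_inv_rev, h.ai]; group
      _ = _ := by rw [e.inv]; group)
  obtain ⟨j, hj⟩ := mem_powers_iff_mem_zpowers.2 this
  exact ⟨j, hj.symm⟩

omit [Finite W] in
theorem comm_c {c : Γ} (hc : c ∈ F) (ca : a * c = c * a) : c * η = η * c := by
  obtain ⟨j, hj⟩ := h.norm_a e ca.symm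
  have n : η ^ (j % orderOf η) ≠ 1 := by
    rw [pow_mod_orderOf, ← hj]; intro k; exact e.ne (by simpa using k)
  have k : c ^ 4 * η * (c ^ 4)⁻¹ = η := by
    rw [conj_pow_pow hj, ← pow_mod_orderOf, Nat.pow_mod]
    rcases e.ord with o | o <;> rw [o] at n ⊢
    · have : j % 3 < 3 := Nat.mod_lt _ (by norm_num)
      generalize j % 3 = r at *
      interval_cases r <;> simp_all
    · have : j % 5 < 5 := Nat.mod_lt _ (by norm_num)
      generalize j % 5 = r at *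
      interval_cases r <;> simp_all
  have : c ∈ centralizer {η} := H26.mem_of_pow_mem_coprime_orderOf
    (Nat.Coprime.pow_right 2 (Nat.coprime_two_right.2 (h.odd c hc)))
    (mem_centralizer_singleton_iff.2 (mul_inv_eq_iff_eq_mul.1 k))
  exact mem_centralizer_singleton_iff.1 this

theorem c_fix {c : Γ} (hc : c ∈ F) (ca : a * c = c * a) : rg W η ≤ fx W c :=
  h.rg_fx (fun _ => h.fixc hc ca) e.mem e.inv (h.comm_c e hc ca)

theorem dich (γ : Γ) : η • γ • y = γ • y ∨ ∃ ψ ∈ zpowers η, ψ * γ * a = a * (ψ * γ) := by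
  have m' : γ⁻¹ * η * γ⁻¹⁻¹ ∈ F := h.nor.conj_mem _ e.mem _
  obtain ⟨θ, m, i, c⟩ := h.split m'
  have mc := F.mul_mem (F.inv_mem m) m'
  have cf := h.c_fix e mc c
  by_cases n : θ = 1
  · left
    have : (θ⁻¹ * (γ⁻¹ * η * γ⁻¹⁻¹)) • y = y := cf (h.b2 e.mem e.inv e.ne h.yI)
    rw [n, inv_one, one_mul, inv_inv, mul_smul, mul_smul, inv_smul_eq_iff] at this
    exact this
  right
  have mθ := e.gen θ m i
  have cθ : η * θ = θ * η := by obtain ⟨k, rfl⟩ := mθ; exact (Commute.refl η).zpow_right k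
  have l1 : rg W η ≤ rg W (γ⁻¹ * η * γ⁻¹⁻¹) := fun w hw => by
    obtain ⟨u, mu, rfl⟩ := rg_surj h.two (h.odd θ m) (h.rg_rg m i n e.mem e.inv cθ hw)
    have : (θ⁻¹ * (γ⁻¹ * η * γ⁻¹⁻¹)) • u = u := cf (rg_le_of_mem mθ mu)
    rw [mul_smul, inv_smul_eq_iff] at this
    exact ⟨u, by rw [this]⟩
  have l2 : rg W η = rg W (γ⁻¹ * η * γ⁻¹⁻¹) := AddSubgroup.eq_of_le_of_card_ge l1 (Nat.card_le_card_of_injective
    (fun w => ⟨γ • w.1, by simpa [mul_assoc] using smul_mem_rg γ w.2⟩)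
    fun v w k => Subtype.ext (smul_left_cancel γ (congrArg Subtype.val k)))
  have c1 : θ⁻¹ * (γ⁻¹ * η * γ⁻¹⁻¹) = 1 := one_of_tr h.two h.faith (h.odd _ mc) fun w =>
    cf ((tr Γ (rg W η)).mul_mem (inv_mem (zpowers_le_of_mem (mem_tr_rg η) mθ)) (l2 ▸ mem_tr_rg _) w)
  have c2 : γ * θ * γ⁻¹ = η := by rw [inv_mul_eq_one.1 c1]; group
  have mη : γ * η * γ⁻¹ ∈ zpowers η := by
    have : zpowers θ = zpowers η := eq_of_le_of_card_ge (zpowers_le_of_mem mθ) (by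
      rw [Nat.card_zpowers, Nat.card_zpowers, ← c2, H26.orderOf_cj])
    obtain ⟨k, hk⟩ : η ∈ zpowers θ := this ▸ mem_zpowers η
    exact ⟨k, by rw [← c2]; simp only [conj_zpow]; rw [c2]; exact congrArg (fun x => γ * x * γ⁻¹) hk⟩
  obtain ⟨b, hb⟩ : ∃ b, b = γ * a * γ⁻¹ := ⟨_, rfl⟩
  have bb : b * b = 1 := by
    calc _ = γ * (a * a) * γ⁻¹ := by rw [hb]; group
      _ = 1 := by rw [h.aa]; group
  have bη : b * η * b = η⁻¹ := by
    calc _ = γ * (a * θ * a) * γ⁻¹ := by rw [hb, ← c2]; group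
      _ = _ := by rw [i, ← c2]; group
  have bc : ∀ c ∈ F, a * c = c * a → b * c = c * b := fun c hc ca => by
    have m2 : γ⁻¹ * c * γ⁻¹⁻¹ ∈ F := h.nor.conj_mem _ hc _
    obtain ⟨θ2, m3, i3, c3⟩ := h.split m2
    have k1 : (θ2⁻¹ * (γ⁻¹ * c * γ⁻¹⁻¹)) • y = y := h.fixc (F.mul_mem (F.inv_mem m3) m2) c3 h.yI
    have k2 : c • γ • y = γ • y := h.c_fix e hc ca (smul_mem_rg' mη (h.b2 e.mem e.inv e.ne h.yI))
    rw [inv_inv, mul_smul, mul_smul, mul_smul, k2, inv_smul_smul, inv_smul_eq_iff] at k1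
    have k3 : θ2 = 1 := by_contra fun n => h.y0 (h.sol θ2 m3 i3 n y h.yI k1.symm)
    rw [k3, inv_one, one_mul] at c3
    calc _ = γ * (a * (γ⁻¹ * c * γ⁻¹⁻¹)) * γ⁻¹ := by rw [hb]; group
      _ = _ := by rw [c3, hb]; group
  have abη : a * b ∈ centralizer {η} := mem_centralizer_singleton_iff.2 (by
    calc _ = a * (b * η * b) * b⁻¹ := by group
      _ = (a * η * a⁻¹)⁻¹ * a * b⁻¹ := by rw [bη]; group
      _ = _ := by rw [h.ai, e.inv, inv_eq_of_mul_eq_one_right bb, inv_inv, mul_assoc])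
  have mab : a * b ∈ F := h.cen _ fun f hf => by
    obtain ⟨θ3, m3, i3, c3⟩ := h.split hf
    obtain ⟨k, rfl⟩ := e.gen θ3 m3 i3
    have k1 : Commute (a * b) (η ^ k) := Commute.zpow_right (mem_centralizer_singleton_iff.1 abη) k
    have k2 : Commute (a * b) ((η ^ k)⁻¹ * f) :=
      Commute.mul_left c3 (bc _ (F.mul_mem (F.inv_mem m3) hf) c3)
    have := k1.mul_right k2
    rwa [mul_inv_cancel_left] at this
  have mab' := e.gen _ mab (by
    rw [← mul_assoc, h.aa, one_mul, mul_inv_rev, h.ai, inv_eq_of_mul_eq_one_right bb])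
  obtain ⟨k, hk⟩ := exists_sqrt (h.odd _ mab)
  obtain ⟨ψ, hψ⟩ : ∃ ψ, ψ = (a * b) ^ k := ⟨_, rfl⟩
  have mψ : ψ ∈ zpowers η := hψ ▸ pow_mem mab' k
  refine ⟨ψ, mψ, ?_⟩
  rw [← hψ] at hk
  have k1 := h.inv_of e mψ
  calc _ = ψ * (a * a) * b * γ := by rw [hb, h.aa]; group
    _ = ψ * a * (ψ * ψ) * γ := by rw [hk]; group
    _ = ψ * (a * ψ * a) * a⁻¹ * ψ * γ := by group
    _ = _ := by rw [k1, h.ai]; group

theorem rg_le_span {Y : AddSubgroup W} (hY : ∀ k : ℕ, η ^ k • y ∈ Y) : rg W η ≤ Y := by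
  rintro _ ⟨w, rfl⟩
  refine h.span (Y.comap (DistribSMul.toAddMonoidHom W η - AddMonoidHom.id W)) (fun γ => ?_) w
  change η • γ • y - γ • y ∈ Y
  rcases h.dich e γ with k | ⟨ψ, m, k⟩
  · rw [k, sub_self]; exact Y.zero_mem
  · have k1 := h.fixy _ k
    obtain ⟨j, hj⟩ := mem_powers_iff_mem_zpowers.2 (inv_mem m)
    rw [mul_smul, smul_eq_iff_eq_inv_smul, ← show η ^ j = ψ⁻¹ from hj] at k1
    rw [k1, ← mul_smul, ← pow_succ']
    exact Y.sub_mem (hY _) (hY _)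

omit [Finite Γ] in
theorem y_rg (k : ℕ) : η ^ k • y ∈ rg W η :=
  smul_mem_rg_comm ((Commute.refl η).pow_left k) (h.b2 e.mem e.inv e.ne h.yI)

theorem five : orderOf η = 5 := by
  refine e.ord.resolve_left fun o => ?_
  have o3 : η • η • η • y = y := by
    rw [← mul_smul, ← mul_smul, ← pow_three', ← o, pow_orderOf_eq_one, one_smul]
  have m0 := h.b2 e.mem e.inv e.ne h.yI
  have m1 := smul_mem_rg_comm (γ := η) rfl m0
  have s : y + η • y + η • η • y = 0 := rg_fix h.two (h.odd η e.mem)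
    ((rg W η).add_mem ((rg W η).add_mem m0 m1) (smul_mem_rg_comm rfl m1)) (by rw [smul_add, smul_add, o3]; abel)
  let Y := AddSubgroup.closure {y, η • y}
  have y1 : y ∈ Y := AddSubgroup.subset_closure (by simp)
  have y2 : η • y ∈ Y := AddSubgroup.subset_closure (by simp)
  have : rg W η ≤ Y := h.rg_le_span e fun k => by
    rw [← pow_mod_orderOf, o]
    have : k % 3 < 3 := Nat.mod_lt _ (by norm_num)
    generalize k % 3 = r at *
    interval_cases r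
    · simpa using y1
    · simpa using y2
    · rw [pow_two, mul_smul, ← eq_of_add h.two s]; exact Y.add_mem y1 y2
  obtain ⟨m, n, k⟩ := AddSubgroup.mem_closure_pair.1 (this (h.b2 e.mem e.inv e.ne h.iI))
  rcases zsmul_cases h.two n (η • y) with k1 | k1 <;> rw [k1] at k
  · rcases zsmul_cases h.two m y with k2 | k2 <;> rw [k2, add_zero] at k
    exacts [h.i0 k.symm, h.iy k.symm]
  · exact h.y0 (h.disj e.mem e.inv e.ne h.yI (by
      rw [eq_sub_of_add_eq' k]; exact I.sub_mem h.iI (I.zsmul_mem h.yI m)))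

theorem pow5 : η ^ 5 = 1 := by rw [← h.five e, pow_orderOf_eq_one]

theorem sum5 : η ^ 0 • y + η ^ 1 • y + η ^ 2 • y + η ^ 3 • y + η ^ 4 • y = 0 := by
  have m := h.y_rg e
  refine rg_fix h.two (h.odd η e.mem) (add_mem (add_mem (add_mem (add_mem (m _) (m _)) (m _)) (m _)) (m _)) ?_
  simp only [smul_add, ← mul_smul, ← pow_succ']
  rw [show η ^ (4 + 1) = η ^ 0 from (h.pow5 e).trans (pow_zero η).symm]
  norm_num
  abel

theorem dich' {γ : Γ} (m : γ • y ∈ rg W η) : ∃ ψ ∈ zpowers η, ψ * γ * a = a * (ψ * γ) :=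
  (h.dich e γ).resolve_left fun k => h.y0 ((smul_eq_zero_iff_eq γ).1 (rg_fix h.two (h.odd η e.mem) m k))

theorem det {γ : Γ} (c : γ * a = a * γ) (c' : γ * η = η * γ) : rg W η ≤ fx W γ := h.rg_le_span e fun k => by
  change γ • _ = _
  rw [← mul_smul, ((show Commute γ η from c').pow_right k).eq, mul_smul, h.fixy γ c]

omit [Finite W] in
theorem a_norm {γ : Γ} (c : γ * a = a * γ) {w : W} (m : w ∈ rg W η) : γ • w ∈ rg W η := by
  obtain ⟨j, hj⟩ := h.norm_a e c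
  exact smul_mem_rg' (hj ▸ npow_mem_zpowers η j) m

theorem inv4 : η⁻¹ = η ^ 4 := inv_eq_of_mul_eq_one_right (by rw [← pow_succ', h.pow5 e])

theorem a_pow (k : ℕ) : a • η ^ k • y = η ^ (4 * k) • y := by
  rw [h.sw (h.inv_of e (npow_mem_zpowers η k)), h.fixI y h.yI, ← inv_pow, h.inv4 e, pow_mul]

theorem cases4 {γ : Γ} (c : γ * a = a * γ) : rg W η ≤ fx W γ ∨ rg W η ≤ fx W (γ * a) ∨
    ((γ * η * γ⁻¹ = η ^ 2 ∨ γ * η * γ⁻¹ = η ^ 3) ∧ ∃ i ∈ I, γ • i ≠ i) := by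
  obtain ⟨j, hj⟩ := h.norm_a e c
  rw [← pow_mod_orderOf, h.five e] at hj
  have k : ∀ n : ℕ, γ • η ^ n • y = η ^ (j % 5 * n % 5) • y := fun n => by
    rw [← h.five e, pow_mod_orderOf, h.five e, pow_mul, ← hj, conj_pow, mul_smul, mul_smul,
      inv_smul_eq_iff.2 (h.fixy γ c).symm]
  have mi : η ^ 4 • y - η ^ 1 • y ∈ I := by have := h.memI (η ^ 1 • y); rwa [h.a_pow e] at this
  have s := h.sum5 e
  rw [pow_zero, one_smul] at s
  have : j % 5 < 5 := Nat.mod_lt _ (by norm_num)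
  generalize j % 5 = r at *
  interval_cases r
  · exact (e.ne (by simpa using hj)).elim
  · exact .inl (h.det e c (mul_inv_eq_iff_eq_mul.1 (by simpa using hj)))
  · refine .inr (.inr ⟨.inl hj, _, mi, fun n => h.y0 ?_⟩)
    rw [smul_sub, k, k] at n
    norm_num at n s
    linear_combination (norm := abel1) s - n - h.two (η ^ 4 • y) - h.two (η ^ 2 • y)
  · refine .inr (.inr ⟨.inr hj, _, mi, fun n => h.y0 ?_⟩)
    rw [smul_sub, k, k] at n
    norm_num at n s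
    linear_combination (norm := abel1) s - n - h.two (η ^ 4 • y) - h.two (η ^ 3 • y)
  · refine .inr (.inl (h.det e (by rw [← mul_assoc, c]) ?_))
    have k1 : γ * η⁻¹ * γ⁻¹ = η := by rw [← conj_inv, hj, ← h.inv4 e, inv_inv]
    calc _ = γ * (a * η * a) * γ⁻¹ * γ * a⁻¹ := by group
      _ = _ := by rw [e.inv, k1, h.ai, mul_assoc]

theorem exists_out (p : W → Prop) (hp : ∀ v w, ¬ p v → ¬ p w → p (v + w)) :
    ∃ w ∈ rg W η, p w ∧ a • w ≠ w := by
  have s := h.sum5 e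
  have k1 := h.a_pow e 1
  have k2 := h.a_pow e 2
  have d : ∀ k : ℕ, ¬ 5 ∣ k → a • η ^ k • y ≠ η ^ k • y := fun k n i => h.y0 (h.disj (F.pow_mem e.mem k)
    (h.inv_of e (npow_mem_zpowers η k)) (fun o => n (h.five e ▸ orderOf_dvd_of_pow_eq_one o)) h.yI
    (h.fix_mem e.mem e.inv (h.y_rg e k) i))
  rw [show η ^ (4 * 2) = η ^ 5 * η ^ 3 by rw [← pow_add], h.pow5 e, one_mul] at k2
  by_cases p1 : p (η ^ 1 • y)
  · exact ⟨_, h.y_rg e 1, p1, d 1 (by norm_num)⟩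
  by_cases p2 : p (η ^ 2 • y)
  · exact ⟨_, h.y_rg e 2, p2, d 2 (by norm_num)⟩
  refine ⟨_, add_mem (h.y_rg e 1) (h.y_rg e 2), hp _ _ p1 p2, fun n => h.y0 ?_⟩
  rw [smul_add, k1, k2] at n
  rw [pow_zero, one_smul] at s
  norm_num at n s
  linear_combination (norm := abel1) s - n - h.two (η • y) - h.two (η ^ 2 • y)

theorem top_gen (ht : ∀ w, w ∈ rg W η) {s : Γ} (c : s * a = a * s) (hs : s * η * s⁻¹ = η ^ 2) :
    (∀ γ : Γ, γ * a = a * γ → γ ∈ zpowers s) ∧ Nat.card Γ = 20 := by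
  have one : ∀ γ : Γ, γ * a = a * γ → γ * η = η * γ → γ = 1 := fun γ k1 k2 => h.faith γ fun w => h.det e k1 k2 (ht w)
  have ca : ∀ γ ∈ zpowers s, γ * a = a * γ := by
    rintro _ ⟨k, rfl⟩; exact Commute.zpow_left c k
  have A : ∀ γ : Γ, γ * a = a * γ → γ ∈ zpowers s := fun γ k => by
    have key : ∀ t : ℕ, γ * η * γ⁻¹ = η ^ (2 ^ t % 5) → γ ∈ zpowers s := fun t k1 => by
      rw [← h.five e, pow_mod_orderOf, ← conj_pow_pow hs] at k1
      have := one ((s ^ t)⁻¹ * γ) (Commute.mul_left (Commute.inv_left (ca _ (npow_mem_zpowers s t))) k) (by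
        calc _ = (s ^ t)⁻¹ * (γ * η * γ⁻¹) * γ := by group
          _ = _ := by rw [k1]; group)
      rw [← inv_mul_eq_one.1 this]; exact npow_mem_zpowers s t
    obtain ⟨j, hj⟩ := h.norm_a e k
    rw [← pow_mod_orderOf, h.five e] at hj
    have : j % 5 < 5 := Nat.mod_lt _ (by norm_num)
    generalize j % 5 = r at *
    interval_cases r
    exacts [(e.ne (by simpa using hj)).elim, key 0 hj, key 1 hj, key 3 hj, key 2 hj]
  refine ⟨A, ?_⟩
  have o : orderOf s = 2 ^ 2 := by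
    refine orderOf_eq_prime_pow (fun n => ?_) (one _ (ca _ (npow_mem_zpowers s _)) (mul_inv_eq_iff_eq_mul.1 ?_))
    · have := conj_pow_pow hs (2 ^ 1)
      rw [n, one_mul, inv_one, mul_one] at this
      have d : orderOf η ∣ 3 := orderOf_dvd_of_pow_eq_one (mul_left_cancel (a := η) (by
        rw [← pow_succ', mul_one]; exact this.symm))
      rw [h.five e] at d; norm_num at d
    · rw [conj_pow_pow hs, ← pow_mod_orderOf, h.five e]; norm_num
  have : IsComplement' (zpowers η) (zpowers s) := isComplement'_of_disjoint_and_mul_eq_univ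
    (disjoint_def.2 fun {x} m1 m2 => one_of_sq (h.odd x (zpowers_le_of_mem e.mem m1)) (by
      have := h.inv_of e m1
      rw [← ca x m2, mul_assoc, h.aa, mul_one] at this
      rw [← mul_inv_cancel x, ← this]))
    (Set.eq_univ_iff_forall.2 fun γ => by
      obtain ⟨ψ, m, k⟩ := h.dich' e (ht (γ • y))
      exact ⟨ψ⁻¹, inv_mem m, ψ * γ, A _ k, inv_mul_cancel_left _ _⟩)
  rw [← this.card_mul_card, Nat.card_zpowers, Nat.card_zpowers, o, h.five e]; rfl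

end St4

theorem shift_span {P : (Fin 5 → ZMod 2) → Prop} (h0 : P 0) (ha : ∀ v w, P v → P w → P (v + w))
    (hs : ∀ v, P v → P fun k => v (k + 1)) {v : Fin 5 → ZMod 2} (hv : P v) (v0 : v ≠ 0) (v1 : ∑ k, v k = 0)
    (w : Fin 5 → ZMod 2) (w1 : ∑ k, w k = 0) : P w := by
  have sm : ∀ (m : ZMod 2) v, P v → P (m • v) := fun m v hv => by
    rcases (by decide : ∀ m : ZMod 2, m = 0 ∨ m = 1) m with rfl | rfl
    · rwa [zero_smul]
    · rwa [one_smul]
  have cl : ∀ v, P v → ∀ m : Fin 5 → ZMod 2, P fun k => m 0 * v k + m 1 * v (k + 1) + m 2 * v (k + 1 + 1) +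
      m 3 * v (k + 1 + 1 + 1) + m 4 * v (k + 1 + 1 + 1 + 1) := fun v hv m =>
    ha _ _ (ha _ _ (ha _ _ (ha _ _ (sm (m 0) _ hv) (sm (m 1) _ (hs _ hv))) (sm (m 2) _ (hs _ (hs _ hv))))
      (sm (m 3) _ (hs _ (hs _ (hs _ hv))))) (sm (m 4) _ (hs _ (hs _ (hs _ (hs _ hv)))))
  have k1 : ∀ v : Fin 5 → ZMod 2, v ≠ 0 → ∑ k, v k = 0 → ∃ m : Fin 5 → ZMod 2, (fun k => m 0 * v k + m 1 * v (k + 1) +
      m 2 * v (k + 1 + 1) + m 3 * v (k + 1 + 1 + 1) + m 4 * v (k + 1 + 1 + 1 + 1)) = ![1, 1, 0, 0, 0] := by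
    decide +kernel
  have k2 : ∀ w : Fin 5 → ZMod 2, ∑ k, w k = 0 → ∃ m : Fin 5 → ZMod 2, let v : Fin 5 → ZMod 2 := ![1, 1, 0, 0, 0]
      (fun k => m 0 * v k + m 1 * v (k + 1) +
      m 2 * v (k + 1 + 1) + m 3 * v (k + 1 + 1 + 1) + m 4 * v (k + 1 + 1 + 1 + 1)) = w := by
    decide +kernel
  obtain ⟨m, e⟩ := k1 v v0 v1
  obtain ⟨n, e'⟩ := k2 w w1
  exact e' ▸ cl _ (e ▸ cl v hv m) n

end H13.FFa
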