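import Cfsg.Agent.H13.FF1
import Cfsg.Agent.H18.FE2
import Cfsg.Agent.H1.Fitting
/-! `H26.FF`, part 2: the module `U/Z` (`Md`), the situation `b = 3` (`B3`), the affine lemma `aff`, `Sol4`
and the resulting abstract situation `St`. -/
set_option autoImplicit false
namespace H13.FFa
open Cfsg Subgroup H26 H4 H118
open scoped Pointwise commutatorElement
universe u

variable {G : Type*} [Group G]

/-- `W = U/⟨z⟩` as a faithful module for `Γ = H/C_H(W)` -/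
structure Md {Γ W : Type*} [Group Γ] [AddCommGroup W] [DistribMulAction Γ W] (H U : Subgroup G) (z : G)
    (mk : G → W) (ac : G → Γ) : Prop where
  two : ∀ w : W, w + w = 0
  faith : ∀ γ : Γ, (∀ w : W, γ • w = w) → γ = 1
  mk_mul : ∀ u ∈ U, ∀ v ∈ U, mk (u * v) = mk u + mk v
  mk_zero : ∀ u ∈ U, mk u = 0 ↔ u ∈ zpowers z
  mk_surj : ∀ w, ∃ u ∈ U, mk u = w
  ac_mul : ∀ g ∈ H, ∀ h ∈ H, ac (g * h) = ac g * ac h
  ac_surj : ∀ γ, ∃ h ∈ H, ac h = γ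
  smul : ∀ h ∈ H, ∀ u ∈ U, ac h • mk u = mk (h * u * h⁻¹)
  nU : H ≤ 𝐍 U

theorem exists_md {G : Type u} [Group G] [Finite G] {H U : Subgroup G} {z : G} (hU : IsElementaryAbelian 2 U)
    (nU : H ≤ 𝐍 U) (nz : H ≤ 𝐂 (zpowers z)) :
    ∃ (Γ W : Type u) (_ : Group Γ) (_ : Finite Γ) (_ : AddCommGroup W) (_ : Finite W) (_ : DistribMulAction Γ W)
      (mk : G → W) (ac : G → Γ), Md H U z mk ac := by
  classical
  letI : CommGroup U := { (inferInstance : Group U) with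
    mul_comm := fun a b => Subtype.ext (elemAb_le_centralizer hU b.2 a a.2) }
  let Z := (zpowers z).subgroupOf U
  let c : H →* MulAut U := U.normalizerMonoidHom.comp (inclusion nU)
  have hc : ∀ (h : H) (u : U), (c h u : G) = h * u * h⁻¹ := fun h u => rfl
  have hZ : ∀ h : H, Z ≤ Z.comap (c h).toMonoidHom := fun h u hu => by
    change (c h u : G) ∈ zpowers z
    rw [hc]; exact conj_mem_of_mem_normalizer (centralizer_le_normalizer _ (nz h.2)) hu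
  let f : H → (U ⧸ Z →* U ⧸ Z) := fun h => QuotientGroup.map Z Z (c h).toMonoidHom (hZ h)
  have f1 : ∀ w, f 1 w = w := fun w => by
    induction w using QuotientGroup.induction_on with
    | H u => change ((c 1 u : U) : U ⧸ Z) = u; rw [map_one]; rfl
  have f2 : ∀ g h w, f (g * h) w = f g (f h w) := fun g h w => by
    induction w using QuotientGroup.induction_on with
    | H u => change ((c (g * h) u : U) : U ⧸ Z) = (c g (c h u) : U); rw [map_mul]; rfl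
  let ρ : H →* MulAut (U ⧸ Z) := MonoidHom.mk' (fun h =>
    { toFun := f h, invFun := f h⁻¹, map_mul' := map_mul (f h)
      left_inv := fun w => by rw [← f2, inv_mul_cancel, f1]
      right_inv := fun w => by rw [← f2, mul_inv_cancel, f1] }) fun g h => MulEquiv.ext (f2 g h)
  letI : DistribMulAction ρ.range (Additive (U ⧸ Z)) :=
    { smul := fun γ w => Additive.ofMul (γ.1 w.toMul)
      one_smul := fun _ => rfl
      mul_smul := fun _ _ _ => rfl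
      smul_zero := fun γ => map_one γ.1
      smul_add := fun γ v w => map_mul γ.1 v.toMul w.toMul }
  refine ⟨ρ.range, Additive (U ⧸ Z), inferInstance, inferInstance, inferInstance, inferInstance, inferInstance,
    fun u => if hu : u ∈ U then Additive.ofMul ((⟨u, hu⟩ : U) : U ⧸ Z) else 0,
    fun h => if hh : h ∈ H then ρ.rangeRestrict ⟨h, hh⟩ else 1, fun w => ?_, fun γ e => ?_, fun u hu v hv => ?_,
    fun u hu => ?_, fun w => ?_, fun g hg h hh => ?_, fun γ => ?_, fun h hh u hu => ?_, nU⟩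
  · induction w using QuotientGroup.induction_on with
    | H u =>
      change ((u * u : U) : U ⧸ Z) = 1
      rw [show u * u = 1 from Subtype.ext (by simpa [pow_two] using hU.2 u u.2)]; rfl
  · exact Subtype.ext (MulEquiv.ext e)
  · simp only [dif_pos hu, dif_pos hv, dif_pos (U.mul_mem hu hv)]; rfl
  · simp only [dif_pos hu]; exact QuotientGroup.eq_one_iff (N := Z) _
  · induction w using QuotientGroup.induction_on with
    | H u => exact ⟨u, u.2, by simp only [dif_pos u.2]; rfl⟩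
  · simp only [dif_pos hg, dif_pos hh, dif_pos (H.mul_mem hg hh)]
    rw [← map_mul]; congr 1
  · obtain ⟨h, e⟩ := ρ.rangeRestrict_surjective γ
    exact ⟨h, h.2, by simp only [dif_pos h.2]; exact e⟩
  · simp only [dif_pos hh, dif_pos hu, dif_pos (conj_mem_of_mem_normalizer (nU hh) hu)]; rfl

namespace Md
variable {Γ W : Type*} [Group Γ] [AddCommGroup W] [DistribMulAction Γ W] {H U : Subgroup G} {z : G}
  {mk : G → W} {ac : G → Γ} (m : Md H U z mk ac) {g h u v : G}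
include m

/-- the action as a homomorphism -/
def hom : H →* Γ := MonoidHom.mk' (fun h => ac h) fun g h => m.ac_mul g g.2 h h.2

theorem hom_surj : Function.Surjective m.hom := fun γ => let ⟨h, hh, e⟩ := m.ac_surj γ; ⟨⟨h, hh⟩, e⟩
theorem ac_one : ac 1 = 1 := map_one m.hom
theorem ac_inv (hh : h ∈ H) : ac h⁻¹ = (ac h)⁻¹ := map_inv m.hom ⟨h, hh⟩
theorem ac_pow (hh : h ∈ H) (n : ℕ) : ac (h ^ n) = ac h ^ n := map_pow m.hom ⟨h, hh⟩ n
theorem ac_conj (hg : g ∈ H) (hh : h ∈ H) : ac (g * h * g⁻¹) = ac g * ac h * (ac g)⁻¹ := by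
  rw [m.ac_mul _ (mul_mem hg hh) _ (inv_mem hg), m.ac_mul _ hg _ hh, m.ac_inv hg]
theorem mk_one : mk 1 = 0 := (m.mk_zero 1 (one_mem _)).2 (one_mem _)
theorem mk_inv (hu : u ∈ U) : mk u⁻¹ = -mk u :=
  eq_neg_of_add_eq_zero_left (by rw [← m.mk_mul _ (inv_mem hu) _ hu, inv_mul_cancel, m.mk_one])
theorem mk_eq (hu : u ∈ U) (hv : v ∈ U) : mk u = mk v ↔ u * v⁻¹ ∈ zpowers z := by
  rw [← m.mk_zero _ (mul_mem hu (inv_mem hv)), m.mk_mul _ hu _ (inv_mem hv), m.mk_inv hv, ← sub_eq_add_neg, sub_eq_zero]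
theorem cU (hh : h ∈ H) (hu : u ∈ U) : h * u * h⁻¹ ∈ U := conj_mem_of_mem_normalizer (m.nU hh) hu
theorem comm (hh : h ∈ H) (hu : u ∈ U) : mk ⁅h, u⁆ = ac h • mk u - mk u := by
  rw [commutatorElement_def, m.mk_mul _ (m.cU hh hu) _ (inv_mem hu), m.mk_inv hu, m.smul _ hh _ hu, sub_eq_add_neg]
theorem fix (hh : h ∈ H) (hu : u ∈ U) : ac h • mk u = mk u ↔ ⁅h, u⁆ ∈ zpowers z := by
  rw [m.smul _ hh _ hu, m.mk_eq (m.cU hh hu) hu, commutatorElement_def]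
theorem ac_eq_one (hh : h ∈ H) : ac h = 1 ↔ ∀ u ∈ U, ⁅h, u⁆ ∈ zpowers z :=
  ⟨fun e u hu => (m.fix hh hu).1 (by rw [e, one_smul]), fun e => m.faith _ fun w => by
    obtain ⟨u, hu, rfl⟩ := m.mk_surj w; exact (m.fix hh hu).2 (e u hu)⟩

/-- image of a subgroup of `G` in `W` -/
def im (X : Subgroup G) : AddSubgroup W where
  carrier := {w | ∃ u ∈ U, u ∈ X ∧ mk u = w}
  zero_mem' := ⟨1, one_mem _, one_mem _, m.mk_one⟩
  add_mem' := by
    rintro _ _ ⟨u, a, b, rfl⟩ ⟨v, c, d, rfl⟩; exact ⟨u * v, mul_mem a c, mul_mem b d, m.mk_mul _ a _ c⟩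
  neg_mem' := by rintro _ ⟨u, a, b, rfl⟩; exact ⟨u⁻¹, inv_mem a, inv_mem b, m.mk_inv a⟩

theorem mem_im {X : Subgroup G} (hz : z ∈ X) (hu : u ∈ U) : mk u ∈ m.im X ↔ u ∈ X :=
  ⟨fun ⟨v, a, b, e⟩ => by simpa using mul_mem (zpowers_le.2 hz ((m.mk_eq hu a).1 e.symm)) b, fun e => ⟨u, hu, e, rfl⟩⟩

/-- preimage in `U` of a subgroup of `W` -/
def pre (Y : AddSubgroup W) : Subgroup G where
  carrier := {u | u ∈ U ∧ mk u ∈ Y}
  one_mem' := ⟨one_mem _, m.mk_one ▸ Y.zero_mem⟩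
  mul_mem' := fun ⟨a, b⟩ ⟨c, d⟩ => ⟨mul_mem a c, m.mk_mul _ a _ c ▸ Y.add_mem b d⟩
  inv_mem' := fun ⟨a, b⟩ => ⟨inv_mem a, m.mk_inv a ▸ Y.neg_mem b⟩

/-- preimage in `H` of a subgroup of `Γ` -/
def pg (K : Subgroup Γ) : Subgroup G where
  carrier := {h | h ∈ H ∧ ac h ∈ K}
  one_mem' := ⟨one_mem _, m.ac_one ▸ K.one_mem⟩
  mul_mem' := fun ⟨a, b⟩ ⟨c, d⟩ => ⟨mul_mem a c, m.ac_mul _ a _ c ▸ K.mul_mem b d⟩
  inv_mem' := fun ⟨a, b⟩ => ⟨inv_mem a, m.ac_inv a ▸ K.inv_mem b⟩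

theorem card_pre [Finite G] (hz : z ∈ U) (Y : AddSubgroup W) : Nat.card (m.pre Y) = Nat.card Y * orderOf z := by
  let f : m.pre Y →* Multiplicative Y := MonoidHom.mk' (fun u => Multiplicative.ofAdd ⟨mk u, u.2.2⟩)
    fun u v => Subtype.ext (m.mk_mul _ u.2.1 _ v.2.1)
  have hf : Function.Surjective f := fun w => by
    obtain ⟨u, hu, e⟩ := m.mk_surj w.toAdd.1
    exact ⟨⟨u, hu, e ▸ w.toAdd.2⟩, Subtype.ext e⟩
  have l : zpowers z ≤ m.pre Y := zpowers_le.2 ⟨hz, (m.mk_zero z hz).2 (mem_zpowers z) ▸ Y.zero_mem⟩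
  have k : f.ker = (zpowers z).subgroupOf (m.pre Y) := by
    ext u
    exact ⟨fun e => (m.mk_zero _ u.2.1).1 (congrArg Subtype.val e), fun e => Subtype.ext ((m.mk_zero _ u.2.1).2 e)⟩
  rw [← f.ker.card_mul_index, index_ker, MonoidHom.range_eq_top.2 hf, card_top, k,
    Nat.card_congr (subgroupOfEquivOfLe l).toEquiv, Nat.card_zpowers, mul_comm]
  rfl
end Md

theorem exists_F {Γ W : Type*} [Group Γ] [Finite Γ] [Group.IsSolvable Γ] [AddCommGroup W] [DistribMulAction Γ W]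
    (faith : ∀ γ : Γ, (∀ w : W, γ • w = w) → γ = 1) {y : W}
    (span : ∀ Y : AddSubgroup W, (∀ γ : Γ, γ • y ∈ Y) → ∀ w, w ∈ Y) (h : ∀ x ∈ pCore 2 Γ, x • y = y) :
    ∃ F : Subgroup Γ, F.Normal ∧ Group.IsNilpotent F ∧ (∀ f ∈ F, Odd (orderOf f)) ∧
      ∀ x : Γ, (∀ f ∈ F, x * f = f * x) → x ∈ F := by
  refine ⟨fittingSubgroup Γ, inferInstance, inferInstance, fun f hf => ?_,
    fun x hx => H1.centralizer_fitting_le Γ fun f hf => (hx f hf).symm⟩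
  by_contra e
  obtain ⟨x, hx⟩ := exists_prime_orderOf_dvd_card' (G := zpowers f) 2
    (by rw [Nat.card_zpowers]; exact (Nat.not_odd_iff_even.1 e).two_dvd)
  rw [← orderOf_coe] at hx
  have m := H1.le_pCore_of_le_fitting (isPGroup_zpowers_of_orderOf hx) (zpowers_le.2 (zpowers_le.2 hf x.2))
    (mem_zpowers _)
  have n : (pCore 2 Γ).Normal := normal_of_top_le_normalizer (pCoreOf_top 2 Γ ▸ le_normalizer_pCoreOf 2 ⊤)
  rw [faith x.1 (span (fx W x.1) fun γ => by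
    have := h _ (n.conj_mem' _ m γ)
    rwa [mul_smul, mul_smul, inv_smul_eq_iff] at this), orderOf_one] at hx
  norm_num at hx

theorem sol_ind {Y : Subgroup G} (hs : Group.IsSolvable Y) {P : Subgroup G → Prop} (h0 : P Y)
    (h1 : ∀ N ≤ Y, Y ≤ 𝐍 N → P N → P ⁅N, N⁆) : P ⊥ := by
  obtain ⟨n, hn⟩ := hs
  have : ∀ k, P ((derivedSeries Y k).map Y.subtype) := fun k => by
    induction k with
    | zero => rwa [derivedSeries_zero, map_subtype_top]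
    | succ k ih =>
      rw [derivedSeries_succ, map_commutator]
      exact h1 _ (map_subtype_le _) (normal_iff_le_normalizer_map_subtype.1 (derivedSeries_normal _ _)) ih
  have k := this n
  rwa [hn, Subgroup.map_bot] at k

open Classical in
/-- the commutator pairing with values in `𝔽₂` -/
noncomputable def χ (t u : G) : ZMod 2 := if ⁅t, u⁆ = 1 then 0 else 1

theorem χ_zero {t u : G} : χ t u = 0 ↔ t * u = u * t := by
  rw [← commutatorElement_eq_one_iff_mul_comm, χ]; split_ifs with e <;> simp [e]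

theorem χ_congr {t u t' u' : G} (e : t * u = u * t ↔ t' * u' = u' * t') : χ t u = χ t' u' := by
  classical
  unfold χ
  exact if_congr (by rw [commutatorElement_eq_one_iff_mul_comm, commutatorElement_eq_one_iff_mul_comm, e]) rfl rfl

theorem χ_conj (g t u : G) : χ (g * t * g⁻¹) (g * u * g⁻¹) = χ t u := χ_congr (by
  rw [conj_mul, conj_mul, mul_left_inj, mul_right_inj])

theorem χ_inv_left (t u : G) : χ t⁻¹ u = χ t u := χ_congr Commute.inv_left_iff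
theorem χ_inv_right (t u : G) : χ t u⁻¹ = χ t u := χ_congr Commute.inv_right_iff

section
variable [Finite G] {z t t' u v : G} (zz : z * z = 1)
include zz

omit [Finite G] in
open Classical in
theorem sg_mul {a b : G} (ha : a ∈ zpowers z) (hb : b ∈ zpowers z) :
    (if a * b = 1 then 0 else 1 : ZMod 2) = (if a = 1 then 0 else 1) + (if b = 1 then 0 else 1) := by
  by_cases e : z = 1
  · rcases mem_two zz ha with rfl | rfl <;> rcases mem_two zz hb with rfl | rfl <;> simp [e]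
  · rcases mem_two zz ha with rfl | rfl <;> rcases mem_two zz hb with rfl | rfl <;> simp [e, zz]
    decide

omit [Finite G] in
theorem χ_mul_left (ht : t ∈ 𝐂 (zpowers z)) (h1 : ⁅t, u⁆ ∈ zpowers z) (h2 : ⁅t', u⁆ ∈ zpowers z) :
    χ (t * t') u = χ t u + χ t' u := by
  rw [χ, commutatorElement_mul_left_eq_conj_mul, mem_centralizer_iff'.1 ht _ h2, sg_mul zz h2 h1, add_comm]; rfl

omit [Finite G] in
theorem χ_mul_right (hu : u ∈ 𝐂 (zpowers z)) (h1 : ⁅t, u⁆ ∈ zpowers z) (h2 : ⁅t, v⁆ ∈ zpowers z) :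
    χ t (u * v) = χ t u + χ t v := by
  rw [χ, show ⁅t, u * v⁆ = ⁅t, u⁆ * (u * ⁅t, v⁆ * u⁻¹) by simp only [commutatorElement_def]; group,
    mem_centralizer_iff'.1 hu _ h2, sg_mul zz h1 h2]; rfl
end

section four
variable [Finite G] {W : Subgroup G} (h : Four W) {a b x k v : G}
include h

theorem four_c (ha : a ∈ W) (hb : b ∈ W) (a1 : a ≠ 1) (b1 : b ≠ 1) (ab : a ≠ b) (e : x * a * x⁻¹ = a)
    (e' : x * b * x⁻¹ = b) : x ∈ 𝐂 W := mem_centralizer_iff'.2 fun v hv => by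
  rcases four_cases h ha hb a1 b1 ab hv with rfl | rfl | rfl | rfl
  exacts [by simp, e, e', by rw [← conj_mul, e, e']]

theorem four_fix (ha : a ∈ W) (hb : b ∈ W) (a1 : a ≠ 1) (b1 : b ≠ 1) (ab : a ≠ b) (hx : x ∈ 𝐍 W)
    (e : x * a * x⁻¹ = a) : x * b * x⁻¹ = b ∨ x * b * x⁻¹ = a * b := by
  rcases four_cases h ha hb a1 b1 ab (conj_mem_of_mem_normalizer hx hb) with j | j | j | j
  · exact absurd j (conj_ne_one x b1)
  · exact absurd (by simpa using j.trans e.symm : b = a) ab.symm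
  exacts [.inl j, .inr j]

theorem four_sq (ha : a ∈ W) (a1 : a ≠ 1) (hx : x ∈ 𝐍 W) (e : x * a * x⁻¹ = a) : x * x ∈ 𝐂 W := by
  obtain ⟨b, hb, n⟩ : ∃ b ∈ W, b ∉ zpowers a := SetLike.not_le_iff_exists.1 fun l => by
    have := card_le_of_le l
    rw [h.card, card_two (h.sq a ha) a1] at this; omega
  have b1 : b ≠ 1 := fun k => n (k ▸ one_mem _)
  have ab : a ≠ b := fun k => n (k ▸ mem_zpowers a)
  have k : ∀ c, x * x * c * (x * x)⁻¹ = x * (x * c * x⁻¹) * x⁻¹ := fun c => by group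
  refine four_c h ha hb a1 b1 ab (by rw [k, e, e]) ?_
  rcases four_fix h ha hb a1 b1 ab hx e with j | j
  · rw [k, j, j]
  · rw [k, j, ← conj_mul, e, j, ← mul_assoc, h.sq a ha, one_mul]

theorem four_fpf (hk : k ∈ 𝐍 W) (h3 : k ^ 3 ∈ 𝐂 W) (n : k ∉ 𝐂 W) (hv : v ∈ W) (e : k * v * k⁻¹ = v) : v = 1 :=
  by_contra fun v1 => n (mem_of_pow_mem_coprime (a := 2) (by norm_num) (pow_two k ▸ four_sq h hv v1 hk e) h3)

theorem four_surj (hk : k ∈ 𝐍 W) (h3 : k ^ 3 ∈ 𝐂 W) (n : k ∉ 𝐂 W) (hv : v ∈ W) : ∃ w ∈ W, k * w * k⁻¹ * v = w := by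
  have m1 := conj_mem_of_mem_normalizer hk hv
  have m2 := conj_mem_of_mem_normalizer hk m1
  have e3 : k * (k * (k * v * k⁻¹) * k⁻¹) * k⁻¹ = v := by
    calc _ = k * (k * k) * v * (k * (k * k))⁻¹ := by group
      _ = _ := mem_centralizer_iff'.1 (pow_three k ▸ h3) v hv
  have := four_fpf h hk h3 n (mul_mem (mul_mem m2 hv) m1) (by
    rw [← conj_mul, ← conj_mul, e3, h.le_c m2 _ (mul_mem hv m1), ← mul_assoc])
  exact ⟨_, m1, by rw [eq_inv_of_mul_eq_one_left this, inv_eq_of_mul_eq_one_right (h.sq _ m1)]⟩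

omit [Finite G] in
theorem four_23 (hx : x ∈ 𝐍 W) : x * x ∈ 𝐂 W ∨ x ^ 3 ∈ 𝐂 W := by
  obtain ⟨φ, hφ⟩ := h.exists_hom
  refine ((by decide : ∀ s : Equiv.Perm (Fin 3), s * s = 1 ∨ s ^ 3 = 1) (φ ⟨x, hx⟩)).imp (fun e => ?_) fun e => ?_
  · exact (hφ (⟨x, hx⟩ * ⟨x, hx⟩)).1 (by rw [map_mul, e])
  · exact (hφ (⟨x, hx⟩ ^ 3)).1 (by rw [map_pow, e])
end four

section ge
variable [Finite G] {S V : Subgroup G} {z : G} (h : Ge S V z)
include h

theorem z_mem {D : Subgroup G} (h1 : D ≤ S) (h2 : S ≤ 𝐍 D) (h3 : D ≠ ⊥) : z ∈ D := by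
  obtain ⟨x, ⟨a, b⟩, x1⟩ := (bot_or_exists_ne_one _).resolve_left (inf_omegaOne_center_ne_bot h.syl.isP h1 h2 h3)
  exact (mem_two h.zz (h.zeq ▸ b)).resolve_left x1 ▸ a

theorem z_mem' {B X : Subgroup G} (hX : S ≤ X) (h1 : B ≤ X) (h2 : X ≤ 𝐍 B) {c : G} (hc : c ∈ B) (c1 : c ≠ 1)
    (cc : c * c = 1) : z ∈ B :=
  (z_mem h inf_le_left (le_normalizer_inf le_normalizer (hX.trans h2))
    (((h.syl.mono hX le_top).inf_of_normal h2 h1).ne_bot
      (orderOf_eq_prime (by rw [pow_two, cc]) c1 ▸ orderOf_dvd_card_of_mem hc))).2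

theorem exists_three {N : Subgroup G} (hN : N ≤ 𝐍 V) (nN : 𝐍 V ≤ 𝐍 N) {q : G} (hq : q ∈ N) (qz : q ∈ 𝐂 (zpowers z))
    (qV : q ∉ 𝐂 V) : ∃ k ∈ N, k ^ 3 ∈ 𝐂 V ∧ k ∉ 𝐂 V := by
  obtain ⟨y, hy, n⟩ : ∃ b ∈ V, b ∉ zpowers z := SetLike.not_le_iff_exists.1 fun l => by
    have := card_le_of_le l
    rw [h.card, card_two h.zz h.z1] at this; omega
  have y1 : y ≠ 1 := fun k => n (k ▸ one_mem _)
  have zy : z ≠ y := fun k => n (k ▸ mem_zpowers z)
  obtain ⟨g, hg, e⟩ := h.trans_V hy y1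
  have m' := conj_mem_of_mem_normalizer (nN hg) hq
  have e1 := conj_eq_of_mem_c qz
  have e2 : g * q * g⁻¹ * y * (g * q * g⁻¹)⁻¹ = y := by
    calc _ = g * (q * z * q⁻¹) * g⁻¹ := by rw [← e]; group
      _ = _ := by rw [e1, e]
  have n2 : g * q * g⁻¹ ∉ 𝐂 V := fun k => qV (by
    simpa [mul_assoc] using conj_mem_of_mem_normalizer' (normalizer_le_normalizer_centralizer V hg) k)
  have n3 : q * (g * q * g⁻¹) ∉ 𝐂 V := fun k => qV (four_c h.four h.zV hy h.z1 y1 zy e1 (by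
    have := mem_centralizer_iff'.1 k y hy
    rwa [show ∀ x, q * x * y * (q * x)⁻¹ = q * (x * y * x⁻¹) * q⁻¹ from fun x => by group, e2] at this))
  exact ⟨_, mul_mem hq m', (four_23 h.four (hN (mul_mem hq m'))).resolve_left fun k => n3
    (h.four.two (hN hq) (hN m') (four_sq h.four h.zV h.z1 (hN hq) e1) (four_sq h.four hy y1 (hN m') e2) k qV n2), n3⟩

theorem aff {N : Subgroup G} (hN : N ≤ 𝐍 V) (nN : 𝐍 V ≤ 𝐍 N) {q : G} (hq : q ∈ N) (qz : q ∈ 𝐂 (zpowers z))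
    (qV : q ∉ 𝐂 V) {c : G} (cV : c ∈ 𝐂 V) (cc : c * c = 1) (c1 : c ∉ V) (hc : ∀ n ∈ N, ⁅n, c⁆ ∈ V) {v : G}
    (hv : v ∈ V) : ∃ r ∈ N, r ∈ 𝐂 V ∧ r ∈ S ∧ ⁅r, c⁆ = v := by
  obtain ⟨k, hk, k3, kV⟩ := exists_three h hN nN hq qz qV
  have nC := normalizer_le_normalizer_centralizer V
  have cw : ∀ r ∈ 𝐂 V, ∀ w ∈ V, ⁅r, c⁆ ∈ V → ⁅r, w * c⁆ = ⁅r, c⁆ := fun r hr w hw m => by
    calc _ = (r * w * r⁻¹) * ⁅r, c⁆ * w⁻¹ := by simp only [commutatorElement_def]; group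
      _ = _ := by rw [mem_centralizer_iff'.1 hr w hw, mem_centralizer_iff'.1 (h.four.le_c hw) _ m]
  let τ : ↥(N ⊓ 𝐂 V) →* G := MonoidHom.mk' (fun r => ⁅r.1, c⁆) fun r s => by
    rw [Subgroup.coe_mul, commutatorElement_mul_left_eq_conj_mul, mem_centralizer_iff'.1 r.2.2 _ (hc _ s.2.1),
      h.four.le_c (hc _ r.2.1) _ (hc _ s.2.1)]
  have l : τ.range ≤ V := by rintro _ ⟨r, rfl⟩; exact hc _ r.2.1
  have hv' : v ∈ τ.range := by
    by_cases e : τ.range = ⊥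
    · exfalso
      obtain ⟨w, hw, ew⟩ := four_surj h.four (hN hk) k3 kV (hc k hk)
      have kc : k ∈ centralizer {w * c} := mem_centralizer_singleton_iff.2 (by
        calc _ = k * w * k⁻¹ * ⁅k, c⁆ * c * k := by simp only [commutatorElement_def]; group
          _ = _ := by rw [ew])
      have m0 : w * c ∈ 𝐂 N := fun n hn => by
        obtain ⟨a, ha, b, hb, e1⟩ := (mem_sup_of_le_normalizer (zpowers_le.2 (nC (hN hk)))).1
          (h.four.mem_sup_three (hN hk) (hN (conj_mem_of_mem_normalizer' (le_normalizer hn) hk)) k3 kV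
            (by have := conj_mem_of_mem_normalizer (nC (hN (inv_mem hn))) k3
                rwa [← conj_pow, inv_inv] at this) (mem_zpowers k))
        have bN : b ∈ N := by
          have := mul_mem (inv_mem (zpowers_le.2 hk ha)) (conj_mem_of_mem_normalizer' (le_normalizer hn) hk)
          rwa [← e1, inv_mul_cancel_left] at this
        have bc : b ∈ centralizer {w * c} := mem_centralizer_singleton_iff.2 (commutatorElement_eq_one_iff_mul_comm.1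
          ((cw b hb w hw (hc b bN)).trans (mem_bot.1 (e ▸ (⟨⟨b, bN, hb⟩, rfl⟩ : _ ∈ τ.range)))))
        have e2 := mem_centralizer_singleton_iff.1 (e1 ▸ mul_mem (zpowers_le.2 kc ha) bc)
        have m1 : ⁅n, w * c⁆ ∈ V := by
          rw [show ⁅n, w * c⁆ = n * w * n⁻¹ * ⁅n, c⁆ * w⁻¹ by simp only [commutatorElement_def]; group]
          exact mul_mem (mul_mem (conj_mem_of_mem_normalizer (hN hn) hw) (hc n hn)) (inv_mem hw)
        refine commutatorElement_eq_one_iff_mul_comm.1 (four_fpf h.four (hN hk) k3 kV m1 ?_)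
        calc _ = n * (n⁻¹ * k * n * (w * c)) * n⁻¹ * (k * (w * c))⁻¹ := by simp only [commutatorElement_def]; group
          _ = _ := by rw [e2, mem_centralizer_singleton_iff.1 kc]; simp only [commutatorElement_def]; group
      have := z_mem' h h.le (inf_le_left : 𝐍 V ⊓ 𝐂 N ≤ _) (le_normalizer_inf le_normalizer (le_normalizer_centralizer nN))
        ⟨mul_mem (le_normalizer hw) (centralizer_le_normalizer _ cV), m0⟩
        (fun e => c1 (by simpa [eq_inv_of_mul_eq_one_right e] using hw))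
        (by rw [mul_assoc, ← mul_assoc c, ← cV w hw, mul_assoc, cc, mul_one, h.four.sq w hw])
      exact h.z1 (four_fpf h.four (hN hk) k3 kV h.zV (by rw [this.2 k hk, mul_inv_cancel_right]))
    obtain ⟨_, ⟨r, rfl⟩, r1⟩ := (bot_or_exists_ne_one _).resolve_left e
    have m2 : k * τ r * k⁻¹ ∈ τ.range := ⟨⟨k * r * k⁻¹, N.mul_mem (N.mul_mem hk r.2.1) (N.inv_mem hk),
      conj_mem_of_mem_normalizer (nC (hN hk)) r.2.2⟩, by
        change ⁅k * r.1 * k⁻¹, c⁆ = k * ⁅r.1, c⁆ * k⁻¹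
        rw [← cw r r.2.2 _ (hc _ (inv_mem hk)) (hc _ r.2.1)]; simp only [commutatorElement_def]; group⟩
    rcases four_cases h.four (l ⟨r, rfl⟩) (l m2) r1 (conj_ne_one k r1)
      (fun e => r1 (four_fpf h.four (hN hk) k3 kV (l ⟨r, rfl⟩) e.symm)) hv with rfl | rfl | rfl | rfl
    exacts [one_mem _, ⟨r, rfl⟩, m2, mul_mem ⟨r, rfl⟩ m2]
  have s1 := (((h.syl.mono h.le le_top).inf_of_normal (le_normalizer_inf nN nC) (inf_le_left.trans hN)).subgroupOf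
    le_rfl).map τ
  rw [subgroupOf_self, ← MonoidHom.range_eq_map] at s1
  obtain ⟨r, hr, e⟩ : v ∈ map τ _ := (s1.eq_of_isPGroup (h.four.isP.to_le l)).symm ▸ hv'
  exact ⟨r, r.2.1, r.2.2, hr.1, e⟩
end ge

/-- the case `b = 3` -/
structure B3 (S V : Subgroup G) (z y : G) : Prop extends Ge S V z where
  yV : y ∈ V
  y1 : y ≠ 1
  yz : y ≠ z
  nc : ¬ Up V y ≤ 𝐂 (Up V z)

/-- properties of the Fitting subgroup -/
structure Fi {Γ : Type*} [Group Γ] (F : Subgroup Γ) : Prop where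
  nor : F.Normal
  nil : Group.IsNilpotent F
  odd : ∀ f ∈ F, Odd (orderOf f)
  cen : ∀ x : Γ, (∀ f ∈ F, x * f = f * x) → x ∈ F

namespace B3
variable [Finite G] {S V : Subgroup G} {z y : G} (h : B3 S V z y) {p g q x a b t u i : G}
include h

omit h [Finite G] in
theorem colp (hp : p ∈ V) (p1 : p ≠ 1) : Col V p p := ⟨p1, p1, V, Ln.self V, hp, hp⟩
theorem coly : Col V y y := colp h.yV h.y1
theorem yy : y * y = 1 := h.four.sq y h.yV
theorem memV {v : G} (hv : v ∈ V) : v = 1 ∨ v = z ∨ v = y ∨ v = z * y :=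
  four_cases h.four h.zV h.yV h.z1 h.y1 h.yz.symm hv
omit h [Finite G] in
theorem VU (hp : p ∈ V) : V ≤ Up V p := (Ln.self V).le_Up hp
omit h [Finite G] in
theorem CV (hp : p ∈ V) : 𝐂 V ≤ 𝐂 (zpowers p) := centralizer_anti (zpowers_le.2 hp)
omit h [Finite G] in
theorem CVn (hp : p ∈ V) : 𝐂 V ≤ 𝐍 (Up V p) := (CV hp).trans (c_le_n_Up V p)
theorem UC (hp : p ∈ V) (p1 : p ≠ 1) : Up V p ≤ 𝐂 V := (h.Up_ab (colp hp p1)).trans (centralizer_anti (VU hp))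
theorem AH : Up V y ≤ 𝐂 (zpowers z) := (h.UC h.yV h.y1).trans (CV h.zV)
theorem UH : Up V z ≤ 𝐂 (zpowers z) := h.Up_le_c h.colz
theorem UT : Up V z ≤ Tp V z := (h.Up_ab h.colz).trans (Ge.c_le_Tp h.colz)
theorem zy1 : z * y ≠ 1 := fun e => h.yz (mul_left_cancel (e.trans h.zz.symm))
theorem fixy (h1 : x ∈ 𝐂 (zpowers z)) (h2 : x ∈ 𝐍 V) : x * y * x⁻¹ = y ∨ x * y * x⁻¹ = z * y :=
  four_fix h.four h.zV h.yV h.z1 h.y1 h.yz.symm h2 (conj_eq_of_mem_c h1)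
theorem memC (h1 : x ∈ 𝐂 (zpowers z)) (h2 : x * y * x⁻¹ = y) : x ∈ 𝐂 V :=
  four_c h.four h.zV h.yV h.z1 h.y1 h.yz.symm (conj_eq_of_mem_c h1) h2
theorem movy (h1 : x ∈ 𝐂 (zpowers z)) (h2 : x ∈ 𝐍 V) (h3 : x ∉ 𝐂 V) : x * y * x⁻¹ = z * y :=
  (h.fixy h1 h2).resolve_left fun e => h3 (h.memC h1 e)

theorem swap : ∃ σ ∈ 𝐍 V, σ * z * σ⁻¹ = y ∧ σ * y * σ⁻¹ = z := by
  have m := mul_mem h.zV h.yV
  obtain ⟨g, hg, e⟩ := h.trans_V m h.zy1
  obtain ⟨s, hs, hs'⟩ := SetLike.not_le_iff_exists.1 h.not_S_le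
  have m1 : g * s * g⁻¹ ∈ 𝐍 V := mul_mem (mul_mem hg (h.le hs)) (inv_mem hg)
  have e1 : g * s * g⁻¹ * (z * y) * (g * s * g⁻¹)⁻¹ = z * y := by
    calc _ = g * (s * z * s⁻¹) * g⁻¹ := by rw [← e]; group
      _ = _ := by rw [conj_eq_of_mem_c (h.S_le hs), e]
  have n : z * y ≠ z := fun k => h.y1 (by simpa using k)
  have c : z * y * z = y := by rw [mul_assoc, h.four.le_c h.zV y h.yV, ← mul_assoc, h.zz, one_mul]
  have e2 := (four_fix h.four m h.zV h.zy1 h.z1 n m1 e1).resolve_left fun k => hs' (by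
    simpa [mul_assoc] using conj_mem_of_mem_normalizer' (normalizer_le_normalizer_centralizer V hg)
      (four_c h.four m h.zV h.zy1 h.z1 n e1 k))
  rw [c] at e2
  refine ⟨_, m1, e2, ?_⟩
  conv_lhs => rw [← c, ← conj_mul, e1, e2]
  rw [mul_assoc, h.yy, mul_one]

theorem nT : ¬ Up V y ≤ Tp V z := fun e => by
  obtain ⟨σ, -, e1, e2⟩ := h.swap
  have := cj_mono σ e
  rw [cj_Up, cj_Tp, e1, e2] at this
  exact h.nc (h.Up_comm e this)

theorem QS : pCoreOf 2 (𝐂 (zpowers z)) ≤ S := (h.syl.mono h.S_le le_top).pCoreOf_le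

theorem QT : pCoreOf 2 (𝐂 (zpowers z)) ≤ Tp V z := h.le_Tp_of h.z1 (pCoreOf_le _ _) fun l hl hz => by
  obtain ⟨g, rfl, e⟩ := h.trans hl hz h.z1
  rw [← cj_normalizer, ← cj_eq_of_mem_normalizer (le_normalizer_pCoreOf 2 _ (mem_c_of_conj_eq e))]
  exact cj_mono g (h.QS.trans h.le)

theorem US : Up V z ≤ S := (le_pCoreOf (h.Up_isP h.colz) h.UH (c_le_n_Up V z)).trans h.QS
theorem solH : Group.IsSolvable (𝐂 (zpowers z)) := H18.Solv.of_le
  (fr_sol h.toFr (h.four.isP.to_le (zpowers_le.2 h.zV)) (by simpa using h.z1)) (centralizer_le_normalizer _)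
theorem charH : CharPOf 2 (𝐂 (zpowers z)) :=
  fr_charP_c h.toFr (h.four.isP.to_le (zpowers_le.2 h.zV)) (by simpa using h.z1)
theorem commI (ha : a ∈ Up V y) (hu : u ∈ Up V z) : ⁅a, u⁆ ∈ Up V z ⊓ Up V y :=
  commutator_le_inf_of_le_normalizer ((h.UC h.zV h.z1).trans (CVn h.yV)) ((h.UC h.yV h.y1).trans (CVn h.zV))
    (by rw [commutator_comm]; exact commutator_mem_commutator ha hu)
theorem VI : V ≤ Up V z ⊓ Up V y := le_inf (VU h.zV) (VU h.yV)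
theorem TI (ht : t ∈ Tp V z) (hi : i ∈ Up V z ⊓ Up V y) : t * i * t⁻¹ ∈ Up V z ⊓ Up V y := by
  simpa [commutatorElement_def] using mul_mem (h.VI (zpowers_le.2 h.zV ((mem_Tp.1 ht).2 i hi.1))) hi

theorem χT (ht : t ∈ Tp V z) (hg : g ∈ 𝐂 (zpowers z)) (hu : u ∈ Up V z) : χ ⁅t, g⁆ u = χ t ⁅g⁻¹, u⁆ := by
  have m1 := conj_mem_of_mem_normalizer (c_le_n_Tp V z hg) (inv_mem ht)
  have m2 := conj_mem_of_mem_normalizer' (c_le_n_Up V z hg) hu
  rw [show ⁅t, g⁆ = t * (g * t⁻¹ * g⁻¹) by simp only [commutatorElement_def]; group,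
    χ_mul_left h.zz (Tp_le_c ht) ((mem_Tp.1 ht).2 u hu) ((mem_Tp.1 m1).2 u hu),
    show ⁅g⁻¹, u⁆ = g⁻¹ * u * g * u⁻¹ by simp only [commutatorElement_def]; group,
    χ_mul_right h.zz (h.UH m2) ((mem_Tp.1 ht).2 _ m2) ((mem_Tp.1 ht).2 _ (inv_mem hu)), χ_inv_right, add_comm,
    ← χ_inv_left t (g⁻¹ * u * g), ← χ_conj g t⁻¹]
  congr 2; group

variable {Γ W : Type*} [Group Γ] [Finite Γ] [AddCommGroup W] [Finite W] [DistribMulAction Γ W] {mk : G → W}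
  {ac : G → Γ} (m : Md (𝐂 (zpowers z)) (Up V z) z mk ac)
include m

omit [Finite Γ] [Finite W] h [Finite G] in
theorem ac_T (hx : x ∈ 𝐂 (zpowers z)) : ac x = 1 ↔ x ∈ Tp V z := by rw [m.ac_eq_one hx, mem_Tp, and_iff_right hx]

omit [Finite Γ] [Finite W] in
theorem mkV {v : G} (hv : v ∈ V) : mk v = 0 ∨ mk v = mk y := by
  have z0 := (m.mk_zero z (VU h.zV h.zV)).2 (mem_zpowers z)
  rcases h.memV hv with rfl | rfl | rfl | rfl
  exacts [.inl m.mk_one, .inl z0, .inr rfl, .inr (by rw [m.mk_mul _ (VU h.zV h.zV) _ (VU h.zV h.yV), z0, zero_add])]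

omit [Finite Γ] [Finite W] in
theorem y0 : mk y ≠ 0 := fun e => (mem_two h.zz ((m.mk_zero y (VU h.zV h.yV)).1 e)).elim h.y1 h.yz

omit [Finite Γ] [Finite W] in
theorem fix_M (h1 : x ∈ 𝐂 (zpowers z)) : ac x • mk y = mk y ↔ x ∈ 𝐍 V := by
  rw [m.fix h1 (VU h.zV h.yV)]
  refine ⟨fun e => mem_normalizer_of_conj_mem fun v hv => ?_, fun e => ?_⟩
  · have k : x * y * x⁻¹ ∈ V := by simpa [commutatorElement_def] using mul_mem (zpowers_le.2 h.zV e) h.yV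
    have k1 := conj_eq_of_mem_c h1
    rcases h.memV hv with rfl | rfl | rfl | rfl
    exacts [by simp, k1.symm ▸ hv, k, by rw [← conj_mul, k1]; exact mul_mem h.zV k]
  · rcases h.fixy h1 e with k | k <;> simp [commutatorElement_def, k]

omit [Finite Γ] [Finite W] in
theorem span (Y : AddSubgroup W) (hY : ∀ γ : Γ, γ • mk y ∈ Y) (w : W) : w ∈ Y := by
  obtain ⟨u, hu, rfl⟩ := m.mk_surj w
  have : Up V z ≤ m.pre Y := Up_le fun l hl hz => by
    obtain ⟨g, rfl, e⟩ := h.trans hl hz h.z1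
    rintro _ ⟨v, hv, rfl⟩
    refine ⟨m.cU (mem_c_of_conj_eq e) (VU h.zV hv), ?_⟩
    change mk (g * v * g⁻¹) ∈ Y
    rw [← m.smul _ (mem_c_of_conj_eq e) _ (VU h.zV hv)]
    rcases h.mkV m hv with k | k <;> rw [k]
    exacts [(smul_zero (ac g) : ac g • (0 : W) = 0).symm ▸ Y.zero_mem, hY _]
  exact (this hu).2

omit [Finite W] in
theorem exists_fi : ∃ F : Subgroup Γ, Fi F := by
  haveI := h.solH
  haveI : Group.IsSolvable Γ := Group.isSolvable_of_surjective m.hom_surj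
  obtain ⟨F, a, b, c, d⟩ := exists_F m.faith (h.span m) fun x hx => by
    have s := ((h.syl.mono h.S_le le_top).subgroupOf le_rfl).map m.hom
    rw [subgroupOf_self, ← MonoidHom.range_eq_map, MonoidHom.range_eq_top.2 m.hom_surj] at s
    obtain ⟨s, hs, rfl⟩ := s.pCoreOf_le (pCoreOf_top 2 Γ ▸ hx)
    exact (h.fix_M m s.2).2 (h.le hs)
  exact ⟨F, a, b, c, d⟩

variable {F : Subgroup Γ} (f : Fi F)
include f

omit [Finite Γ] [Finite W] in
theorem s1 : Up V z ⊓ 𝐂 (Tp V z) ≤ 𝐂 (m.pg F) := by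
  have l : m.pg F ≤ 𝐂 (zpowers z) := fun _ k => k.1
  have n : 𝐂 (zpowers z) ≤ 𝐍 (m.pg F) := fun g hg => mem_normalizer_of_conj_mem fun x hx =>
    ⟨mul_mem (mul_mem hg hx.1) (inv_mem hg), m.ac_conj hg hx.1 ▸ f.nor.conj_mem _ hx.2 _⟩
  have s := (h.syl.mono h.S_le le_top).inf_of_normal n l
  have n1 : 𝐂 (zpowers z) ≤ 𝐍 (Up V z ⊓ 𝐂 (Tp V z)) :=
    le_normalizer_inf (c_le_n_Up V z) (le_normalizer_centralizer (c_le_n_Tp V z))
  have l2 : S ⊓ m.pg F ≤ Tp V z := fun x hx => (ac_T m hx.2.1).1 (by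
    obtain ⟨k, hk⟩ := isPGroup_iff_mem.1 h.syl.isP x hx.1
    exact eq_one_of_pow_coprime (Nat.Coprime.pow_right k (Nat.coprime_two_right.2 (f.odd _ hx.2.2)))
      (pow_orderOf_eq_one _) (by rw [← m.ac_pow hx.2.1, hk, m.ac_one]))
  refine le_trans (le_inf le_rfl (inf_le_right.trans (centralizer_anti l2)))
    (le_centralizer_of_transfer (inf_le_left.trans ((h.Up_ab h.colz).trans (centralizer_anti inf_le_left)))
    ((h.Up_isP h.colz).to_le inf_le_left) (l.trans n1) s h.syl.isP (h.S_le.trans n1) (h.S_le.trans n)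
    (le_normalizer_inf le_normalizer (h.S_le.trans n)) (le_trans ?_ (le_centralizer_iff.1 l)))
  have e1 : Up V z ⊓ 𝐂 (Tp V z) ⊓ 𝐂 (S ⊓ m.pg F) ⊓ 𝐂 S ≤ Up V z := inf_le_left.trans (inf_le_left.trans inf_le_left)
  exact (le_oz (elemAb_mono (h.Up_ea h.colz) e1) (e1.trans h.US) inf_le_right).trans h.zeq.le

omit [Finite Γ] [Finite W] in
theorem exists_q : ∃ q ∈ Tp V z, q ∉ 𝐂 V := SetLike.not_le_iff_exists.1 fun e => by
  have e1 : Up V z ≤ 𝐂 (Tp V z) := by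
    rw [h.Up_z]; exact ncl_le_centralizer (le_centralizer_iff.1 e) (h.fH_eq.le.trans (c_le_n_Tp V z))
  obtain ⟨a, ha, n⟩ := SetLike.not_le_iff_exists.1 h.nT
  have k : ∀ φ ∈ F, φ = 1 := fun φ hφ => by
    obtain ⟨x, hx, rfl⟩ := m.ac_surj φ
    exact (m.ac_eq_one hx).2 fun u hu => by
      rw [commutatorElement_eq_one_iff_mul_comm.2 (h.s1 m f ⟨hu, e1 hu⟩ x ⟨hx, hφ⟩)]; exact one_mem _
  exact n ((ac_T m (h.AH ha)).1 (k _ (f.cen _ fun φ hφ => by rw [k φ hφ, mul_one, one_mul])))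

omit [Finite Γ] [Finite W] in
theorem I_le (hp : p ∈ V) (p1 : p ≠ 1) : Up V z ⊓ Up V y ≤ Up V p := by
  rcases h.memV hp with rfl | rfl | rfl | rfl
  exacts [absurd rfl p1, inf_le_left, inf_le_right, fun i hi => by
    obtain ⟨q, hq, n⟩ := h.exists_q m f
    rw [← h.movy (Tp_le_c hq) (Ge.Tp_le_n (Ln.self V) h.zV hq) n, ← cj_Up, mem_cj]
    simpa using (h.TI (inv_mem hq) hi).2]

omit [Finite Γ] [Finite W] in
theorem nI : 𝐍 V ≤ 𝐍 (Up V z ⊓ Up V y) := fun g hg => mem_normalizer_of_conj_mem fun i hi => by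
  have : ∀ p ∈ V, p ≠ 1 → g * i * g⁻¹ ∈ Up V p := fun p hp p1 => by
    have := conj_mem_cj g (h.I_le m f (conj_mem_of_mem_normalizer' hg hp) (fun e => p1 (conj_ne_one_aux e)) hi)
    rwa [cj_Up, show g * (g⁻¹ * p * g) * g⁻¹ = p by group] at this
  exact ⟨this z h.zV h.z1, this y h.yV h.y1⟩

omit [Finite Γ] [Finite W] in
theorem NI : 𝐍 (Up V z ⊓ Up V y) ≤ 𝐍 V := fr_uniq h.toFr ((h.Up_isP h.colz).to_le inf_le_left)
  (fun e => h.four.ne_bot (le_bot_iff.1 (e ▸ h.VI))) (h.nI m f)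

omit [Finite Γ] [Finite W] in
theorem hm (h1 : x ∈ 𝐂 (zpowers z)) (h2 : x ∈ 𝐍 V) : ∃ x' ∈ 𝐂 V, ac x' = ac x := by
  obtain ⟨q, hq, n⟩ := h.exists_q m f
  have qH := Tp_le_c hq
  rcases h.fixy h1 h2 with e | e
  · exact ⟨x, h.memC h1 e, rfl⟩
  · refine ⟨q * x, h.memC (mul_mem qH h1) ?_, by rw [m.ac_mul _ qH _ h1, (ac_T m qH).2 hq, one_mul]⟩
    rw [show q * x * y * (q * x)⁻¹ = q * (x * y * x⁻¹) * q⁻¹ by group, e, ← conj_mul, conj_eq_of_mem_c qH,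
      h.movy qH (Ge.Tp_le_n (Ln.self V) h.zV hq) n, ← mul_assoc, h.zz, one_mul]

omit [Finite Γ] [Finite W] in
theorem canon (ha : a ∈ Up V y) {θ : Γ} (hθ : θ ∈ F) (hi : ac a * θ * ac a = θ⁻¹) (e : θ • mk y = mk y) : θ = 1 := by
  obtain ⟨x, hx, rfl⟩ := m.ac_surj θ
  obtain ⟨x', hx', e'⟩ := h.hm m f hx ((h.fix_M m hx).1 e)
  have m1 := mul_mem (conj_mem_of_mem_normalizer (CVn h.yV hx') ha) ha
  have k := congrArg ac (h.Up_sq h.coly m1)
  rw [m.ac_mul _ (h.AH m1) _ (h.AH m1), m.ac_one, m.ac_mul _ (h.AH (conj_mem_of_mem_normalizer (CVn h.yV hx') ha)) _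
    (h.AH ha), m.ac_conj (CV h.zV hx') (h.AH ha), e'] at k
  have k1 : ac a * (ac x)⁻¹ * ac a = ac x := by
    have aa : ac a * ac a = 1 := by rw [← m.ac_mul _ (h.AH ha) _ (h.AH ha), h.Up_sq h.coly ha, m.ac_one]
    rw [← hi, ← mul_assoc, ← mul_assoc, aa, one_mul, mul_assoc, aa, mul_one]
  rw [mul_assoc (ac x), mul_assoc (ac x), k1] at k
  exact one_of_sq (f.odd _ hθ) (one_of_sq (f.odd _ (F.mul_mem hθ hθ)) k)

omit [Finite Γ] [Finite W] in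
theorem affI (hi : i ∈ Up V z ⊓ Up V y) (n : i ∉ V) :
    (∃ k ∈ 𝐍 V, k * i = i * k ∧ k ^ 3 ∈ 𝐂 V ∧ k ∉ 𝐂 V) ∧ ∃ r ∈ S, r ∈ 𝐂 V ∧ ⁅r, i⁆ = y := by
  obtain ⟨q, hq, qn⟩ := h.exists_q m f
  have l : commStab (Up V z ⊓ Up V y : Subgroup G) V ≤ 𝐍 V := fun _ k => k.1
  have nN : 𝐍 V ≤ 𝐍 (commStab (Up V z ⊓ Up V y : Subgroup G) V) := fun g hg => mem_normalizer_of_conj_mem fun x hx =>
    ⟨mul_mem (mul_mem hg hx.1) (inv_mem hg), fun j hj => by
      have := conj_mem_of_mem_normalizer hg (hx.2 _ (conj_mem_of_mem_normalizer' (h.nI m f hg) hj))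
      rwa [conjugate_commutatorElement, show g * (g⁻¹ * j * g) * g⁻¹ = j by group] at this⟩
  have mq : q ∈ commStab (Up V z ⊓ Up V y : Subgroup G) V :=
    ⟨Ge.Tp_le_n (Ln.self V) h.zV hq, fun j hj => zpowers_le.2 h.zV ((mem_Tp.1 hq).2 j hj.1)⟩
  have A := fun v hv => aff h.toGe l nN mq (Tp_le_c hq) qn (h.UC h.zV h.z1 hi.1) (h.Up_sq h.colz hi.1) n
    (fun n hn => hn.2 i hi) (v := v) hv
  obtain ⟨r, -, a, b, c⟩ := A y h.yV
  refine ⟨?_, r, b, a, c⟩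
  obtain ⟨k, hk, k3, kV⟩ := exists_three h.toGe l nN mq (Tp_le_c hq) qn
  obtain ⟨r, hr, a, -, c⟩ := A _ (hk.2 i hi)
  refine ⟨r * k, mul_mem hr.1 hk.1, commutatorElement_eq_one_iff_mul_comm.1 ?_, ?_, fun e => kV ?_⟩
  · rw [commutatorElement_mul_left_eq_conj_mul, mem_centralizer_iff'.1 a _ (hk.2 i hi), c, h.four.sq _ (hk.2 i hi)]
  · simpa using mul_mem (mul_pow_mul_inv_mem (normalizer_le_normalizer_centralizer V hk.1) a 3) k3
  · simpa using mul_mem (inv_mem a) e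

omit [Finite Γ] [Finite W] f in
theorem aa (ha : a ∈ Up V y) : ac a * ac a = 1 := by
  rw [← m.ac_mul _ (h.AH ha) _ (h.AH ha), h.Up_sq h.coly ha, m.ac_one]

omit [Finite Γ] [Finite W] in
theorem sol4 (ha : a ∈ Up V y) {θ : Γ} (hθ : θ ∈ F) (hi : ac a * θ * ac a = θ⁻¹) (h1 : θ ≠ 1) {w : W}
    (hw : w ∈ m.im (Up V z ⊓ Up V y)) (e : θ • w = w) : w = 0 := by
  obtain ⟨i, -, hI, rfl⟩ := hw
  by_cases iV : i ∈ V
  · exact (h.mkV m iV).resolve_right fun k => h1 (h.canon m f ha hθ hi (k ▸ e))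
  exfalso
  obtain ⟨x, hx, rfl⟩ := m.ac_surj θ
  have ai : (ac a)⁻¹ = ac a := inv_eq_of_mul_eq_one_right (h.aa m ha)
  have xi : x * x ∈ 𝐂 (zpowers i) := mem_c_of_conj_eq (by
    have k := (m.fix hx hI.1).1 e
    calc _ = x * ⁅x, i⁆ * x⁻¹ * ⁅x, i⁆ * i := by simp only [commutatorElement_def]; group
      _ = _ := by
        rw [mem_centralizer_iff'.1 hx _ k]
        rcases mem_two h.zz k with k | k <;> simp [k, h.zz])
  have i1 : i ≠ 1 := fun k => iV (k ▸ one_mem _)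
  have cI : ∀ p ∈ V, p ≠ 1 → Up V p ≤ 𝐂 (zpowers i) := fun p hp p1 =>
    (h.Up_ab (colp hp p1)).trans (centralizer_anti (zpowers_le.2 (h.I_le m f hp p1 hI)))
  obtain ⟨⟨k, hk, ki, k3, kV⟩, -⟩ := h.affI m f hI iV
  have nC := normalizer_le_normalizer_centralizer V
  refine (sol_ind (P := fun N => ∃ k ∈ N, k ∈ 𝐍 V ∧ k ^ 3 ∈ 𝐂 V ∧ k ∉ 𝐂 V) (H18.Solv.of_le
    (fr_sol h.toFr ((h.Up_isP h.colz).to_le (zpowers_le.2 hI.1)) (by simpa using i1)) (centralizer_le_normalizer _))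
    ⟨k, mem_centralizer_zpowers.2 ki.symm, hk, k3, kV⟩ ?_).elim fun k ⟨hk, _, _, kV⟩ => kV (mem_bot.1 hk ▸ one_mem _)
  have key : ∀ N ≤ 𝐂 (zpowers i), 𝐂 (zpowers i) ≤ 𝐍 N → ∀ k ∈ N, k ∈ 𝐍 V → k ^ 3 ∈ 𝐂 V → k ∉ 𝐂 V → k * y * k⁻¹ = z →
      ∃ k ∈ ⁅N, N⁆, k ∈ 𝐍 V ∧ k ^ 3 ∈ 𝐂 V ∧ k ∉ 𝐂 V := fun N l n k hk kM k3 kV ky => by
    have cN : ∀ t ∈ 𝐂 (zpowers i), ∀ g ∈ N, ⁅t, g⁆ ∈ N := fun t ht g hg =>
      commutator_le_of_le_normalizer' n (commutator_mem_commutator ht hg)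
    have cN' : ∀ t ∈ 𝐂 (zpowers i), ∀ g ∈ N, ⁅g, t⁆ ∈ N := fun t ht g hg =>
      commutator_le_of_le_normalizer n (commutator_mem_commutator hg ht)
    have m1 : k * a * k⁻¹ ∈ Up V z := by rw [← ky, ← cj_Up]; exact conj_mem_cj k ha
    have m2 : ⁅k, a⁆ ∈ 𝐂 (zpowers z) := mul_mem (h.UH m1) (inv_mem (h.AH ha))
    have e1 : ac ⁅k, a⁆ = ac a := by
      rw [commutatorElement_def, m.ac_mul _ (h.UH m1) _ (inv_mem (h.AH ha)), (ac_T m (h.UH m1)).2 (h.UT m1), one_mul,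
        m.ac_inv (h.AH ha), ai]
    obtain ⟨g, hg⟩ : ∃ g, g = ⁅⁅k, a⁆, x * x⁆ := ⟨_, rfl⟩
    have gN : g ∈ N := hg ▸ cN' _ xi _ (cN' _ (cI y h.yV h.y1 ha) _ hk)
    have xx := mul_mem hx hx
    have gH : g ∈ 𝐂 (zpowers z) := hg ▸ mul_mem (mul_mem (mul_mem m2 xx) (inv_mem m2)) (inv_mem xx)
    have e2 : ac g⁻¹ = ac x ^ 4 := by
      rw [m.ac_inv gH, hg, commutatorElement_def, m.ac_mul _ (mul_mem (mul_mem m2 xx) (inv_mem m2)) _ (inv_mem xx),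
        m.ac_conj m2 xx, m.ac_inv xx, m.ac_mul _ hx _ hx, e1, ← conj_mul, ai, hi]
      group
    have gF : ac g⁻¹ ∈ F := e2 ▸ pow_mem hθ 4
    have Tc : ∀ t ∈ Tp V z, ⁅t, g⁆ ∈ Tp V z := fun t ht =>
      commutator_le_of_le_normalizer (c_le_n_Tp V z) (commutator_mem_commutator ht gH)
    have Uc : ∀ u ∈ Up V z, ⁅g⁻¹, u⁆ ∈ Up V z := fun u hu =>
      commutator_le_of_le_normalizer' (c_le_n_Up V z) (commutator_mem_commutator (inv_mem gH) hu)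
    have yU := VU h.zV h.yV
    obtain ⟨t, ht, tn⟩ : ∃ t ∈ Tp V z, ⁅⁅⁅t, g⁆, g⁆, g⁆ ∉ 𝐂 V := by
      by_contra! c
      have m3 : ⁅g⁻¹, ⁅g⁻¹, ⁅g⁻¹, y⁆⁆⁆ ∈ 𝐂 (Tp V z) := fun t ht => χ_zero.1 (by
        rw [← h.χT ht gH (Uc _ (Uc _ yU)), ← h.χT (Tc _ ht) gH (Uc _ yU), ← h.χT (Tc _ (Tc _ ht)) gH yU]
        exact χ_zero.2 (c t ht y h.yV).symm)
      have k1 := (m.fix (inv_mem gH) (Uc _ (Uc _ (Uc _ yU)))).2 (by
        rw [commutatorElement_eq_one_iff_mul_comm.2 (h.s1 m f ⟨Uc _ (Uc _ (Uc _ yU)), m3⟩ _ ⟨inv_mem gH, gF⟩)]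
        exact one_mem _)
      have o := f.odd _ gF
      rw [m.comm (inv_mem gH) (Uc _ (Uc _ yU))] at k1
      have k2 := sub_eq_zero.1 (rg_fix m.two o ⟨_, rfl⟩ k1)
      rw [m.comm (inv_mem gH) (Uc _ yU)] at k2
      have k3 := sub_eq_zero.1 (rg_fix m.two o ⟨_, rfl⟩ k2)
      rw [m.comm (inv_mem gH) yU] at k3
      have k4 := h.canon m f ha gF (by
        rw [e2, ← inv_pow, ← hi]; conv_rhs => rw [show ∀ x, ac a * x * ac a = ac a * x * (ac a)⁻¹ by simp [ai], conj_pow]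
        rw [ai]) (sub_eq_zero.1 (rg_fix m.two o ⟨_, rfl⟩ k3))
      exact h1 (eq_one_of_pow_coprime (Nat.Coprime.pow_right 2 (Nat.coprime_two_right.2 (f.odd _ hθ)))
        (pow_orderOf_eq_one _) (e2 ▸ k4))
    have t1 : ⁅t, g⁆ ∈ 𝐂 (zpowers i) := mem_centralizer_zpowers.2 (χ_zero.1 (by
      rw [h.χT ht gH hI.1, commutatorElement_eq_one_iff_mul_comm.2 (mem_centralizer_zpowers.1 (l (inv_mem gN))).symm]
      exact χ_zero.2 (by simp))).symm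
    have t2 := cN _ t1 _ gN
    have qT := Tc _ (Tc _ (Tc _ ht))
    have qM := Ge.Tp_le_n (Ln.self V) h.zV qT
    obtain ⟨c1, c2⟩ := h.four.comm_three kM qM k3 kV
      (four_sq h.four h.zV h.z1 qM (conj_eq_of_mem_c (Tp_le_c qT))) tn
    exact ⟨_, commutator_mem_commutator hk (cN _ (l t2) _ gN), mul_mem (mul_mem (mul_mem kM qM) (inv_mem kM))
      (inv_mem qM), c1, c2⟩
  rintro N l n ⟨k, hk, kM, k3, kV⟩
  rcases h.memV (conj_mem_of_mem_normalizer kM h.yV) with j | j | j | j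
  · exact absurd j (conj_ne_one k h.y1)
  · exact key N l n k hk kM k3 kV j
  · exact absurd (four_fpf h.four kM k3 kV h.yV j) h.y1
  refine key N l n k⁻¹ (inv_mem hk) (inv_mem kM) (inv_pow k 3 ▸ inv_mem k3) (fun e => kV (inv_mem_iff.1 e)) ?_
  rcases h.memV (conj_mem_of_mem_normalizer kM h.zV) with j' | j' | j' | j'
  · exact absurd j' (conj_ne_one k h.z1)
  · exact absurd (four_fpf h.four kM k3 kV h.zV j') h.z1
  · rw [← j']; group
  · exact absurd (by simpa using j.trans j'.symm) h.yz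

omit [Finite Γ] [Finite W] in
theorem st (ha : a ∈ Up V y) (n : a ∉ Tp V z) : St F (ac a) (m.im (Up V z ⊓ Up V y)) :=
  ⟨m.two, m.faith, f.nor, f.odd, f.cen, h.aa m ha, fun e => n ((ac_T m (h.AH ha)).1 e), fun w => by
    obtain ⟨u, hu, rfl⟩ := m.mk_surj w
    exact ⟨_, (h.commI ha hu).1, h.commI ha hu, m.comm (h.AH ha) hu⟩, by
    rintro _ ⟨i, -, hi, rfl⟩
    rw [m.smul _ (h.AH ha) _ hi.1, mem_centralizer_iff'.1 (h.Up_ab h.coly ha) i hi.2],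
    fun θ hθ hi h1 _ => h.sol4 m f ha hθ hi h1⟩

omit [Finite Γ] [Finite W] in
theorem ac_eq (ha : a ∈ Up V y) (n : a ∉ Tp V z) (hb : b ∈ Up V y) (n' : b ∉ Tp V z) : ac b = ac a :=
  (h.st m f ha n).uniq (h.aa m hb) (h.st m f hb n').a1 (by
    rw [← m.ac_mul _ (h.AH ha) _ (h.AH hb), ← m.ac_mul _ (h.AH hb) _ (h.AH ha), h.Up_ab h.coly hb a ha])
    (h.st m f hb n').memI

omit [Finite Γ] [Finite W] in
theorem twoA (ha : a ∈ Up V y) (n : a ∉ Tp V z) (hb : b ∈ Up V y) (n' : b ∉ Tp V z) : a * b ∈ Tp V z :=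
  (ac_T m (h.AH (mul_mem ha hb))).1 (by rw [m.ac_mul _ (h.AH ha) _ (h.AH hb), h.ac_eq m f ha n hb n', h.aa m ha])

omit [Finite Γ] [Finite W] in
theorem twoU (ha : a ∈ Up V z) (n : a ∉ Tp V y) (hb : b ∈ Up V z) (n' : b ∉ Tp V y) : a * b ∈ Tp V y := by
  obtain ⟨σ, -, e1, e2⟩ := h.swap
  have k1 : ∀ x, σ * x * σ⁻¹ ∈ Tp V z ↔ x ∈ Tp V y := fun x => by rw [← e2, ← cj_Tp, conj_mem_cj_iff]
  have k2 : ∀ x, σ * x * σ⁻¹ ∈ Up V y ↔ x ∈ Up V z := fun x => by rw [← e1, ← cj_Up, conj_mem_cj_iff]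
  rw [← k1, ← conj_mul]
  exact h.twoA m f ((k2 a).2 ha) (mt (k1 a).1 n) ((k2 b).2 hb) (mt (k1 b).1 n')

omit [Finite Γ] [Finite W] in
theorem comm_a (ha : a ∈ Up V y) (n : a ∉ Tp V z) (h1 : x ∈ 𝐂 (zpowers z)) (h2 : x ∈ 𝐍 V) :
    ac x * ac a = ac a * ac x := by
  obtain ⟨x', hx, e⟩ := h.hm m f h1 h2
  have := h.ac_eq m f ha n (conj_mem_of_mem_normalizer (CVn h.yV hx) ha) fun k => n (by
    simpa [mul_assoc] using conj_mem_of_mem_normalizer' (c_le_n_Tp V z (CV h.zV hx)) k)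
  rw [m.ac_conj (CV h.zV hx) (h.AH ha), e] at this
  exact mul_inv_eq_iff_eq_mul.1 this

omit [Finite Γ] in
theorem M_of_comm (ha : a ∈ Up V y) (n : a ∉ Tp V z) (h1 : x ∈ 𝐂 (zpowers z)) (e : ac x * ac a = ac a * ac x) :
    x ∈ 𝐍 V := h.NI m f (mem_normalizer_of_conj_mem fun i hi => by
  obtain ⟨v, hv⟩ := (h.st m f ha n).comm_of_mem ⟨i, hi.1, hi, rfl⟩
  rw [← m.mem_im (h.VI h.zV) (m.cU h1 hi.1), ← m.smul _ h1 _ hi.1, ← hv, smul_sub, ← mul_smul, e, mul_smul]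
  exact (h.st m f ha n).memI _)

omit [Finite Γ] in
theorem st4 (ha : a ∈ Up V y) (n : a ∉ Tp V z) (hI : Up V z ⊓ Up V y ≠ V) :
    ∃ i₀, St4 F (ac a) (m.im (Up V z ⊓ Up V y)) (mk y) i₀ := by
  have s := h.st m f ha n
  have k1 : ∀ u ∈ Up V z, u ∈ Tp V y → mk ⁅a, u⁆ = 0 ∨ mk ⁅a, u⁆ = mk y := fun u _ hu =>
    h.mkV m (commutatorElement_inv u a ▸ inv_mem (zpowers_le.2 h.yV ((mem_Tp.1 hu).2 a ha)))
  obtain ⟨u₀, hu₀, n₀⟩ : ∃ u ∈ Up V z, u ∉ Tp V y := SetLike.not_le_iff_exists.1 fun e => by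
    obtain ⟨σ, -, e1, e2⟩ := h.swap
    have := cj_mono σ e
    rw [cj_Up, cj_Tp, e1, e2] at this
    exact h.nT this
  have four : ∀ w ∈ m.im (Up V z ⊓ Up V y), w = 0 ∨ w = mk y ∨ w = mk ⁅a, u₀⁆ ∨ w = mk ⁅a, u₀⁆ + mk y := fun w hw => by
    obtain ⟨v, rfl⟩ := s.comm_of_mem hw
    obtain ⟨u, hu, rfl⟩ := m.mk_surj v
    rw [← m.comm (h.AH ha) hu]
    by_cases c : u ∈ Tp V y
    · rcases k1 u hu c with k | k <;> simp [k]
    have k := k1 _ (mul_mem hu hu₀) (h.twoU m f hu c hu₀ n₀)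
    rw [m.comm (h.AH ha) (mul_mem hu hu₀), m.mk_mul _ hu _ hu₀, smul_add, add_sub_add_comm, ← m.comm (h.AH ha) hu,
      ← m.comm (h.AH ha) hu₀] at k
    rcases k with k | k
    · exact .inr (.inr (.inl (eq_of_add m.two k)))
    · exact .inr (.inr (.inr (by linear_combination (norm := abel1) k - m.two (mk ⁅a, u₀⁆))))
  have k2 : ¬ (mk ⁅a, u₀⁆ = 0 ∨ mk ⁅a, u₀⁆ = mk y) := fun k => hI (le_antisymm (fun i hi => by
    have : mk i = 0 ∨ mk i = mk y := by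
      rcases k with k | k <;> rcases four _ ⟨i, hi.1, hi, rfl⟩ with j | j | j | j <;> simp [j, k, m.two]
    rcases this with j | j
    · exact zpowers_le.2 h.zV ((m.mk_zero i hi.1).1 j)
    · simpa using mul_mem (zpowers_le.2 h.zV ((m.mk_eq hi.1 (VU h.zV h.yV)).1 j)) h.yV) h.VI)
  refine ⟨mk ⁅a, u₀⁆, s, f.nil, ⟨y, VU h.zV h.yV, h.VI h.yV, rfl⟩, ⟨_, (h.commI ha hu₀).1, h.commI ha hu₀, rfl⟩, h.y0 m,
    fun e => k2 (.inl e), fun e => k2 (.inr e), four, fun γ e => ?_, h.span m⟩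
  obtain ⟨x, hx, rfl⟩ := m.ac_surj γ
  exact (h.fix_M m hx).2 (h.M_of_comm m f ha n hx e)

end B3
end H13.FFa
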