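import Cfsg.Agent.H21.Classes
import Cfsg.Agent.H22.Count
import Cfsg.Agent.H8.Basic
import Cfsg.Agent.H5.Kernel
import Cfsg.Agent.H2.Factor
import Cfsg.Agent.H1.FTCor

/-! Many classes of `π`-elements force a nilpotent Hall `π`-subgroup: `classes_ineq` (`p² k(G) ≤ |G| + (p²-1)|G:G'|`),
`nil_of_classes`, `ppart`, `kpi_sum`, `kpi_caseA`, `kpi_caseB`, `nil_hall_of_kpi`. -/

set_option autoImplicit false
set_option linter.unusedSectionVars false

namespace H13
open Cfsg Subgroup H18 H1 H21 H5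
universe u

variable {G : Type*} [Group G] [Finite G] {H K M P Q R : Subgroup G} {p q : ℕ} {x y g : G} {π : Set ℕ}

theorem classes_ineq (hp : ∀ r, r.Prime → r ∣ Nat.card G → p ≤ r) :
    p ^ 2 * Nat.card (ConjClasses G) + (commutator G).index ≤ Nat.card G + p ^ 2 * (commutator G).index := by
  classical
  have h1 : ∑ χ : IrrCharacter G, charDegree (χ : G → ℂ) ^ 2 = Nat.card G := by
    have := sum_sq_degrees (G := G)
    simp only [← fun χ : IrrCharacter G => χ.2.coe_charDegree] at this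
    exact_mod_cast this
  have h2 : (commutator G).index = ∑ χ : IrrCharacter G, if (χ : G → ℂ) 1 = 1 then 1 else 0 := by
    rw [← card_linear_irr, Nat.card_eq_fintype_card, Fintype.card_subtype, Finset.card_filter]
  rw [← card_irr_eq_card_conjClasses, ← h1, h2, Nat.card_eq_fintype_card, ← Finset.card_univ, Finset.card_eq_sum_ones,
    Finset.mul_sum, Finset.mul_sum, ← Finset.sum_add_distrib, ← Finset.sum_add_distrib]
  refine Finset.sum_le_sum fun χ _ => ?_
  split_ifs with c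
  · rw [χ.2.isCharacter.charDegree_eq_one_iff.2 c]; omega
  · have h3 : charDegree (χ : G → ℂ) ≠ 1 := fun e => c (χ.2.isCharacter.charDegree_eq_one_iff.1 e)
    have h4 := Nat.minFac_prime h3
    have h5 := (hp _ h4 ((Nat.minFac_dvd _).trans χ.2.charDegree_dvd_card)).trans (Nat.minFac_le χ.2.charDegree_pos)
    simpa using Nat.pow_le_pow_left h5 2

theorem nil_of_classes (h2 : 2 ≤ p) (hp : ∀ r, r.Prime → r ∣ Nat.card G → p ≤ r)
    (h : Nat.card G < p * Nat.card (ConjClasses G)) : Nat.card (commutator G) ≤ p ∧ Group.IsNilpotent G := by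
  have h1 := classes_ineq hp
  have h3 := (commutator G).card_mul_index
  have h4 : 0 < (commutator G).index := Nat.pos_of_ne_zero FiniteIndex.index_ne_zero
  have h5 : Nat.card (commutator G) ≤ p := by
    by_contra! c
    set l := (commutator G).index
    set d := Nat.card (commutator G)
    set k := Nat.card (ConjClasses G)
    obtain ⟨s, rfl⟩ := Nat.exists_eq_add_of_le' h2
    have e1 : (s + 3) * l ≤ d * l := Nat.mul_le_mul_right _ c
    have e2 : (s + 2) * Nat.card G < (s + 2) * ((s + 2) * k) := Nat.mul_lt_mul_of_pos_left h (by omega)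
    have e3 : (s + 1) * ((s + 3) * l) ≤ (s + 1) * Nat.card G := Nat.mul_le_mul_left _ (h3 ▸ e1)
    nlinarith
  refine ⟨h5, ?_⟩
  have h6 : commutator G ≤ center G := fun d hd => by
    by_contra c
    have d1 : d ≠ 1 := by rintro rfl; exact c (one_mem _)
    have i1 : C1(d).index ≠ 1 := fun e => c (mem_center_iff.2 fun g => mem_C1.1 (index_eq_one.1 e ▸ mem_top g))
    have i2 := (hp _ (Nat.minFac_prime i1) ((Nat.minFac_dvd _).trans (index_dvd_card _))).trans
      (Nat.minFac_le (Nat.pos_of_ne_zero FiniteIndex.index_ne_zero))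
    rw [H8.index_centralizer_eq_card_isConj] at i2
    have i3 : Nat.card {y : G // IsConj d y} < Nat.card (commutator G) := by
      refine Set.ncard_lt_ncard (s := {y | IsConj d y}) (t := commutator G) ⟨fun y hy => ?_, fun e => ?_⟩
      · obtain ⟨g, rfl⟩ := isConj_iff.1 hy
        exact (inferInstance : (commutator G).Normal).conj_mem d hd g
      · exact d1 (isConj_one_left.1 (e (one_mem _)))
    omega
  refine ⟨2, eq_top_iff.2 fun x _ => ?_⟩
  rw [Subgroup.mem_upperCentralSeries_succ_iff]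
  intro y
  rw [Subgroup.upperCentralSeries_one]
  exact h6 (commutator_mem_commutator (mem_top x) (mem_top y))

/-- the `σ`-part of `n` -/
def ppart (σ : Finset ℕ) (n : ℕ) : ℕ := ∏ r ∈ σ, r ^ n.factorization r

variable {σ : Finset ℕ} {a b n : ℕ}

theorem ppart_dvd (h : a ∣ b) (hb : b ≠ 0) : ppart σ a ∣ ppart σ b :=
  Finset.prod_dvd_prod_of_dvd _ _ fun r _ => pow_dvd_pow r
    ((Nat.factorization_le_iff_dvd (ne_zero_of_dvd_ne_zero hb h) hb).2 h r)

theorem ppart_pi (hσ : ∀ r ∈ σ, r.Prime) : PiNat σ (ppart σ n) := fun r hr hd => by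
  obtain ⟨s, hs, h⟩ := (hr.prime.dvd_finsetProd_iff _).1 hd
  rwa [(Nat.prime_dvd_prime_iff_eq hr (hσ s hs)).1 (hr.dvd_of_dvd_pow h)]

theorem ppart_pos (hσ : ∀ r ∈ σ, r.Prime) : 0 < ppart σ n :=
  Finset.prod_pos fun r hr => pow_pos (hσ r hr).pos _

theorem ppart_eq (hσ : ∀ r ∈ σ, r.Prime) (h0 : a * b ≠ 0) (ha : PiNat σ a) (hb : PiNat (σ : Set ℕ)ᶜ b) :
    ppart σ (a * b) = a := by
  have a0 := left_ne_zero_of_mul h0
  conv_rhs => rw [← Nat.prod_factorization_pow_eq_self a0]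
  rw [Finsupp.prod_of_support_subset _ (s := σ) (fun r hr => by
    rw [Nat.support_factorization] at hr
    exact ha r (Nat.prime_of_mem_primeFactors hr) (Nat.dvd_of_mem_primeFactors hr)) _ (by simp)]
  refine Finset.prod_congr rfl fun r hr => ?_
  rw [Nat.factorization_mul a0 (right_ne_zero_of_mul h0), Finsupp.add_apply,
    Nat.factorization_eq_zero_of_not_dvd (hb.not_dvd' (hσ r hr) hr), add_zero]

theorem card_eq_ppart (hσ : ∀ r ∈ σ, r.Prime) (h : Hall σ H M) : Nat.card H = ppart σ (Nat.card M) := by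
  rw [← H18.card_mul_relIndex h.le, ppart_eq hσ (mul_ne_zero card_ne_zero' H18.relIndex_ne_zero) h.pi h.idx]

theorem hall_of_ppart (hσ : ∀ r ∈ σ, r.Prime) (h : H ≤ M) (e : Nat.card H = ppart σ (Nat.card M)) : Hall σ H M := by
  obtain ⟨a, b, e1, ha, hb⟩ := exists_pi_factor (σ : Set ℕ) (card_ne_zero' (H := M))
  refine hall_of_card_mul h (by rw [PiGrp, e]; exact ppart_pi hσ) hb ?_
  rw [e, e1, ppart_eq hσ (e1 ▸ card_ne_zero') ha hb]

theorem ppart_erase (hq : q ∈ σ) : ppart σ n = q ^ n.factorization q * ppart (σ.erase q) n :=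
  (Finset.mul_prod_erase _ _ hq).symm

theorem kpi_le_ppart (hσ : ∀ r ∈ σ, r.Prime) : kpi σ G ≤ ppart σ (Nat.card G) := kpi_le_prod σ hσ G

theorem kpi_sum {c : ℕ} (ρ : Set ℕ) (f : ConjClasses G → ℕ)
    (h : ∀ y : G, PiElt ρ y → c * kpi (π \ ρ) C1(y) ≤ f (ConjClasses.mk y)) :
    c * kpi π G ≤ ∑ a ∈ (Set.toFinite (ConjClasses.mk '' {x : G | PiElt ρ x})).toFinset, f a := by
  choose r hr using fun (X : Type _) [Group X] (c : ConjClasses X) => ConjClasses.mk_surjective c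
  let I := ConjClasses.mk '' {x : G | PiElt ρ x}
  have : ConjClasses.mk '' {x : G | PiElt π x} ⊆
      (fun a : Σ c : I, (ConjClasses.mk '' {x : C1(r G c) | PiElt (π \ ρ) x}) =>
        ConjClasses.mk (r G a.1 * (r _ a.2.1 : C1(r G a.1)))) '' Set.univ := by
    rintro _ ⟨x, hx, rfl⟩
    obtain ⟨g, hg⟩ := mk_eq_mk.1 (hr G (ConjClasses.mk (piPart ρ x))).symm
    have h1 : g * piPart ρᶜ x * g⁻¹ ∈ C1(r G (ConjClasses.mk (piPart ρ x))) := by
      rw [← hg, ← cj_C1, conj_mem_cj_iff, mem_C1]; exact piPart_comm_piPart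
    obtain ⟨k, hk⟩ := mk_eq_mk.1 (hr _ (ConjClasses.mk (⟨_, h1⟩ : C1(_)))).symm
    refine ⟨⟨⟨_, _, piElt_piPart, rfl⟩, _, ⟨_, h1⟩, ?_, rfl⟩, trivial, ?_⟩
    · show PiNat _ _
      rw [← orderOf_coe, orderOf_conj]
      exact (piElt_piPart_of hx).inter piElt_piPart
    · show ConjClasses.mk (r G _ * (r _ (ConjClasses.mk (⟨_, h1⟩ : C1(_))) : C1(_))) = _
      rw [← hk, ← mk_conj ((k : G) * g) x]
      congr 1
      refine (congrArg (· * _) ((conj_eq_self_of_C1 k.2).symm.trans (congrArg (fun z => (k : G) * z * (k : G)⁻¹) hg.symm))).trans ?_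
      simp only [coe_mul, coe_inv]
      rw [← congrArg (fun z => (k : G) * g * z * ((k : G) * g)⁻¹) (piPart_mul_compl (π := ρ) (x := x))]
      group
  refine (Nat.mul_le_mul_left c ((Set.ncard_le_ncard this).trans (Set.ncard_image_le (Set.toFinite _)))).trans ?_
  classical
  have := Fintype.ofFinite I
  rw [Set.ncard_univ, Nat.card_sigma, Finset.mul_sum,
    Finset.sum_subtype (p := fun a => a ∈ I) _ (fun _ => Set.Finite.mem_toFinset _) f]
  refine Finset.sum_le_sum fun a _ => ?_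
  obtain ⟨a, y, hy, rfl⟩ := a
  obtain ⟨g, hg⟩ := mk_eq_mk.1 (hr G (ConjClasses.mk y)).symm
  have := h (r G (ConjClasses.mk y)) (hg ▸ PiElt.conj hy g)
  rwa [hr] at this

theorem hall_subgroupOf (h : Hall π Q K) : Hall π (Q.subgroupOf K) ⊤ := by
  simpa [mim_id] using h.mim (f := MonoidHom.id _) le_rfl

theorem hall_map_subtype {Q : Subgroup K} (h : Hall π Q ⊤) : Hall π (Q.map K.subtype) K :=
  hall_of_card_mul (map_subtype_le _) (by rw [PiGrp, card_map_subtype]; exact h.pi) h.idx (by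
    rw [card_map_subtype, H18.card_mul_relIndex h.le, card_top])

theorem nil_map_subtype {Q : Subgroup K} (h : Nil Q) : Nil (Q.map K.subtype) :=
  Group.nilpotent_of_mulEquiv (Q.equivMapOfInjective _ K.subtype_injective)

theorem kpi_caseA (hq : q.Prime) (hQ : Hall {q} Q ⊤) (hn : ¬ N(Q) ≤ C(Q)) (ρ : Set ℕ) (hρ : q ∉ ρ) :
    2 * q * kpi (insert q ρ) G + Nat.card Q * kpi ρ C(Q) ≤ Nat.card Q * (q * kpi ρ C(Q) + 2 * kpi ρ G) := by
  classical
  obtain ⟨e, he, he'⟩ := SetLike.not_le_iff_exists.1 hn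
  let J := ConjClasses.mk '' {x : C(Q) | PiElt ρ x}
  let w : ConjClasses G → ℕ := fun c => {a | a ∈ J ∧ ConjClasses.map C(Q).subtype a = c}.ncard
  obtain ⟨s, rfl⟩ := Nat.exists_eq_add_of_le' hq.one_le
  have h1 := kpi_sum (G := G) (π := insert (s + 1) ρ) (c := 2 * (s + 1)) ρ (fun c => Nat.card Q * (s * w c + 2)) fun y hy => by
    rw [show insert (s + 1) ρ \ ρ = {s + 1} by ext; simp; grind]
    obtain ⟨S, hS⟩ := exists_sylow hq C1(y)
    have hS' := hall_subgroupOf hS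
    have k1 : kpi {s + 1} C1(y) ≤ Nat.card S := by
      rw [kpi_eq hq hS', ← card_subgroupOf hS.le]; exact kcl_le
    obtain ⟨g, -, hg⟩ := sylow_le_cj' hq hQ hS.pi le_top
    rcases hg.lt_or_eq with hg | rfl
    · obtain ⟨T, h3, h4, h5⟩ := (hQ.pi.cj g).exists_index_p hg
      have h6 := H18.card_mul_relIndex h4.1
      have h7 := card_le h3
      rw [h5, card_cj] at h6
      calc _ ≤ 2 * (s + 1) * Nat.card T := Nat.mul_le_mul_left _ (k1.trans h7)
        _ = Nat.card Q * 2 := by rw [← h6]; ring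
        _ ≤ _ := Nat.mul_le_mul_left _ (Nat.le_add_left _ _)
    rw [card_cj] at k1
    have hx : g⁻¹ * y * g ∈ C(Q) := by rw [← mem_cj, cj_C]; exact le_C1_iff.1 hS.le
    have hx' : e * (g⁻¹ * y * g) * e⁻¹ ∈ C(Q) := conj_mem_N (N_le_N_C he) hx
    have p1 : PiElt ρ (g⁻¹ * y * g) := by simpa using hy.conj g⁻¹
    have m1 : ConjClasses.mk (⟨_, hx⟩ : C(Q)) ∈ {a | a ∈ J ∧ ConjClasses.map C(Q).subtype a = ConjClasses.mk y} :=
      ⟨⟨_, by rw [Set.mem_ofPred_eq, PiElt, ← orderOf_coe]; exact p1, rfl⟩, by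
        have := mk_conj g⁻¹ y; rw [inv_inv] at this; exact this⟩
    have m2 : ConjClasses.mk (⟨_, hx'⟩ : C(Q)) ∈ {a | a ∈ J ∧ ConjClasses.map C(Q).subtype a = ConjClasses.mk y} :=
      ⟨⟨_, by rw [Set.mem_ofPred_eq, PiElt, ← orderOf_coe]; exact p1.conj e, rfl⟩, (mk_conj e _).trans m1.2⟩
    by_cases c : (s + 1 + 1) * Nat.card ((cj g Q).subgroupOf C1(y)) < 2 * (s + 1) * kpi {s + 1} C1(y)
    · have h3 := pnil_of_kpi hq hS' c
      have w2 : 2 ≤ w (ConjClasses.mk y) := (Set.one_lt_ncard (Set.toFinite _)).2 ⟨_, m1, _, m2, fun e1 => he' (by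
        obtain ⟨c, hc⟩ := mk_eq_mk.1 e1
        have hc : (c : G) * (g⁻¹ * y * g) * (c : G)⁻¹ = e * (g⁻¹ * y * g) * e⁻¹ := congrArg Subtype.val hc
        have n1 : g * ((c : G)⁻¹ * e) * g⁻¹ ∈ C1(y) := mem_C1.2 (by
          calc _ = g * (c : G)⁻¹ * (e * (g⁻¹ * y * g) * e⁻¹) * e * g⁻¹ := by group
            _ = _ := by rw [← hc]; group)
        have n2 : g * ((c : G)⁻¹ * e) * g⁻¹ ∈ N(cj g Q) := by
          rw [← cj_N]; exact conj_mem_cj (mul_mem (inv_mem (C_le_N c.2)) he)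
        have n3 := h3 (show (⟨_, n1⟩ : C1(y)) ∈ N((cj g Q).subgroupOf C1(y)) from
          mem_N_of_finite fun b hb => conj_mem_N (G := G) (y := b) n2 hb)
        have n4 : g * ((c : G)⁻¹ * e) * g⁻¹ ∈ cj g C(Q) := by
          rw [cj_C]
          exact mem_C.2 fun b hb => congrArg Subtype.val (mem_C.1 n3 ⟨b, hS.le hb⟩ hb)
        simpa using mul_mem c.2 (conj_mem_cj_iff.1 n4))⟩
      calc _ ≤ 2 * (s + 1) * Nat.card Q := Nat.mul_le_mul_left _ k1
        _ = Nat.card Q * (s * 2 + 2) := by ring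
        _ ≤ _ := by gcongr
    · rw [card_subgroupOf hS.le, card_cj, not_lt] at c
      have w1 : 1 ≤ w (ConjClasses.mk y) := (Set.ncard_pos (Set.toFinite _)).2 ⟨_, m1⟩
      calc _ ≤ _ := c
        _ = Nat.card Q * (s * 1 + 2) := by ring
        _ ≤ _ := by gcongr
  have h2 : kpi ρ C(Q) = _ := H22.ncard_eq_sum_fibers (ConjClasses.map C(Q).subtype) J
    (Set.toFinite (ConjClasses.mk '' {x : G | PiElt ρ x})).toFinset (by
      rintro _ ⟨x, hx, rfl⟩
      exact (Set.Finite.mem_toFinset _).2 ⟨x, by rw [Set.mem_ofPred_eq, PiElt, orderOf_coe]; exact hx, rfl⟩)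
  rw [← Finset.mul_sum, Finset.sum_add_distrib, ← Finset.mul_sum, ← h2, Finset.sum_const, smul_eq_mul,
    ← Set.ncard_eq_toFinset_card] at h1
  change _ ≤ _ * (_ + kpi ρ G * 2) at h1
  nlinarith

theorem kpi_caseB (hq : q.Prime) (hn : PNil q (⊤ : Subgroup G)) {ρ : Set ℕ} (hρ : q ∉ ρ) (hH : Hall ρ H O[{q}ᶜ](⊤))
    (hN : Nil H) : ∃ L : Subgroup G, Hall (insert q ρ) L ⊤ ∧ kpi (insert q ρ) G ≤ Nat.card (ConjClasses L) := by
  set N := O[{q}ᶜ]((⊤ : Subgroup G))
  obtain ⟨R, hR⟩ := exists_sylow hq (⊤ : Subgroup G)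
  have cop : Cop R N := cop_p'core le_top hR.pi
  obtain ⟨k, hk, hRn⟩ := cop.exists_norm_cj (X := H) fun a _ => by
    have h1 := hH.cj_N (pcore_nml.norm (mem_top a))
    obtain ⟨k, hk, e⟩ := H2.nil_hall_le_cj hH hN h1.le h1.pi
    exact ⟨k, hk, eq_of_card_eq e (by simp)⟩
  replace hH := hH.cj_mem hk
  replace hN := hN.cj k
  generalize cj k H = H at *
  have s1 : ρ ⊆ {q}ᶜ := fun r hr e => hρ (e ▸ hr)
  have hH' : Hall ρ H ⊤ := hH.trans hn fun r _ h => s1 h
  have pL : PiGrp (insert q ρ) (H ⊔ R) :=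
    PiGrp.sup_norm' (hH.pi.sub (Set.subset_insert _ _)) (hR.pi.of_p (Set.mem_insert _ _)) hRn
  refine ⟨H ⊔ R, hall_of_sylows le_top pL ?_, ?_⟩
  · rintro r hr (rfl | h) -
    · exact ⟨R, hR, le_sup_right⟩
    · obtain ⟨S, hS⟩ := exists_sylow hr H
      exact ⟨S, hS.trans_p hH' h, hS.le.trans le_sup_left⟩
  rw [kpi_eq_of_cover pL]
  · exact kcl_le_card_classes
  intro x hx
  obtain ⟨g, -, hg⟩ := sylow_le_cj hq hR (piElt_piPart (π := {q}) (x := x)).zpowers le_top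
  rw [cj_zpowers, ← piPart_conj, zpowers_le] at hg
  have hx' := hx.conj g
  suffices ∃ c, c * (g * x * g⁻¹) * c⁻¹ ∈ H ⊔ R by
    obtain ⟨c, hc⟩ := this
    exact ⟨c * g, by convert hc using 1; group⟩
  generalize g * x * g⁻¹ = x at hg hx'
  set y := piPart {q} x
  have cy : Cop (zpowers y) N := cop.left (zpowers_le.2 hg)
  have h1 : Hall ρ (H ⊓ C(zpowers y)) (N ⊓ C(zpowers y)) :=
    hall_of_sylows (inf_le_inf_right _ hH.le) hH.pi.inf_left fun r hr h _ =>
      ⟨_, cy.sylow_inf_cent hr (hN.pcore_hall.trans_p hH h) (norm_pcore ((zpowers_le.2 hg).trans hRn)),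
        inf_le_inf_right _ pcore_le⟩
  have z1 : PiElt ρ (piPart {q}ᶜ x) := (PiNat.inter (piElt_piPart_of hx') piElt_piPart).sub (by
    rintro r ⟨rfl | h, h'⟩
    · exact (h' rfl).elim
    · exact h)
  obtain ⟨c, hc, e⟩ := H2.nil_hall_le_cj h1 (hN.of_le inf_le_left) (K := zpowers (piPart {q}ᶜ x))
    (zpowers_le.2 ⟨hn.mem_of_nml pcore_nml.norm (mem_top _) piElt_piPart, by
      rw [C_zpowers]; exact mem_C1.2 piPart_comm_piPart⟩) z1.zpowers
  have e1 := (mem_cj.1 (zpowers_le.1 e)).1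
  have e2 : c⁻¹ * y * c = y := by
    have := mem_C1.1 (C_zpowers (x := y) ▸ hc.2)
    rw [mul_assoc, ← this]; group
  refine ⟨c⁻¹, ?_⟩
  have : c⁻¹ * x * c⁻¹⁻¹ = (c⁻¹ * piPart {q}ᶜ x * c) * (c⁻¹ * y * c) := by
    conv_lhs => rw [← piPart_compl_mul (π := {q}) (x := x)]
    simp only [y]; group
  rw [this, e2]
  exact mul_mem_sup' e1 hg

theorem kpi_congr {ρ : Set ℕ} (h : ∀ r, r.Prime → r ∣ Nat.card G → (r ∈ π ↔ r ∈ ρ)) : kpi π G = kpi ρ G := by
  refine congrArg (fun s => (ConjClasses.mk '' s).ncard) (Set.ext fun x => ⟨fun hx r hr hd => ?_, fun hx r hr hd => ?_⟩)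
  · exact (h r hr (hd.trans (orderOf_dvd_natCard x))).1 (hx r hr hd)
  · exact (h r hr (hd.trans (orderOf_dvd_natCard x))).2 (hx r hr hd)

theorem nil_hall_aux (n : ℕ) : ∀ (σ : Finset ℕ), σ.card = n → (∀ r ∈ σ, r.Prime) → ∀ (G : Type u) [Group G] [Finite G]
    (p : ℕ), 2 ≤ p → (∀ r ∈ σ, p ≤ r) → ppart σ (Nat.card G) < p * kpi σ G → ∃ H : Subgroup G, Hall σ H ⊤ ∧ Nil H := by
  induction n using Nat.strong_induction_on with
  | _ n ih =>
  intro σ hn hσ G _ _ p h2 hp h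
  have ih' : ∀ q ∈ σ, ∀ K : Subgroup G, ppart (σ.erase q) (Nat.card G) < p * kpi (σ.erase q) K →
      ∃ H : Subgroup G, Hall (σ.erase q) H K ∧ Nil H := fun q hq K hK => by
    obtain ⟨H, h1, h2⟩ := ih _ (hn ▸ Finset.card_erase_lt_of_mem hq) (σ.erase q) rfl
      (fun r hr => hσ r (Finset.mem_of_mem_erase hr)) K p h2 (fun r hr => hp r (Finset.mem_of_mem_erase hr))
      ((Nat.le_of_dvd (ppart_pos fun r hr => hσ r (Finset.mem_of_mem_erase hr))
        (ppart_dvd (card_subgroup_dvd_card K) Nat.card_pos.ne')).trans_lt hK)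
    exact ⟨_, hall_map_subtype h1, nil_map_subtype h2⟩
  have ins : ∀ q ∈ σ, insert q ((σ.erase q : Finset ℕ) : Set ℕ) = σ := fun q hq => by
    rw [← Finset.coe_insert, Finset.insert_erase hq]
  by_cases c : ∃ q ∈ σ, PNil q (⊤ : Subgroup G)
  · obtain ⟨q, hq, hn⟩ := c
    have hq' := hσ q hq
    haveI := (pcore_nml (π := {q}ᶜ) (H := (⊤ : Subgroup G))).normal
    obtain ⟨R, hR⟩ := exists_sylow hq' (⊤ : Subgroup G)
    have h1 : kpi σ G ≤ kpi σ O[{q}ᶜ]((⊤ : Subgroup G)) * kpi σ (G ⧸ O[{q}ᶜ]((⊤ : Subgroup G))) :=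
      H22.pi_classes_le_mul _ _
    have h3 : kpi σ (G ⧸ O[{q}ᶜ]((⊤ : Subgroup G))) ≤ q ^ (Nat.card G).factorization q := by
      refine kcl_le.trans ((Set.ncard_le_card _).trans (le_of_eq ?_))
      rw [← card_top (G := G), ← Hall.card_eq_fact hq' hR, ← index, ← relIndex_top_right,
        hn.relIndex_eq_compl (by simpa using hR)]
    rw [kpi_congr (G := O[{q}ᶜ]((⊤ : Subgroup G))) (ρ := σ.erase q) fun r hr hd => by
      simpa using fun _ => pcore_pi r hr hd] at h1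
    obtain ⟨H, hH, hN⟩ := ih' q hq O[{q}ᶜ]((⊤ : Subgroup G)) (by
      rw [ppart_erase hq] at h
      refine Nat.lt_of_mul_lt_mul_left (a := q ^ (Nat.card G).factorization q) (h.trans_le ?_)
      calc _ ≤ p * (_ * _) := Nat.mul_le_mul_left _ (h1.trans (Nat.mul_le_mul_left _ h3))
        _ = _ := by ring)
    obtain ⟨L, hL, h4⟩ := kpi_caseB hq' hn (by simp) hH hN
    rw [ins q hq] at hL h4
    refine ⟨L, hL, (nil_of_classes h2 (fun r hr hd => hp r (hL.pi r hr hd)) ?_).2⟩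
    rw [card_eq_ppart hσ hL, card_top]
    exact h.trans_le (Nat.mul_le_mul_left _ h4)
  push Not at c
  have burn : ∀ q ∈ σ, ∀ Q : Subgroup G, Hall {q} Q ⊤ → ¬ N(Q) ≤ C(Q) := fun q hq Q hQ e =>
    c q hq (Burnside_normal_complement (hσ q hq) hQ (inf_le_right.trans e))
  rcases σ.eq_empty_or_nonempty with rfl | hne
  · exact ⟨⊥, hall_bot (by simpa using piNat_univ), inferInstance⟩
  obtain ⟨p', hp', hmin⟩ := σ.exists_min_image id hne
  obtain ⟨q, hq, hmax⟩ := σ.exists_max_image id hne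
  obtain ⟨Q, hQ⟩ := exists_sylow (hσ q hq) (⊤ : Subgroup G)
  by_cases e : p' = q
  · subst e
    exact ⟨Q, hQ.congr fun r _ _ => ⟨fun e => e ▸ hp', fun hr => le_antisymm (hmax r hr) (hmin r hr)⟩, hQ.pi.nil⟩
  have hμ : ∀ r ∈ σ.erase q, r.Prime := fun r hr => hσ r (Finset.mem_of_mem_erase hr)
  by_cases c1 : ppart (σ.erase q) (Nat.card G) < p * kpi (σ.erase q) C(Q)
  · obtain ⟨H, hH, hN⟩ := ih' q hq _ c1
    have h1 : Nat.card H = ppart (σ.erase q) (Nat.card G) := by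
      rw [card_eq_ppart hμ hH]
      obtain ⟨t, ht⟩ : ppart (σ.erase q) (Nat.card C(Q)) ∣ ppart (σ.erase q) (Nat.card G) :=
        ppart_dvd (card_subgroup_dvd_card _) Nat.card_pos.ne'
      have t0 : 0 < t := Nat.pos_of_mul_pos_left (ht ▸ ppart_pos hμ)
      have t1 : t < p := Nat.lt_of_mul_lt_mul_left (a := ppart (σ.erase q) (Nat.card C(Q))) (by
        rw [← ht, mul_comm]; exact c1.trans_le (Nat.mul_le_mul_left _ (kpi_le_ppart hμ)))
      by_contra c2
      have t2 : t ≠ 1 := by rintro rfl; exact c2 (by rw [ht, mul_one])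
      have := hp _ (Finset.mem_of_mem_erase (ppart_pi (n := Nat.card G) hμ _ (Nat.minFac_prime t2)
        ((Nat.minFac_dvd t).trans (ht ▸ dvd_mul_left _ _))))
      have := Nat.minFac_le t0
      omega
    refine ⟨H ⊔ Q, hall_of_ppart hσ le_top ?_, hN.sup_cent hQ.pi.nil hH.le⟩
    rw [card_sup_of_cent hH.le (PiGrp.inf_eq_bot' (hH.pi.p' (by simp)) hQ.pi), h1, Hall.card_eq_fact (hσ q hq) hQ, card_top,
      ppart_erase hq, mul_comm]
  exfalso
  have hpq : p' ∈ σ.erase q := Finset.mem_erase.2 ⟨e, hp'⟩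
  obtain ⟨P, hP⟩ := exists_sylow (hσ p' hp') (⊤ : Subgroup G)
  have h1 := kpi_caseA (hσ q hq) hQ (burn q hq Q hQ) (σ.erase q) (by simp)
  have h3 := mt (pnil_of_kpi (hσ p' hp') hP) (burn p' hp' P hP)
  have h4 : _ ≤ _ * ppart _ _ := kpi_le_kpi_mul (G := G) hμ p'
  rw [ins q hq] at h1
  rw [ppart_erase hq, ← card_top (G := G), ← Hall.card_eq_fact (hσ q hq) hQ, card_top] at h
  rw [ppart_erase hpq, ← card_top (G := G), ← Hall.card_eq_fact (hσ p' hp') hP, card_top] at h c1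
  have h5 : p ≤ p' := hp p' hp'
  have h6 : p' ≤ q := hmax p' hp'
  generalize kpi σ G = k at *
  generalize kpi (σ.erase q) C(Q) = kc at *
  generalize kpi (σ.erase q) G = km at *
  generalize kpi {p'} G = kp at *
  generalize ppart ((σ.erase q).erase p') (Nat.card G) = m at *
  generalize Nat.card Q = a at *
  generalize Nat.card P = b at *
  obtain ⟨s, rfl⟩ := Nat.exists_eq_add_of_le' (hσ q hq).one_le
  rw [not_lt] at c1 h3
  have e1 : 2 * (s + 1) * k ≤ a * (s * kc + 2 * km) := by nlinarith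
  have e2 : 2 * p * kp ≤ (s + 2) * b := by
    calc _ ≤ 2 * p' * kp := by gcongr
      _ ≤ _ := h3
      _ ≤ _ := Nat.mul_le_mul_right _ (by omega)
  have e3 : p * (s * kc + 2 * km) ≤ 2 * (s + 1) * (b * m) := by
    calc _ = s * (p * kc) + 2 * p * km := by ring
      _ ≤ s * (b * m) + 2 * p * (kp * m) := by gcongr
      _ = s * (b * m) + 2 * p * kp * m := by ring
      _ ≤ s * (b * m) + (s + 2) * b * m := by gcongr
      _ = _ := by ring
  have e4 : 2 * (s + 1) * (p * k) ≤ 2 * (s + 1) * (a * (b * m)) := by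
    calc _ = p * (2 * (s + 1) * k) := by ring
      _ ≤ p * (a * (s * kc + 2 * km)) := by gcongr
      _ = a * (p * (s * kc + 2 * km)) := by ring
      _ ≤ a * (2 * (s + 1) * (b * m)) := by gcongr
      _ = _ := by ring
  exact absurd (Nat.le_of_mul_le_mul_left e4 (by omega)) (not_le.2 h)

/-- many classes of `π`-elements give a nilpotent Hall `π`-subgroup with at least as many classes -/
theorem nil_hall_of_kpi (hπ : ∀ q ∈ π, q.Prime) (h2 : 2 ≤ p) (hmin : ∀ q ∈ π, p ≤ q) {m : ℕ} (hm : m ∣ Nat.card G)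
    (h1 : PiNat π m) (h3 : ∀ q ∈ π, ¬ q ∣ Nat.card G / m) (h : m < p * kpi π G) :
    ∃ H : Subgroup G, Nat.card H = m ∧ Nil H ∧ PiGrp π H ∧ kpi π G ≤ Nat.card (ConjClasses H) := by
  classical
  let σ := (Nat.card G).primeFactors.filter (· ∈ π)
  have e : ∀ r, r.Prime → r ∣ Nat.card G → (r ∈ π ↔ r ∈ (σ : Set ℕ)) := fun r hr hd => by
    simp [σ, hr, hd, Nat.card_pos.ne']
  have hσ : ∀ r ∈ σ, r.Prime := fun r hr => hπ r (Finset.mem_filter.1 hr).2
  have e1 : ppart σ (Nat.card G) = m := by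
    conv_lhs => rw [← Nat.mul_div_cancel' hm]
    exact ppart_eq hσ (by rw [Nat.mul_div_cancel' hm]; exact Nat.card_pos.ne')
      (fun r hr hd => (e r hr (hd.trans hm)).1 (h1 r hr hd)) fun r _ hd hr => h3 r (Finset.mem_filter.1 hr).2 hd
  obtain ⟨H, hH, hN⟩ := nil_hall_aux _ σ rfl hσ G p h2 (fun r hr => hmin r (Finset.mem_filter.1 hr).2)
    (by rwa [e1, ← kpi_congr e])
  have hH' : Hall π H ⊤ := hH.congr fun r hr hd => (e r hr (card_top (G := G) ▸ hd)).symm
  refine ⟨H, by rw [card_eq_ppart hσ hH, card_top, e1], hN, hH'.pi, ?_⟩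
  rw [kpi_eq_of_cover hH'.pi fun x hx => ?_]
  · exact kcl_le_card_classes
  obtain ⟨g, -, hg⟩ := H2.nil_hall_le_cj hH' hN le_top hx.zpowers
  exact ⟨g⁻¹, by simpa using mem_cj.1 (zpowers_le.1 hg)⟩

end H13
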