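import Cfsg.Agent.H13.SW2
import Cfsg.Agent.H25.PSLOut2
import Cfsg.Agent.H10.PSL2Sub
import Cfsg.Agent.H18.Prod
import Cfsg.Agent.S3178
/-! Perfect groups with cyclic odd Sylow subgroups and Sylow `2`-subgroups with a cyclic subgroup of index `≤ 2`, not
semidihedral, are `L₂(p)` or `SL₂(p)` (`perf`); structure of overgroups normalizing them (`cen_two`, `cen_hall`, `idx`). -/
set_option autoImplicit false
set_option linter.unusedSectionVars false
namespace H13.SW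
open Subgroup Cfsg H18
open H22 (V4 U1 ord2 sq1 ne1 DS CD)
open scoped commutatorElement MatrixGroups
universe u v
variable {G : Type u} [Group G] [Finite G] {A B H K L M P Q R S T X : Subgroup G} {a b c d g t u x : G} {r p : ℕ}

/-- `2`-subgroups have a cyclic subgroup of index at most `2` -/
def I2 (G : Type u) [Group G] : Prop := ∀ S : Subgroup G, PiGrp {2} S → ∃ y ∈ S, (zpowers y).relIndex S ∣ 2

theorem OC.comap {H : Type v} [Group H] [Finite H] (h : OC G) (f : H →* G) (hf : ∀ x, f x = 1 → x * x = 1) : OC H :=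
  fun p P hp h2 hP => by
  have c := h p (P.map f) hp h2 (hP.of_dvd (card_map_dvd P f))
  have i : Function.Injective (f.subgroupMap P) := (injective_iff_map_eq_one _).2 fun x e => Subtype.ext
    (H22.eq_one_of_sq_odd (hf _ congr(($e).1)) (PiNat.p'_of_ne (hP.elt x.2) h2))
  exact isCyclic_of_injective _ i

theorem OC.map {H : Type v} [Group H] [Finite H] (h : OC G) (f : G →* H) (hf : Function.Surjective f) : OC H :=
  fun p P hp h2 hP => by
  obtain ⟨Q, hQ⟩ := exists_sylow hp (P.comap f)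
  have := H22.hall_map hQ f
  rw [map_comap_eq_self_of_surjective hf] at this
  have c := h p Q hp h2 hQ.pi
  rw [← this.eq_self hP]
  exact isCyclic_of_surjective _ (f.subgroupMap_surjective Q)

theorem I2.comap {H : Type v} [Group H] [Finite H] (h : I2 G) (f : H →* G) (hf : Function.Injective f) : I2 H :=
  fun S hS => by
  obtain ⟨_, ⟨y, hy, rfl⟩, e⟩ := h (S.map f) (hS.of_dvd (card_map_dvd S f))
  exact ⟨y, hy, by rwa [← MonoidHom.map_zpowers, relIndex_map_map_of_injective _ _ hf] at e⟩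

theorem i2_of (h : Hall {2} S ⊤) (hx : x ∈ S) (i : (zpowers x).relIndex S ∣ 2) : I2 G := fun Q hQ => by
  obtain ⟨g, -, hg⟩ := sylow_le_cj' Nat.prime_two h hQ le_top
  have n : zpowers x ⊴ S := by
    rcases (Nat.dvd_prime Nat.prime_two).1 i with i | i
    · exact ⟨zpowers_le.2 hx, le_norm (relIndex_eq_one_iff.1 i)⟩
    · exact h.pi.nml_of_relIndex Nat.prime_two (zpowers_le.2 hx) i
  obtain ⟨y, hy⟩ := ((cyc_zpowers (x := x).cj g).of_le (inf_le_left : cj g (zpowers x) ⊓ Q ≤ _)).gen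
  refine ⟨y, (mem_inf.1 (hy.le (mem_zpowers y))).2, ?_⟩
  rw [hy, relIndex_inf_right]
  exact ((n.cj g).relIndex_dvd hg).trans (relIndex_cj.dvd.trans i)

theorem OC.solv (h : OC G) (hS : Hall {2} S H) (k : Hall {2}ᶜ O[{2}ᶜ](H) H) : Solv H :=
  hS.sup_compl k ▸ hS.pi.solv.sup_norm (h.zgrp k.pi).solv (hS.le.trans pcore_nml.norm)

theorem OC.ncyc (h : OC G) (hS : Hall {2} S H) (ns : ¬ Solv H) : ¬ Cyc S := fun c =>
  ns (h.solv hS (cyclic_pdiv_normal_complement Nat.prime_two hS c fun _ hq _ => hq.two_le))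

theorem syl_cases (h : OC G) (i : I2 G) (hS : Hall {2} S H) (ns : ¬ Solv H) :
    (Nat.card S = 4 ∧ CD S) ∨ ∃ k x, H9.MC S k x := by
  have nc := h.ncyc hS ns
  obtain ⟨y, hy, e⟩ := i S hS.pi
  have yS := zpowers_le.2 hy
  have e := ((Nat.dvd_prime Nat.prime_two).1 e).resolve_left fun e =>
    nc (cyc_zpowers.of_le (relIndex_eq_one_iff.1 e))
  by_cases ab : Abel S
  swap
  · obtain ⟨k, x, -, j | ⟨b, j⟩⟩ := H9.mc_or_mod_of_cyclic hS.pi.isPGroup cyc_zpowers yS e fun j => ab (abel_iff.2 j)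
    · exact .inr ⟨k, x, j⟩
    obtain ⟨P, rfl⟩ := hS.exists_sylow Nat.prime_two
    obtain ⟨x, hx, rfl⟩ := j.xmem
    obtain ⟨b, hb, rfl⟩ := j.bmem
    exact (ns (h.solv hS ((hasNormalPComplement_iff Nat.prime_two).1 (Cfsg.Agent.S3178.result P (k + 2) (by have := j.pos; omega)
      (card_map_subtype.symm.trans j.card_eq) x b hx hb ((orderOf_coe _).symm.trans j.ordx) ((orderOf_coe _).symm.trans j.orderOf_b)
      (Subtype.ext (j.act.trans (pow_succ' _ _).symm)))))).elim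
  by_cases sq : ∀ g ∈ S, g * g = 1
  · refine .inl ⟨?_, y, hy, fun g hg j => ⟨sq g hg, fun g' hg' j' => H9.mul_mem_of_relIndex_two e hg hg' j j'⟩⟩
    have := card_mul_relIndex yS
    rw [e, card_zpowers'] at this
    rcases eq_or_ne y 1 with rfl | y1
    · exact (nc (cyc_of_prime (by rw [← this, orderOf_one]; exact Nat.prime_two))).elim
    · rw [← this, ord2.2 ⟨sq y hy, y1⟩]
  push Not at sq
  obtain ⟨g, hg, g1⟩ := sq
  have sy : ∀ g ∈ S, g * g ∈ zpowers y := fun g hg => by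
    by_cases j : g ∈ zpowers y
    exacts [mul_mem j j, H9.mul_mem_of_relIndex_two e hg hg j j]
  obtain ⟨s, hs, s2⟩ := exists_ord Nat.prime_two (card_zpowers' (G := G) ▸ (hS.pi.of_le (zpowers_le.2 (mul_mem hg hg))).dvd_card
    (by simpa using g1))
  have un : ∀ a ∈ zpowers y, a * a = 1 → a ∈ zpowers s := fun a ha j => cyc_zpowers.mem_of_pow
    (zpowers_le.2 (zpowers_le.2 (sy g hg) hs)) ha (by rw [card_zpowers', s2, sq, j])
  refine (ns (h.solv hS (Burnside_normal_complement Nat.prime_two hS fun n hn => mem_of_parts (π := {2}) (ab ?_) ?_))).elim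
  · exact (hS.of_le (le_inf hS.le le_N) inf_le_left).mem_of_nml inf_le_right (piPart_mem hn) piElt_piPart
  have hn' := zpowers_le.2 (piPart_mem (π := {2}ᶜ) hn).2
  have o := (piElt_piPart (π := {2}ᶜ) (x := n)).zpowers
  generalize piPart {2}ᶜ n = m at hn' o
  rw [← zpowers_le]
  have sS := zpowers_le.2 (mul_mem hg hg) hs
  have fs : s ∈ C(zpowers m) := mem_C.2 fun m hm => by
    have k : m * s * m⁻¹ ∈ zpowers y := by
      refine zpowers_le.2 (sy _ (conj_mem hn' hm hg)) ?_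
      rw [conj_mul, ← cj_zpowers]; exact conj_mem_cj hs
    exact mul_inv_eq_iff_eq_mul.1 (((H22.mem_zp_sq (sq1 s2)).1 (un _ k (sq1 (H22.ord2_conj s2 m)))).resolve_left
      fun j => ne1 s2 (conj_eq_one_iff'.1 j))
  have := ab.comm
  refine H1.le_centralizer_of_prime_order hn' (o.coprime' hS.pi) fun a ha ap => ?_
  have a2 := (hS.pi.elt ha).eq_of_dvd ap dvd_rfl
  by_cases as : a = s
  · exact as ▸ mem_C.1 fs
  have k : K4 s a := ⟨s2, a2, cent_iff.1 ab _ sS _ ha, as⟩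
  have m : ∀ b ∈ S, b * b = 1 → b ∈ V4 s a := fun b hb bb => by
    by_cases j : b ∈ zpowers y
    · exact mem_sup_left (un b j bb)
    have ay : a ∉ zpowers y := fun j => as (((H22.mem_zp_sq (sq1 s2)).1 (un a j (sq1 a2))).resolve_left (ne1 a2))
    exact (mul_mem_cancel_right H22.right_mem_V4).1 (mem_sup_left (un _ (H9.mul_mem_of_relIndex_two e hb ha j ay)
      (H22.sq_mul bb (sq1 a2) (cent_iff.1 ab _ hb _ ha))))
  exact fun b hb => (mem_C.1 (k.fix o (norm_iff.2 fun b hb c hc => m _ (conj_mem hn' hb (H22.V4_le sS ha hc))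
    (by rw [conj_mul, k.sq hc]; simp)) (ne_bot_of_mem ⟨H22.left_mem_V4, fs⟩ (ne1 s2)) hb) a H22.right_mem_V4).symm

theorem OC.cen_odd (h : OC G) (hL : ⁅L, L⁆ = L) (hr : r.Prime) (h2 : r ≠ 2) (ha : orderOf a = r) (h1 : a ∈ L) : a ∉ C(L) := fun c => by
  obtain ⟨P, hP, k⟩ := exists_sylow_le hr (pi_zp hr ha) (zpowers_le.2 h1)
  have := (h.ncomp hr h2 ha h1 (inf_le_left.trans (le_C1_iff.2 c))).der_inf_eq_bot hP (h r P hr h2 hP.pi).abel
  rw [hL, inf_eq_left.2 hP.le] at this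
  rw [eq_one_of_eq_bot this (k (mem_zpowers a)), orderOf_one] at ha
  exact hr.one_lt.ne ha

theorem not_oc_A7 : ¬ OC (alternatingGroup (Fin 7)) := fun h => by
  obtain ⟨P, hP, c⟩ := exists_sub_card_pow (H := (⊤ : Subgroup (alternatingGroup (Fin 7)))) (n := 2) Nat.prime_three (by
    have := two_mul_nat_card_alternatingGroup (α := Fin 7)
    rw [Nat.card_perm, Nat.card_fin, show Nat.factorial 7 = 5040 from rfl] at this
    rw [card_top]; omega)
  obtain ⟨x, rfl⟩ := (h 3 P Nat.prime_three (by norm_num) (piGrp_of_card_pow Nat.prime_three c)).gen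
  rw [card_zpowers', ← orderOf_coe, ← Equiv.Perm.lcm_cycleType] at c
  have : (x : Equiv.Perm (Fin 7)).cycleType.lcm ∣ 420 := Multiset.lcm_dvd.2 fun n hn => by
    have h1 := (Equiv.Perm.le_card_support_of_mem_cycleType hn).trans (Finset.card_le_univ _)
    have h2 := Equiv.Perm.two_le_of_mem_cycleType hn
    rw [Fintype.card_fin] at h1
    interval_cases n <;> norm_num
  rw [c] at this; norm_num at this

theorem prime_of_oc {F : Type} [Field F] [Fintype F] (h : OC SL(2, F)) (o : Odd (Fintype.card F)) (h3 : 3 < Fintype.card F) :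
    ∃ (p : ℕ) (_ : Fact p.Prime), 5 ≤ p ∧ Nonempty (F ≃+* ZMod p) := by
  obtain ⟨p, _, n, hp, c⟩ := FiniteField.card' F
  have := Fact.mk hp
  have p2 : p ≠ 2 := by rintro rfl; rw [c] at o; exact absurd (Nat.odd_pow_iff n.ne_zero |>.1 o) (by decide)
  have k : ∀ b : F, b ≠ 0 → orderOf (H10.slMk 1 b 0 1 (by simp)) = p := fun b hb => orderOf_eq_prime
    (by rw [H10.slMk_upper_pow, ← H10.slMk_one, H10.slMk_inj]; simp) fun e => hb (by
      rw [← H10.slMk_one, H10.slMk_inj] at e; exact e.2.1)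
  have s : Function.Surjective (ZMod.castHom dvd_rfl F : ZMod p →+* F) := fun b => by
    rcases eq_or_ne b 0 with rfl | hb
    · exact ⟨0, map_zero _⟩
    obtain ⟨m, hm⟩ := (mem_powers_iff_mem_zpowers.2 ((h.same hp p2 (k b hb) (k 1 one_ne_zero) (by
      rw [H10.slMk_mul, H10.slMk_mul, H10.slMk_inj]; simp [add_comm])).le (mem_zpowers _)))
    simp only [H10.slMk_upper_pow, H10.slMk_inj] at hm
    exact ⟨m, by simpa using hm.2.1⟩
  let e := RingEquiv.ofBijective _ ⟨(ZMod.castHom dvd_rfl F).injective, s⟩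
  have c' : Fintype.card F = p := by rw [← Fintype.card_congr e.toEquiv, ZMod.card]
  refine ⟨p, this, ?_, ⟨e.symm⟩⟩
  rw [c'] at o h3
  rw [Nat.odd_iff] at o; omega

theorem perf (h : OC G) (i : I2 G) (hp : ⁅(⊤ : Subgroup G), (⊤ : Subgroup G)⁆ = ⊤) (ns : ¬ Solv (⊤ : Subgroup G))
    (q : ∀ S : Sylow 2 G, ¬ IsQuasiDihedral S) :
    ∃ (p : ℕ) (_ : Fact p.Prime), 5 ≤ p ∧ (Nonempty (G ≃* PSL(2, ZMod p)) ∨ Nonempty (G ≃* SL(2, ZMod p))) := by
  have : Group.IsPerfect G := ⟨hp⟩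
  have : Nontrivial G := by
    by_contra j; rw [not_nontrivial_iff_subsingleton] at j; exact ns (Subsingleton.elim ⊥ (⊤ : Subgroup G) ▸ solv_bot)
  have o : oddCore G = ⊥ := by_contra fun j => by
    obtain ⟨a, ha, ap⟩ := exists_prime_order j
    have od : PiGrp {2}ᶜ (oddCore G) := H22.odd_iff.2 H9.odd_card_pPrimeCore
    exact h.cen_odd hp ap (od.elt ha _ ap dvd_rfl) rfl trivial (cent_symm (zperf (h.zgrp od) norm_of_normal hp) ha)
  let e : G ⧸ oddCore G ≃* G := (QuotientGroup.quotientMulEquivOfEq o).trans QuotientGroup.quotientBot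
  obtain ⟨S⟩ : Nonempty (Sylow 2 G) := inferInstance
  have hS := hall_sylow_top Nat.prime_two S
  have d : CD (S : Subgroup G) → ∃ (p : ℕ) (_ : Fact p.Prime), 5 ≤ p ∧ (Nonempty (G ≃* PSL(2, ZMod p)) ∨
      Nonempty (G ≃* SL(2, ZMod p))) := fun c => by
    rcases H22.gw_quot (H22.ds_of_sylow hS c) with ⟨F, _, _, o, h3, ⟨f⟩⟩ | ⟨⟨f⟩⟩
    · obtain ⟨p, _, h5, ⟨r⟩⟩ := prime_of_oc ((h.map (e.symm.trans f).toMonoidHom (e.symm.trans f).surjective).comap
        (QuotientGroup.mk' _) fun x hx => by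
          obtain ⟨r, h1, h2⟩ := Matrix.SpecialLinearGroup.mem_center_iff.1 ((QuotientGroup.eq_one_iff _).1 hx)
          refine Subtype.ext ?_
          change x.1 * x.1 = 1
          rw [Fintype.card_fin] at h1
          rw [← h2, ← map_mul, ← sq, h1, map_one]) o h3
      exact ⟨p, ‹_›, h5, .inl ⟨(e.symm.trans f).trans (H10.PSL2_congr r).some⟩⟩
    · exact (not_oc_A7 (h.map (e.symm.trans f).toMonoidHom (e.symm.trans f).surjective)).elim
  rcases syl_cases h i hS ns with ⟨-, c⟩ | ⟨k, x, m⟩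
  · exact d c
  rcases m.cases with j | j | ⟨j, j'⟩
  · exact d ⟨x, m.xmem, fun g hg g' => ⟨j g hg g', fun a ha a' => m.mul_mem_out hg ha g' a'⟩⟩
  swap
  · exact (q S (m.isQuasiDihedral j j')).elim
  have u : U1 (⊤ : Subgroup G) := u1_of fun s _ t _ k => by
    obtain ⟨g, -, hg⟩ := sylow_le_cj Nat.prime_two hS k.pi le_top
    have z : ∀ a ∈ (S : Subgroup G), orderOf a = 2 → a = x ^ 2 ^ (_ + 1) := fun a ha a2 =>
      m.eq_u (by_contra fun i => m.u_ne_one ((j a ha i).symm.trans (sq1 a2))) a2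
    exact (k.cj g).ne ((z _ (hg (conj_mem_cj H22.right_mem_V4)) (k.cj g).hu).trans
      (z _ (hg (conj_mem_cj H22.left_mem_V4)) (k.cj g).ht).symm)
  rcases H22.gw_rank_one u (m.orderOf_u ▸ orderOf_dvd_natCard _) with ⟨F, _, _, o, h3, ⟨f⟩⟩ | ⟨-, ⟨f⟩, -⟩
  · obtain ⟨p, _, h5, ⟨r⟩⟩ := prime_of_oc (h.map (e.symm.trans f).toMonoidHom (e.symm.trans f).surjective) o h3
    exact ⟨p, ‹_›, h5, .inr ⟨(e.symm.trans f).trans (MonoidHom.toMulEquiv (Matrix.SpecialLinearGroup.map r.toRingHom)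
      (Matrix.SpecialLinearGroup.map r.symm.toRingHom) (by ext a i j; simp) (by ext a i j; simp))⟩⟩
  · exact (not_oc_A7 (((h.map _ (QuotientGroup.mk'_surjective _)).map _ (QuotientGroup.mk'_surjective _)).map f.toMonoidHom
      f.surjective)).elim

theorem cen_two (h : OC G) (i : I2 G) (ns : ¬ Solv L) (hc : c ∈ C(L)) (c2 : PiElt {2} c) : c ∈ L := by
  have n : zpowers c ≤ N(L) := zpowers_le.2 (C_le_N hc)
  obtain ⟨Q, hQ, k⟩ := exists_sylow_le Nat.prime_two c2.zpowers (le_sup_right : _ ≤ L ⊔ zpowers c)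
  have cQ := k (mem_zpowers c)
  have z : L ⊔ zpowers c ≤ C1(c) := sup_le (le_C1_iff.2 hc) (zpowers_le.2 C1_self)
  rcases syl_cases h i hQ (fun s => ns (s.of_le le_sup_left)) with ⟨c4, -⟩ | ⟨k, x, m⟩
  · rcases syl_cases h i (hQ.inf_nml (nml_sup_left n)) ns with ⟨j, -⟩ | ⟨k, x, m⟩
    · exact ((eq_of_card_eq inf_le_left (j.trans c4.symm)).ge cQ).2
    · have := card_le (inf_le_left : Q ⊓ L ≤ Q)
      rw [m.card_eq, c4, pow_add] at this
      have := Nat.two_pow_pos k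
      omega
  · rcases m.center_cases cQ fun g hg => mem_C1.1 (z (hQ.le hg)) with j | j
    · exact j ▸ one_mem _
    · have := (der_mono hQ.le).trans (der_sup_le n)
      rw [abel_zpowers.der, sup_bot_eq, m.commutator_eq] at this
      exact j ▸ this m.u_mem_sq

theorem cen_hall (h : OC G) (i : I2 G) (ns : ¬ Solv L) (hM : L ⊴ M) :
    Hall {2}ᶜ O[{2}ᶜ](M ⊓ C(L)) (M ⊓ C(L)) ∧ M ⊓ C(L) ≤ L ⊔ O[{2}ᶜ](M ⊓ C(L)) := by
  obtain ⟨S, hS⟩ := exists_sylow Nat.prime_two (M ⊓ C(L))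
  have k : S ≤ L := fun s hs => cen_two h i ns (hS.le hs).2 (hS.pi.elt hs)
  have b := Burnside_normal_complement Nat.prime_two hS (inf_le_left.trans (inf_le_right.trans (C_anti k)))
  exact ⟨b, (hS.sup_compl b).ge.trans (sup_le_sup_right k _)⟩

theorem cen_cop (h : OC G) (hL : ⁅L, L⁆ = L) (hX : PiGrp {2}ᶜ X) (c : X ≤ C(L)) : (Nat.card X).Coprime (Nat.card L) :=
  Nat.Coprime.symm (Nat.coprime_of_dvd fun r hr h1 h2 => by
    obtain ⟨a, ha, e⟩ := cauchy hr h1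
    obtain ⟨b, hb, e'⟩ := cauchy hr h2
    exact h.cen_odd hL hr (hX r hr h2) e ha (zpowers_le.2 (c hb)
      ((h.same hr (hX r hr h2) e e' (mem_C.1 (c hb) a ha)).le (mem_zpowers a))))

theorem idx_of (hM : K ≤ M) (h : ∀ a ∈ M, ∀ b ∈ M, a ∉ K → b ∉ K → a * b ∈ K) : K.relIndex M ∣ 2 := by
  by_cases j : M ≤ K
  · rw [relIndex_eq_one_iff.2 j]; exact one_dvd _
  obtain ⟨y, hy, y'⟩ := SetLike.not_le_iff_exists.1 j
  exact (H9.relIndex_eq_two_of hy y' fun g hg => or_iff_not_imp_left.2 fun g' =>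
    h g hg _ (inv_mem hy) g' fun k => y' (inv_mem_iff.1 k)).dvd

variable [Fact p.Prime]

theorem idx_sl (e : L ≃* SL(2, ZMod p)) (h5 : 5 ≤ p) (ha : a ∈ N(L)) (hb : b ∈ N(L)) (h1 : a ∉ L ⊔ C(L)) (h2 : b ∉ L ⊔ C(L)) :
    a * b ∈ L ⊔ C(L) := by
  have k : ∀ {c A}, Rm e c A → IsSquare A.det → c ∈ L ⊔ C(L) := fun {c A} r ⟨s, hs⟩ => by
    have s0 : s ≠ 0 := fun j => r.2.1.ne_zero (by rw [hs, j, mul_zero])
    obtain ⟨l, hl⟩ := e.surjective ⟨s⁻¹ • A, by rw [Matrix.det_smul, hs]; simp; field_simp⟩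
    have : mt e l = s⁻¹ • A := congr(($hl).1)
    have := ((rm_self (e := e) l⁻¹).mul r).cent (s := s) (by
      rw [← smul_inv_smul₀ s0 A, ← this, mul_smul_comm, ← map_mul, inv_mul_cancel, map_one])
    exact (mul_mem_cancel_left (mem_sup_left (l⁻¹).2)).1 (mem_sup_right this)
  obtain ⟨A, hA⟩ := exists_rm e h5 ha
  obtain ⟨B, hB⟩ := exists_rm e h5 hb
  refine k (hA.mul hB) ?_
  have := quadraticChar_neg_one_iff_not_isSquare.2 fun j => h1 (k hA j)
  have := quadraticChar_neg_one_iff_not_isSquare.2 fun j => h2 (k hB j)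
  rw [← quadraticChar_one_iff_isSquare (hA.mul hB).2.1.ne_zero, Matrix.det_mul, map_mul]; simp [*]

theorem psl_z (e : L ≃* PSL(2, ZMod p)) (h5 : 5 ≤ p) (ns : ¬ Solv L) : C(L) ⊓ L = ⊥ := by
  have s : IsSimpleGroup PSL(2, ZMod p) := H10.PSL_isSimpleGroup_of_perfect (F := ZMod p) (perf_sl h5)
  have s' : IsSimpleGroup L := e.isSimpleGroup
  have z0 : center L = ⊥ := (inferInstance : (center L).Normal).eq_bot_or_eq_top.resolve_right fun j =>
    ns (Abel.solv (cent_iff.2 fun a ha b hb => congrArg Subtype.val (mem_center_iff.1 (j.ge (mem_top (⟨b, hb⟩ : L))) ⟨a, ha⟩)))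
  exact eq_bot_iff.2 fun a ha => congr(($(mem_bot.1 (z0.le (mem_center_iff.2 fun g =>
    Subtype.ext (mem_C.1 ha.1 g g.2) : (⟨a, ha.2⟩ : L) ∈ _)))).1)

theorem idx (h : OC G) (i : I2 G) (h5 : 5 ≤ p) (ns : ¬ Solv L) (hM : L ⊴ M)
    (e : Nonempty (L ≃* PSL(2, ZMod p)) ∨ Nonempty (L ≃* SL(2, ZMod p))) : (L ⊔ O[{2}ᶜ](M ⊓ C(L))).relIndex M ∣ 2 := by
  have k := (cen_hall h i ns hM).2
  have le : L ⊔ O[{2}ᶜ](M ⊓ C(L)) ≤ M := sup_le hM.le (pcore_le.trans inf_le_left)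
  have eq : L ⊔ O[{2}ᶜ](M ⊓ C(L)) = M ⊓ (L ⊔ C(L)) := by
    rw [Nrm2.modular_left (.inr C_le_N) hM.le]
    exact le_antisymm (sup_le_sup_left pcore_le _) (sup_le le_sup_left k)
  obtain ⟨⟨e⟩⟩ | ⟨⟨e⟩⟩ := e
  · have d := relIndex_C_dvd_card_aut hM.norm
    have c := H10.card_PSL2 (F := ZMod p)
    have z := psl_z e h5 ns
    rw [Nat.card_congr (MulAut.congr e).toEquiv, H25.card_aut_PSL_two (Fintype.card_fin 2), H10.card_PGL2, ← c,
      H25.card_ringAut (p := p) (f := 1) (by simp), one_mul, ← Nat.card_congr e.toEquiv, ← relIndex_inf_left,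
      ← relIndex_tower k le] at d
    have r : (M ⊓ C(L)).relIndex (L ⊔ O[{2}ᶜ](M ⊓ C(L))) = Nat.card L := by
      rw [show L ⊔ O[{2}ᶜ](M ⊓ C(L)) = L ⊔ M ⊓ C(L) from le_antisymm (sup_le_sup_left pcore_le _) (sup_le le_sup_left k),
        relIndex_sup_of_norm (hM.le.trans hM.cent.norm), ← relIndex_inf_right, inf_assoc, z, inf_bot_eq, relIndex_bot_left]
    rw [r, mul_comm] at d
    exact (Nat.dvd_of_mul_dvd_mul_right card_pos' d).trans (Nat.gcd_dvd_left _ _)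
  · exact idx_of le fun a ha b hb h1 h2 => eq ▸ ⟨mul_mem ha hb, idx_sl e h5 (hM.norm ha) (hM.norm hb)
      (fun j => h1 (eq ▸ ⟨ha, j⟩)) fun j => h2 (eq ▸ ⟨hb, j⟩)⟩

end H13.SW
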