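import Cfsg.Agent.H13.SW3
import Cfsg.Agent.H22.Loc
/-! Simple groups with semidihedral Sylow `2`-subgroups and cyclic odd Sylow subgroups: the setting `St`, the solvable case
(`St.nsolv`), the normalizer of a four-group (`St.three`). -/
set_option autoImplicit false
set_option linter.unusedSectionVars false
namespace H13.SW
open Subgroup Cfsg H18
open H1 (Cop cop_of_pi)
open H22 (V4 U1 ord2 sq1 ne1 QD)
open scoped commutatorElement MatrixGroups
universe u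
variable {G : Type u} [Group G] [Finite G] {A B H K L M P Q R T X : Subgroup G} {a b c d g y u x : G} {r p k : ℕ}
  {S : Sylow 2 G}

/-- the minimal situation -/
structure St (S : Sylow 2 G) (k : ℕ) (y u : G) : Prop where
  qd : QD S k y u
  oc : OC G
  simple : IsSimpleGroup G
  nc : ¬ IsMulCommutative G
  ih : ∀ B : Subgroup G, B ≠ ⊤ → ∀ P : Sylow 2 B, IsQuasiDihedral P → ∃ K : Subgroup B, K.index = 2

namespace St
variable (h : St S k y u)
include h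
local notation "t" => y ^ 2 ^ (k + 1 + 1)
local notation "v" => y ^ 2 ^ (k + 1)
local notation "T" => V4 t u
local notation "D" => O[{2}ᶜ](C(T))

theorem syl : Hall {2} (S : Subgroup G) ⊤ := hall_sylow_top Nat.prime_two S
theorem i2 : I2 G := i2_of h.syl h.qd.mc.xmem h.qd.mc.idx.dvd
theorem t2 : orderOf t = 2 := h.qd.mc.orderOf_u
theorem SC : (S : Subgroup G) ≤ C1(t) := fun _ hs => mem_C1.2 (h.qd.mc.commute_u hs)
theorem k4 : K4 t u := ⟨h.t2, h.qd.ord_y, (mem_C1.1 (h.SC h.qd.hy)).symm, fun e => h.qd.out (e ▸ h.qd.mc.u_mem_x)⟩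
theorem TS : T ≤ S := H22.V4_le h.qd.mc.umem h.qd.hy
theorem no2 (K : Subgroup G) : K.index ≠ 2 := have := h.simple; H22.simple_no2 h.nc K
theorem one (ha : orderOf a = 2) : ∃ g, g * t * g⁻¹ = a := isConj_iff.1 (h.qd.one2 (h.qd.of_no2 h.no2).1 a ha)
theorem uv : u * v * u⁻¹ = v⁻¹ := h.qd.mc.inverts_sq h.qd.hy h.qd.out h.qd.f_sq

theorem C1_ne (hd : d ≠ 1) : C1(d) ≠ ⊤ := fun e => by
  have := h.simple
  rcases (inferInstance : (center G).Normal).eq_bot_or_eq_top with j | j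
  · exact hd (mem_bot.1 (j.le (mem_center_iff.2 fun g => mem_C1.1 (e.ge (mem_top g)))))
  · exact h.nc ⟨⟨fun a b => mem_center_iff.1 (j.ge (mem_top b)) a⟩⟩

theorem four_in (j : K4 a b) (i : V4 a b ≤ S) : ∃ g ∈ (S : Subgroup G), cj g T = V4 a b ∧ (S : Subgroup G) ⊓ C(V4 a b) ≤ V4 a b := by
  obtain ⟨g, hg, g1, gy⟩ : ∃ g ∈ V4 a b, g ≠ 1 ∧ g ∉ zpowers y := by
    by_contra! e
    exact j.ne ((h.qd.mc.eq_u (e _ H22.right_mem_V4 (ne1 j.hu)) j.hu).trans (h.qd.mc.eq_u (e _ H22.left_mem_V4 (ne1 j.ht)) j.ht).symm)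
  obtain ⟨s, hs, rfl⟩ := h.qd.conj_y (i hg) gy (j.sq hg)
  have e := conj_eq_self_of_C1 (h.SC hs)
  have k4 := h.k4.cj s
  have m : (S : Subgroup G) ⊓ C(V4 a b) ≤ cj s T := fun c hc => by
    rw [H22.cj_V4, k4.mem, e]; exact h.qd.mc.cent_out (i hg) gy hc.1 (mem_C.1 hc.2 _ hg).symm
  have := (eq_of_card_eq ((le_inf i j.abel).trans m) (by rw [card_cj, j.card, h.k4.card])).symm
  exact ⟨s, hs, this, this ▸ this.symm ▸ m⟩

theorem q1 : Q1 G := fun a b j c hc c2 => by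
  obtain ⟨g, -, hg⟩ := sylow_le_cj Nat.prime_two h.syl (c2.zpowers.sup_norm j.pi (zpowers_le.2 (C_le_N hc))) le_top
  obtain ⟨-, -, -, m⟩ := h.four_in (j.cj g) (H22.cj_V4 (G := G) ▸ (cj_mono le_sup_right).trans hg)
  rw [← H22.cj_V4, ← cj_C] at m
  exact conj_mem_cj_iff.1 (m ⟨hg (conj_mem_cj (mem_sup_left (mem_zpowers c))), conj_mem_cj hc⟩)

theorem conj4 (j : K4 a b) : ∃ g, cj g (V4 a b) = T := by
  obtain ⟨g, -, hg⟩ := sylow_le_cj Nat.prime_two h.syl j.pi le_top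
  obtain ⟨s, -, e, -⟩ := h.four_in (j.cj g) (H22.cj_V4 (G := G) ▸ hg)
  exact ⟨s⁻¹ * g, by rw [cj_mul, H22.cj_V4, ← e, cj_inv_cj]⟩

theorem six : C(T).relIndex N(T) = 6 :=
  have : Nontrivial T := (nontrivial_iff_ne_bot _).2 (ne_bot_of_mem H22.left_mem_V4 (ne1 h.t2))
  ((h.qd.idx_t ⟨h.k4.card, (Monoid.exponent_eq_prime_iff Nat.prime_two (G := T)).2 fun g g1 =>
      (orderOf_coe g).symm.trans (ord2.2 ⟨h.k4.sq g.2, fun e => g1 (Subtype.ext e)⟩)⟩ h.TS).resolve_left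
    fun j => j.2 (h.qd.of_no2 h.no2).1).1

theorem four (ha : orderOf a = 2) (hb : orderOf b = 4) (e : a * b = b * a) : a = b * b := by_contra fun j => by
  have o : orderOf (b * b) = 2 := by rw [← sq, orderOf_pow_of_dvd two_ne_zero (by rw [hb]; norm_num), hb]
  have k4 : K4 (b * b) a := ⟨o, ha, ((Commute.mul_right e e).eq).symm, j⟩
  have := k4.sq (h.q1 _ _ k4 b (by rw [H22.C_V4]; exact ⟨mem_C1.2 (mul_assoc _ _ _).symm, mem_C1.2 e.symm⟩)
    (by rw [PiElt, hb]; exact piNat_pow_self Nat.prime_two 2))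
  exact ne1 o this

theorem nder (hB : B ≠ ⊤) (hS : (S : Subgroup G) ≤ B) : ¬ (S : Subgroup G) ≤ ⁅B, B⁆ := fun e => by
  obtain ⟨P, hP⟩ := (h.syl.of_le hS le_top).exists_sylow Nat.prime_two
  obtain ⟨K, hK⟩ := h.ih B hB P (H9.isQuasiDihedral_of_equiv ((MulEquiv.subgroupCongr hP.symm).trans
    (equivMapOfInjective _ _ B.subtype_injective).symm) h.qd.isQD)
  have i : (K.map B.subtype).relIndex B = 2 := by
    rw [relIndex, subgroupOf, comap_map_eq_self_of_injective B.subtype_injective]; exact hK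
  have n : K.map B.subtype ⊴ B := nml_map_subtype (hX := normal_of_index_eq_two hK)
  have := (cyc_quo_of_prime n.norm (i ▸ Nat.prime_two)).abel
  exact (h.syl.of_le hS le_top).idx_of_le (e.trans ((abel_quo_iff n.norm).1 this)) 2 Nat.prime_two i.symm.dvd rfl

theorem nsolv : ¬ Solv C1(t) := fun s => by
  have := h.simple
  have := Fintype.ofFinite G
  obtain ⟨π, c⟩ := H22.cz_sd h.qd h.no2
  obtain ⟨k0, k1⟩ := c.sd_main
  have inj := π.ker_eq_bot_iff.1 k0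
  have cd : Nat.card C1(t) = 48 := (Nat.card_eq_of_bijective π ⟨inj, c.surj⟩).trans (Nat.card_eq_fintype_card.trans rfl)
  obtain ⟨a, ha, a3⟩ := cauchy Nat.prime_three (cd ▸ (by norm_num : 3 ∣ 48))
  obtain ⟨P, hP, aP⟩ := exists_sylow_le Nat.prime_three (pi_zp Nat.prime_three a3) le_top
  have PB : P ≤ C1(a) := C_zpowers (G := G) ▸ (h.oc 3 P Nat.prime_three (by norm_num) hP.pi).abel.trans (C_anti aP)
  have u1 : U1 C1(a) := u1_of fun s hs s' hs' j => by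
    obtain ⟨g, rfl⟩ := h.one j.ht
    have j' := j.cj g⁻¹
    simp only [inv_inv, ← mul_assoc, inv_mul_cancel, one_mul, inv_mul_cancel_right] at j'
    have m : ∀ w ∈ C1(a), g⁻¹ * a * g * (g⁻¹ * w * g) = g⁻¹ * w * g * (g⁻¹ * a * g) := fun w hw => by
      have := mem_C1.1 hw
      calc _ = g⁻¹ * (a * w) * g := by group
        _ = _ := by rw [← this]; group
    have a1 : g⁻¹ * a * g ∈ C1(t) := mem_C1.2 (by simpa [mul_assoc] using m _ hs)
    have := c.two (π ⟨_, mem_C1.2 j'.c.symm⟩) (π ⟨_, a1⟩) ⟨by rw [← map_mul, ← π.map_one]; exact congrArg π (Subtype.ext (sq1 j'.hu)),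
      fun e => ne1 j'.hu congr(($(inj (e.trans π.map_one.symm))).1), fun e => j'.ne congr(($(inj (e.trans c.pz.symm))).1)⟩
      (by rw [← map_mul, ← map_mul]; exact congrArg π (Subtype.ext (m _ hs').symm))
    rw [← map_pow, ← π.map_one] at this
    have := orderOf_dvd_of_pow_eq_one (congr(($(inj this)).1) : (g⁻¹ * a * g) ^ 2 ^ 4 = 1)
    rw [show g⁻¹ * a * g = g⁻¹ * a * g⁻¹⁻¹ by simp, orderOf_conj, a3] at this
    norm_num at this
  have hK := h.oc.ncomp Nat.prime_three (by norm_num) a3 C1_self inf_le_left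
  obtain ⟨Q, hQ, n⟩ := (cop_of_pi (PB.trans pcore_nml.norm) hP.pi hK.pi (.inl hP.pi.solv)).exists_sylow Nat.prime_two
  obtain ⟨z, hz, z2⟩ := cauchy Nat.prime_two (hQ.dvd_card_p Nat.prime_two (h.t2 ▸ orderOf_dvd_card
    (hK.mem_of_nml pcore_nml.norm (mem_C1_comm.1 ha) (PiNat.p'_of_ne (H22.pi2_of_sq (sq1 h.t2)) (by norm_num)))))
  have : P ≤ C1(z) := fun g hg => mem_C1.2 (mul_inv_eq_iff_eq_mul.1 ((u1.of_le (hQ.le.trans pcore_le)).uniq hQ.pi hz
    (conj_mem n hg hz) z2 (H22.ord2_conj z2 g)))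
  obtain ⟨g, rfl⟩ := h.one z2
  have := (hP.dvd_of_piNat (piNat_pow_self Nat.prime_three 2) (by rw [card_top]; omega)).trans (card_dvd this)
  rw [← cj_C1, card_cj, cd] at this
  norm_num at this

theorem vT : v * u * (v)⁻¹ = t * u := by
  rw [← h.qd.ff, mul_assoc, mul_assoc, mul_right_inj, ← h.uv, ← mul_assoc, ← mul_assoc, h.qd.yy, one_mul, H22.inv_of_sq h.qd.yy]
theorem vu : v ∉ C1(u) := fun e => ne1 h.t2 (mul_eq_right.1 (h.vT.symm.trans (conj_eq_self_of_C1 e)))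
theorem vN : v ∈ N(T) := H22.mem_N_V4 (by rw [conj_eq_self_of_C1 (h.SC h.qd.fS)]; exact H22.left_mem_V4) (h.vT ▸ H22.mul_mem_V4)
theorem vC : v ∉ C(T) := fun e => h.vu (C_le_C1 H22.right_mem_V4 e)
theorem hT : Hall {2} T C(T) :=
  sylow_of_max Nat.prime_two h.k4.abel h.k4.pi fun _ hQ _ j c hc => h.q1 _ _ h.k4 c (j hc) (hQ.elt hc)
theorem hD : Hall {2}ᶜ D C(T) := Burnside_normal_complement Nat.prime_two h.hT inf_le_left
theorem cardC : Nat.card C(T) = 4 * Nat.card D := by rw [← h.hT.card_mul_compl h.hD, h.k4.card]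
theorem DN : D ⊴ N(T) := nml_C_N.pcore

theorem three : ∃ P x, Hall {3} P N(T) ∧ x ∈ P ∧ x ∉ C(T) ∧ O[{3}ᶜ](D) ≤ C(P) ∧ Hall {3}ᶜ O[{3}ᶜ](D) D := by
  obtain ⟨P, hP⟩ := exists_sylow Nat.prime_three N(T)
  obtain ⟨x, hx, xc⟩ := SetLike.not_le_iff_exists.1 fun e : P ≤ C(T) =>
    hP.idx_of_le e 3 Nat.prime_three (h.six ▸ by norm_num) rfl
  have c := h.oc 3 P Nat.prime_three (by norm_num) hP.pi
  have d : P ≤ ⁅N(T), N(T)⁆ := (H22.cyc_pnil_or Nat.prime_three hP c).resolve_left fun j => h.vC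
    ((h.oc.t_cent h.q1 h.k4 (hP.le hx) (hP.pi.elt hx) xc le_N (hP.le hx) j).1 (j.mem_of_nml pcore_nml.norm h.vN
      (PiNat.p'_of_ne (h.syl.pi.elt h.qd.fS) (by norm_num))))
  have n := hP.le.trans h.DN.norm
  have j := ((H22.cyc_pnil_or Nat.prime_three (hP.of_le le_sup_right (sup_le h.DN.le hP.le)) c).resolve_right fun j => by
    have := j.trans (der_sup_le n)
    rw [c.abel.der, sup_bot_eq] at this
    exact xc (pcore_le (this hx))).pcore_of_le le_sup_left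
  exact ⟨P, x, hP, hx, xc, cent_symm (zcent (h.oc.zgrp (h.hD.pi.of_le pcore_le)) h.DN.pcore.norm d (hP.pi.coprime j.pi)), j⟩

end St
end H13.SW
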