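import Cfsg.Agent.H13.SW4
/-! The nonsolvable case: `C(t)` has a normal subgroup `L ≅ SL₂(p)` (`Ns`); the structure of `N(T)` and of `C(d)`, `d ∈ O(C(T))`. -/
set_option autoImplicit false
set_option linter.unusedSectionVars false
namespace H13.SW
open Subgroup Cfsg H18
open H22 (V4 U1 ord2 sq1 ne1 QD pi2_of_sq)
open scoped commutatorElement MatrixGroups
universe u
variable {G : Type u} [Group G] [Finite G] {A B H K L M P Q R : Subgroup G} {a b c d g y u x w : G} {r p k : ℕ}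
  {S : Sylow 2 G}

theorem mul_mem2 (i : K.relIndex M ∣ 2) (ha : a ∈ M) (hb : b ∈ M) (h1 : a ∉ K) (h2 : b ∉ K) : a * b ∈ K :=
  H9.mul_mem_of_relIndex_two (((Nat.dvd_prime Nat.prime_two).1 i).resolve_left fun e => h1 (relIndex_eq_one_iff.1 e ha)) ha hb h1 h2
theorem sq_mem2 (i : K.relIndex M ∣ 2) (ha : a ∈ M) : a * a ∈ K :=
  (em (a ∈ K)).elim (fun j => mul_mem j j) fun j => mul_mem2 i ha ha j j
theorem two_card (h : A < B) : 2 * Nat.card A ≤ Nat.card B := by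
  have := one_lt_relIndex h.not_ge; rw [← card_mul_relIndex h.le]; nlinarith
theorem mem_cop (n : K ⊴ M) (ha : a ∈ M) (c : (orderOf a).Coprime (K.relIndex M)) : a ∈ K :=
  PiElt.mem_of_nml (π := primes (orderOf a)) piNat_primes ha n (piNat_of_coprime' c)
theorem le_of_two (hQ : Hall {2} Q M) (i : A.relIndex M ∣ 2) (j : Q ≤ A) : M ≤ A :=
  relIndex_eq_one_iff.1 (((piNat_self Nat.prime_two).of_dvd i).eq_one (hQ.idx_of_le j))
theorem OC.nperf (h : OC G) (hL : ⁅L, L⁆ = L) (hr : r.Prime) (h2 : r ≠ 2) (ha : orderOf a = r) (h1 : a ∈ L) :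
    ¬ L ⊓ N(zpowers a) ≤ C1(a) := fun c => by
  obtain ⟨P, hP, k⟩ := exists_sylow_le hr (pi_zp hr ha) (zpowers_le.2 h1)
  have := (h.ncomp hr h2 ha h1 c).der_inf_eq_bot hP (h r P hr h2 hP.pi).abel
  rw [hL, inf_eq_left.2 hP.le] at this
  rw [eq_one_of_eq_bot this (k (mem_zpowers a)), orderOf_one] at ha
  exact hr.one_lt.ne ha
theorem no2_of_perf (h : ⁅L, L⁆ = L) (K : Subgroup L) : K.index ≠ 2 := fun e => by
  have i : (K.map L.subtype).relIndex L = 2 := by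
    rw [relIndex, subgroupOf, comap_map_eq_self_of_injective L.subtype_injective]; exact e
  have n : K.map L.subtype ⊴ L := nml_map_subtype (hX := normal_of_index_eq_two e)
  have := relIndex_eq_one_iff.2 (h.ge.trans ((abel_quo_iff n.norm).1 (cyc_quo_of_prime n.norm (i ▸ Nat.prime_two)).abel))
  omega

/-- the nonsolvable situation -/
structure Ns (S : Sylow 2 G) (k : ℕ) (y u : G) (L : Subgroup G) (p : ℕ) [Fact p.Prime] extends St S k y u where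
  nL : L ⊴ C1(y ^ 2 ^ (k + 1 + 1))
  ns : ¬ Solv L
  h5 : 5 ≤ p
  e : L ≃* SL(2, ZMod p)

local notation "t" => y ^ 2 ^ (k + 1 + 1)
local notation "v" => y ^ 2 ^ (k + 1)
local notation "T" => V4 t u
local notation "D" => O[{2}ᶜ](C(T))
local notation "X" => O[{2}ᶜ](C1(t) ⊓ C(L))

theorem St.exists_ns (h : St S k y u) : ∃ L p, ∃ _ : Fact p.Prime, Nonempty (Ns S k y u L p) := by
  obtain ⟨L, nL, ns, pf⟩ := H22.exists_perf h.nsolv
  have ne : L ≠ ⊤ := fun e => h.C1_ne (ne1 h.t2) (top_le_iff.1 (e ▸ nL.le))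
  obtain ⟨p, _, h5, ⟨⟨e⟩⟩ | ⟨⟨e⟩⟩⟩ := perf (h.oc.comap L.subtype fun x e => by
    rw [(map_eq_one_iff _ L.subtype_injective).1 e, one_mul]) (h.i2.comap L.subtype L.subtype_injective)
    (H22.perfect_of_der pf).1 (fun s => ns (solv_top_iff.1 s)) fun P q => (h.ih L ne P q).elim (no2_of_perf pf)
  · exact (ne1 h.t2 (eq_one_of_eq_bot (psl_z e h5 ns) ⟨le_C1_iff.1 nL.le,
      cen_two h.oc h.i2 ns (le_C1_iff.1 nL.le) (pi2_of_sq (sq1 h.t2))⟩)).elim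
  · exact ⟨L, p, _, ⟨⟨h, nL, ns, h5, e⟩⟩⟩

theorem St.Dt (_ : St S k y u) : D ≤ C1(t) := pcore_le.trans (C_le_C1 H22.left_mem_V4)
theorem St.Du (_ : St S k y u) : D ≤ C1(u) := pcore_le.trans (C_le_C1 H22.right_mem_V4)
theorem St.three' (h : St S k y u) : ∃ x ∈ N(T), PiElt {3} x ∧ x ∉ C(T) ∧ D ≤ C1(x) := by
  obtain ⟨P, x, hP, hx, xc, c, j⟩ := h.three
  exact ⟨x, hP.le hx, hP.pi.elt hx, xc, (((hP.inf_nml h.DN).sup_compl j).ge.trans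
    (sup_le (inf_le_left.trans (h.oc 3 P Nat.prime_three (by norm_num) hP.pi).abel) c)).trans (C_le_C1 hx)⟩

namespace Ns
variable [Fact p.Prime] (h : Ns S k y u L p)
include h

theorem pf : ⁅L, L⁆ = L := sl_perf h.e h.h5
theorem XL : X ≤ C(L) := pcore_le.trans inf_le_right
theorem Xn : X ⊴ C1(t) := h.nL.cent.pcore
theorem Kn : L ⊔ X ⊴ C1(t) := h.nL.sup h.Xn
theorem Ki : (L ⊔ X).relIndex C1(t) ∣ 2 := idx h.oc h.i2 h.h5 h.ns h.nL (.inr ⟨h.e⟩)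
theorem cop : (Nat.card X).Coprime (Nat.card L) := cen_cop h.oc h.pf pcore_pi h.XL
theorem oddK (ha : a ∈ C1(t)) (o : PiElt {2}ᶜ a) : a ∈ L ⊔ X :=
  o.mem_of_nml ha h.Kn ((piNat_self Nat.prime_two).of_dvd h.Ki).compl_compl
theorem inL (ha : a ∈ L ⊔ X) (c : (orderOf a).Coprime (Nat.card X)) : a ∈ L :=
  mem_cop (nml_sup_left (h.XL.trans C_le_N)) ha (c.coprime_dvd_right (by
    rw [sup_comm, relIndex_sup_of_norm (h.XL.trans C_le_N)]; exact relIndex_dvd))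
theorem inX (ha : a ∈ L ⊔ X) (c : (orderOf a).Coprime (Nat.card L)) : a ∈ X :=
  mem_cop (nml_sup_right (h.nL.le.trans h.Xn.norm)) ha (c.coprime_dvd_right (by
    rw [relIndex_sup_of_norm (h.nL.le.trans h.Xn.norm)]; exact relIndex_dvd))
theorem twoL (ha : a ∈ L ⊔ X) (o : PiElt {2} a) : a ∈ L := h.inL ha (PiNat.coprime o pcore_pi)
theorem tC : t ∈ C(L) := le_C1_iff.1 h.nL.le
theorem tL : t ∈ L := cen_two h.oc h.i2 h.ns h.tC (pi2_of_sq (sq1 h.t2))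
theorem inv (hl : a ∈ L) (e : a * a = 1) : a = 1 ∨ a = t := sl_inv h.e h.h5 hl h.tL h.t2 e
theorem uL : u ∉ L := fun e => (h.inv e h.qd.yy).elim (ne1 h.qd.ord_y) h.k4.ne
theorem uK : u ∉ L ⊔ X := fun e => h.uL (h.twoL e (pi2_of_sq h.qd.yy))
theorem uC : u ∉ C(L) := fun e => h.uL (cen_two h.oc h.i2 h.ns e (pi2_of_sq h.qd.yy))
theorem uN : u ∈ N(L) := h.nL.norm (h.SC h.qd.hy)
theorem vL : v ∈ L := zpowers_le.2 (sq y ▸ h.twoL (sq_mem2 h.Ki (h.SC h.qd.mc.xmem))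
  (h.syl.pi.elt (mul_mem h.qd.mc.xmem h.qd.mc.xmem))) h.qd.f_sq
theorem vCL : v ∉ C(L) := fun e => ne1 h.t2 (h.qd.ff.symm.trans ((sl_sq h.e h.h5 h.vL).1 e))
theorem SL : (S : Subgroup G) ≤ L ⊔ zpowers u := fun s hs => by
  by_cases j : s ∈ L ⊔ X
  · exact mem_sup_left (h.twoL j (h.syl.pi.elt hs))
  · exact (mul_mem_cancel_right (mem_sup_right (mem_zpowers u))).1 (mem_sup_left (h.twoL
      (mul_mem2 h.Ki (h.SC hs) (h.SC h.qd.hy) j h.uK) (h.syl.pi.elt (mul_mem hs h.qd.hy))))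
theorem yL : y ∉ L := fun e => h.oc.ncyc ((h.syl.of_le h.SC le_top).inf_nml h.nL) h.ns (Cyc.of_le cyc_zpowers fun s hs =>
  by_contra fun j => h.uL ((mul_mem_cancel_left (show s ∈ L from hs.2)).1 (zpowers_le.2 e (h.qd.mc.mul_mem_out hs.1 h.qd.hy j h.qd.out))))
theorem oddC (hd : d ∈ L) (o : PiElt {2}ᶜ d) (d1 : d ≠ 1) : d ∉ C(L) := fun e =>
  d1 ((pi2_of_sq ((sl_sq h.e h.h5 hd).1 e)).eq_one' o)

theorem DX : D ⊓ X = ⊥ := by_contra fun j => by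
  obtain ⟨d, hd, d1⟩ := exists_mem_ne_one' j
  obtain ⟨x, xN, x3, xc, xD⟩ := h.three'
  have LB : L ≤ C1(d) := le_C1_iff.2 (h.XL hd.2)
  have uB : u ∈ C1(d) := mem_C1_comm.1 (h.Du hd.1)
  have tB : t ∈ ⁅C1(d), C1(d)⁆ := (h.pf.ge.trans (der_mono LB)) h.tL
  have := conj_mem nml_der.norm (mem_C1_comm.1 (xD hd.1)) tB
  refine h.nder (h.C1_ne d1) (h.SL.trans (sup_le LB (zpowers_le.2 uB)))
    (h.SL.trans (sup_le (h.pf.ge.trans (der_mono LB)) (zpowers_le.2 ?_)))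
  rcases h.k4.mem.1 (conj_mem_N xN H22.left_mem_V4) with e | e | e | e
  · exact absurd (conj_eq_one_iff'.1 e) (ne1 h.t2)
  · exact absurd (zpowers_le.1 (h.k4.fix (PiElt.zpowers (x3.p'_of_ne (by norm_num))) (zpowers_le.2 xN) (ne_bot_of_mem
      ⟨H22.left_mem_V4, C_zpowers.ge (mem_C1.2 (mul_inv_eq_iff_eq_mul.1 e).symm)⟩ (ne1 h.t2)))) xc
  · exact e ▸ this
  · exact (mul_mem_cancel_left tB).1 (e ▸ this)

theorem DL : D ≤ L := fun d hd => h.inL (h.oddK (h.Dt hd) (pcore_pi.elt hd)) (Nat.coprime_of_dvd fun r hr h1 h2 => by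
  obtain ⟨b, hb, e⟩ := exists_ord hr h1
  have bD := zpowers_le.2 hd hb
  have := eq_one_of_eq_bot h.DX ⟨bD, h.inX (h.oddK (h.Dt bD) (pcore_pi.elt bD)) (e ▸ h.cop.coprime_dvd_left h2)⟩
  rw [this, orderOf_one] at e; exact hr.ne_one e.symm)

theorem A_u (hd : d ∈ D) (d1 : d ≠ 1) : L ⊓ C1(d) ≤ C1(u) :=
  g2 h.e h.h5 h.uN (h.DL hd) (h.oddC (h.DL hd) (pcore_pi.elt hd) d1) (h.Du hd)
theorem vd (hd : d ∈ D) (d1 : d ≠ 1) : v ∉ C1(d) := fun e => h.vu (h.A_u hd d1 ⟨h.vL, e⟩)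
theorem Dab : Abel D := (g1 h.e h.h5 h.uN h.uC).mono (le_inf h.DL h.Du)
theorem CD : C(T) ≤ C(D) := (h.hT.sup_compl h.hD).ge.trans (sup_le (cent_symm pcore_le) h.Dab)
theorem LuT : L ⊓ C1(u) ≤ C(T) := (inf_le_inf_right _ h.nL.le).trans H22.C_V4.ge
theorem big : 2 * (p - 1) ≤ 4 * Nat.card D := by
  have := two_card (h.LuT.lt_of_not_ge fun j => h.uL (j (h.k4.abel H22.right_mem_V4)).1)
  have := m3 h.e h.h5 h.uN h.uC
  have := h.cardC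
  omega

theorem ncent (hc : c ∈ L) (c3 : orderOf c = 3) (n3 : ¬ 3 ∣ Nat.card C(T)) : N(zpowers c) ≤ C1(t) := by
  refine h.oc.u_cent nml_C_N (u1_of fun a ha b hb j => ?_) h.t2 (C_anti (zpowers_le.2 hc) h.tC) ?_
  · obtain ⟨g, hg⟩ := h.conj4 j
    have : g * c * g⁻¹ ∈ C(T) := by rw [← hg, ← cj_C]; exact conj_mem_cj (zpowers_le.1 (cent_symm (H22.V4_le ha hb)))
    exact n3 (by have := orderOf_dvd_card this; rwa [orderOf_conj, c3] at this)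
  obtain ⟨Q, hQ⟩ := exists_sylow Nat.prime_two (C1(t) ⊓ N(zpowers c))
  have i2 : ∀ A ≤ N(zpowers c), C(zpowers c).relIndex A ∣ 2 := fun A hA =>
    prime_relIndex_C_dvd Nat.prime_three (card_zpowers'.trans c3) hA
  obtain ⟨s, hs, sc⟩ := SetLike.not_le_iff_exists.1 fun j : Q ⊓ (C1(t) ⊓ N(zpowers c) ⊓ L) ≤ C(zpowers c) =>
    h.oc.nperf h.pf Nat.prime_three (by norm_num) c3 hc (((le_inf (inf_le_inf_right _ h.nL.le) inf_le_left).trans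
      (le_of_two (hQ.inf_nml (h.nL.inf_left inf_le_left)) (i2 _ (inf_le_left.trans inf_le_right)) j)).trans C_zpowers.le)
  obtain ⟨w, hw, wK⟩ := SetLike.not_le_iff_exists.1 fun j : Q ⊓ (C1(t) ⊓ N(zpowers c) ⊓ C(zpowers c)) ≤ L ⊔ X => by
    have j := le_of_two (hQ.inf_nml (nml_C_N.inf_left inf_le_right))
      ((h.Kn.relIndex_dvd (inf_le_left.trans inf_le_left)).trans h.Ki) j
    obtain ⟨l, hl, e⟩ := h.oc.conj Nat.prime_three (by norm_num) (orderOf_conj.trans c3) c3 (conj_mem_N h.uN hc) hc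
    rw [← cj_zpowers, cj_cj, ← mem_N_iff_cj] at e
    have m : l * u ∈ C1(t) := mul_mem (h.nL.le hl) (h.SC h.qd.hy)
    by_cases i : l * u ∈ C(zpowers c)
    · exact h.uK ((mul_mem_cancel_left (mem_sup_left hl)).1 (j ⟨⟨m, e⟩, i⟩))
    · exact h.uK ((mul_mem_cancel_left (mem_sup_left hl)).1 ((mul_mem_cancel_left (mem_sup_left hs.2.2)).1
        (j ⟨mul_mem hs.2.1 ⟨m, e⟩, mul_mem2 (i2 _ le_rfl) hs.2.1.2 e sc i⟩)))
  have wN := h.nL.norm hw.2.1.1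
  have zQ : ⁅w, s⁆ ∈ Q := der_le (commutator_mem_commutator hw.1 hs.1)
  obtain ⟨r, hr, d, rfl⟩ := (hQ.pi.elt zQ).exists_mem fun e => sc (C_zpowers.ge (mem_C1.2 (comm_of_cent
    (g1 h.e h.h5 wN fun j => wK (mem_sup_left (cen_two h.oc h.i2 h.ns j (hQ.pi.elt hw.1))))
    ⟨hs.2.2, mem_C1.2 (commutatorElement_eq_one_iff_mul_comm.1 e).symm⟩ ⟨hc, mem_C1_comm.1 (C_zpowers.le hw.2.2)⟩)))
  obtain ⟨z, hz, z2⟩ := exists_ord hr d
  have zL : ⁅w, s⁆ ∈ L := mul_mem (conj_mem_N wN hs.2.2) (inv_mem hs.2.2)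
  exact (h.inv (zpowers_le.2 zL hz) (sq1 z2)).resolve_left (ne1 z2) ▸
    zpowers_le.2 (commutator_mem_commutator hw.2.1.2 hs.2.1.2) hz

theorem L3 : 3 ∣ Nat.card L := by
  rw [sl_card h.e h.h5]
  obtain ⟨q, rfl⟩ : ∃ q, p = q + 1 := ⟨p - 1, by have := h.h5; omega⟩
  rw [Nat.add_sub_cancel]
  have : q % 3 = 0 ∨ (q + 1) % 3 = 0 ∨ (q + 1 + 1) % 3 = 0 := by omega
  rcases this with j | j | j
  exacts [((Nat.dvd_of_mod_eq_zero j).mul_left _).mul_right _, ((Nat.dvd_of_mod_eq_zero j).mul_right _).mul_right _,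
    (Nat.dvd_of_mod_eq_zero j).mul_left _]

theorem D3 : 3 ∣ Nat.card D := by_contra fun n3 => by
  have n3' : ¬ 3 ∣ Nat.card C(T) := by rw [h.cardC]; omega
  obtain ⟨d, hd, dp⟩ := exists_prime_order (H := D) fun e => by
    have := h.big; have := h.h5; rw [e, card_bot] at *; omega
  have d1 : d ≠ 1 := fun e => by rw [e, orderOf_one] at dp; exact Nat.not_prime_one dp
  obtain ⟨x, -, x3, xc, xD⟩ := h.three'
  obtain ⟨r, hr, j, rfl⟩ := x3.exists_mem fun e => xc (e ▸ one_mem _)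
  obtain ⟨b, hb, b3⟩ := exists_ord hr j
  obtain ⟨c, hc, c3⟩ := cauchy hr h.L3
  obtain ⟨g, -, hg⟩ := h.oc.conj hr (by norm_num) b3 c3 (mem_top b) (mem_top c)
  have dc : g * d * g⁻¹ ∈ C(zpowers c) := by
    rw [← hg, ← cj_C]; exact conj_mem_cj (C_anti (zpowers_le.2 hb) (C_zpowers.ge (xD hd)))
  have dL : g * d * g⁻¹ ∈ L := h.inL (h.oddK (h.ncent hc c3 n3' (C_le_N dc)) ((pcore_pi.elt hd).conj g))
    (by rw [orderOf_conj]; exact h.cop.symm.coprime_dvd_left (orderOf_dvd_card (h.DL hd)))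
  obtain ⟨l, hl, e⟩ := h.oc.conj dp (pcore_pi.elt hd _ dp dvd_rfl) orderOf_conj rfl dL (h.DL hd)
  have : l * c * l⁻¹ ∈ L ⊓ C1(d) := ⟨conj_mem le_N hl hc, by
    rw [← C_zpowers, ← e, ← cj_C]; exact conj_mem_cj (C_zpowers.ge (mem_C1_comm.1 (C_zpowers.le dc)))⟩
  exact n3' (by have := orderOf_dvd_card (h.LuT ⟨this.1, h.A_u hd d1 this⟩); rwa [orderOf_conj, c3] at this)

theorem exc : ∃ c ∈ D, orderOf c = 3 ∧ c ≠ 1 := by
  obtain ⟨c, hc, c3⟩ := cauchy Nat.prime_three h.D3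
  exact ⟨c, hc, c3, fun e => by rw [e, orderOf_one] at c3; norm_num at c3⟩

theorem Ei' : C(T).relIndex (N(T) ⊓ C(D)) = 3 ∧ (N(T) ⊓ C(D)).relIndex N(T) = 2 := by
  obtain ⟨x, xN, x3, xc, xD⟩ := h.three'
  obtain ⟨c, hc, -, c1⟩ := h.exc
  have e := (relIndex_tower (le_inf C_le_N h.CD) inf_le_left).trans h.six
  obtain ⟨m, hm⟩ : 3 ∣ C(T).relIndex (N(T) ⊓ C(D)) := by_contra fun j => xc (x3.mem_of_nml (mem_inf.2 ⟨xN, le_C1_iff.1 xD⟩)
    (nml_C_N.of_le (le_inf C_le_N h.CD) inf_le_left) ((piNat_compl_iff Nat.prime_three).2 j))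
  have := one_lt_relIndex fun j : N(T) ≤ N(T) ⊓ C(D) => h.vd hc c1 (C_le_C1 hc (j h.vN).2)
  rw [hm] at e ⊢
  generalize (N(T) ⊓ C(D)).relIndex N(T) = b at *
  rcases m with _ | _ | m
  · omega
  · omega
  · nlinarith

theorem HC (hd : d ∈ D) (d1 : d ≠ 1) : N(T) ⊓ C1(d) ≤ C(D) :=
  ((eq_or_eq_of_prime_relIndex (by rw [h.Ei'.2]; exact Nat.prime_two) (inf_le_inf_left _ (C_le_C1 hd)) inf_le_left).resolve_right
    fun e => h.vd hd d1 (e.ge h.vN).2).le.trans inf_le_right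

theorem NB (hd : d ∈ D) (d1 : d ≠ 1) : N(C1(d)) ≤ N(T) := by
  obtain ⟨x, xN, x3, xc, xD⟩ := h.three'
  obtain ⟨c, hc, c3, -⟩ := h.exc
  have k : ∀ d ∈ D, C1(d) ⊓ N(zpowers c) ≤ C1(c) → N(C1(d)) ≤ N(T) := fun d hd j =>
    (h.oc.t_cent h.q1 h.k4 xN x3 xc (le_C1_iff.2 (pcore_le hd)) (mem_C1_comm.1 (xD hd))
      (h.oc.ncomp Nat.prime_three (by norm_num) c3 (C_le_C1 hd (h.Dab hc)) j)).2
  exact k d hd (((le_inf (inf_le_right.trans (N_le_N_C.trans (C_zpowers (G := G) ▸ k c hc inf_le_left))) inf_le_left).trans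
    (h.HC hd d1)).trans (C_le_C1 hc))

theorem C1d (hd : d ∈ D) (d1 : d ≠ 1) : C1(d) = C(D) :=
  le_antisymm ((le_inf (le_N.trans (h.NB hd d1)) le_rfl).trans (h.HC hd d1)) (C_le_C1 hd)
theorem EN : C(D) ≤ N(T) := by
  obtain ⟨c, hc, -, c1⟩ := h.exc
  exact (C_le_C1 hc).trans (le_N.trans (h.NB hc c1))
theorem Ei : C(T).relIndex C(D) = 3 ∧ C(D).relIndex N(T) = 2 := inf_eq_right.2 h.EN ▸ h.Ei'
theorem E3 (ha : a ∈ C(D)) (o : PiElt {3}ᶜ a) : a ∈ C(T) :=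
  o.mem_of_nml ha (nml_C_N.of_le h.CD h.EN) (h.Ei.1 ▸ (piNat_self Nat.prime_three).compl_compl)
theorem E2 (ha : a ∈ C(D)) (o : PiElt {2} a) : a ∈ T := h.q1 _ _ h.k4 a (h.E3 ha (o.p'_of_ne (by norm_num))) o
theorem Eodd (ha : a ∈ C(D)) (hr : r.Prime) (h2 : r ≠ 2) (o : orderOf a = r) : a ∈ D := by
  obtain ⟨c, hc, c3, -⟩ := h.exc
  by_cases j : r = 3
  · exact zpowers_le.2 hc ((h.oc.same hr h2 o (c3.trans j.symm) (mem_C.1 ha c hc).symm).le (mem_zpowers a))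
  · have o' : PiElt {r} a := o ▸ piNat_self (o ▸ hr)
    exact h.hD.mem_of_nml pcore_nml.norm (h.E3 ha (o'.p'_of_ne j)) (o'.p'_of_ne h2)
theorem X0 : X = ⊥ := eq_bot_iff.2 fun a ha => h.DX.le ⟨h.hD.mem_of_nml pcore_nml.norm (h.E3 (C_anti h.DL (h.XL ha))
  ((piNat_compl_iff Nat.prime_three).2 fun j => Nat.prime_three.one_lt.ne' (Nat.Coprime.eq_one_of_dvd
    (h.cop.coprime_dvd_left (j.trans (orderOf_dvd_card ha))) h.L3))) (pcore_pi.elt ha), ha⟩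
theorem no4 (hd : d ∈ D) (d1 : d ≠ 1) (hw : w ∈ C1(d)) : orderOf w ≠ 4 := fun e => by
  have := orderOf_dvd_of_pow_eq_one ((sq w).trans (h.k4.sq (h.E2 ((h.C1d hd d1).le hw)
    (by rw [PiElt, e]; exact piNat_pow_self Nat.prime_two 2))))
  rw [e] at this; norm_num at this
theorem Epow (ha : a ∈ C(D)) (j : a ∉ T) : ∃ b ∈ zpowers a, b ∈ D ∧ b ≠ 1 ∧ (orderOf b).Prime := by
  obtain ⟨r, hr, d, r2⟩ := exists_prime_not_mem fun o => j (h.E2 ha o)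
  obtain ⟨b, hb, e⟩ := exists_ord hr d
  exact ⟨b, hb, h.Eodd (zpowers_le.2 ha hb) hr r2 e, fun i => by rw [i, orderOf_one] at e; exact hr.ne_one e.symm, e ▸ hr⟩
theorem ti1 : ∀ a ∈ (C(D) : Set G) \ T, ∀ g, g * a * g⁻¹ ∈ (C(D) : Set G) \ T → g ∈ N(T) := fun a ha g hg => by
  obtain ⟨b, hb, bD, b1, bp⟩ := h.Epow ha.1 ha.2
  have := h.Eodd (zpowers_le.2 hg.1 (cj_zpowers.le (conj_mem_cj hb))) bp (pcore_pi.elt bD _ bp dvd_rfl) orderOf_conj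
  exact h.NB bD b1 (mem_N_iff_cj.2 (by rw [cj_C1, h.C1d bD b1, h.C1d this fun e => b1 (conj_eq_one_iff'.1 e)]))

end Ns
end H13.SW
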