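import Cfsg.Agent.H7.SqB

/-! Lifting the Frobenius group `Z(U) : C_{q-1}` of `Sz(q)` through a kernel that is central modulo odd order. -/
set_option autoImplicit false
namespace H13.SqA
open Cfsg H18 H1 Subgroup H4.Sq H13.Sz
open scoped commutatorElement

section
variable {F : Type*} [Field F] [Fintype F] {m : ℕ} [hF : IsSz F m]

theorem comm_u (a b c d : F) : ⁅u m a b, u m c d⁆ = u m 0 (th m a * c + th m c * a) := by
  rw [commutatorElement_def, mul_inv_eq_iff_eq_mul, mul_inv_eq_iff_eq_mul, u_mul_u, u_mul_u, u_mul_u, u_inj]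
  constructor
  · ring
  · simp only [map_zero, zero_add, zero_mul, add_zero]
    grind

theorem der_U : ⁅⁅U F m, U F m⁆, U F m⁆ = ⊥ := by
  refine comm_eq_bot_iff.2 (commutator_le.2 ?_)
  rintro _ ⟨a, b, rfl⟩ _ ⟨c, d, rfl⟩
  refine mem_C.2 ?_
  rintro _ ⟨x, y, rfl⟩
  rw [comm_u, u_mul_u, u_mul_u, u_inj]
  constructor <;> simp [add_comm]

theorem der_U_ne : ⁅U F m, U F m⁆ ≠ ⊥ := fun e => by
  obtain ⟨s, hs⟩ := exists_unit_ne_one (F := F) (m := m)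
  have := mem_bot.1 (e ▸ commutator_mem_commutator (u_mem_U (m := m) (s : F) 0) (u_mem_U 1 0))
  rw [comm_u, ← u_zero, u_inj, map_one, mul_one, one_mul, CharTwo.add_eq_zero] at this
  have t := th_th (m := m) (s : F)
  rw [this.2, this.2, sq] at t
  exact hs (Units.ext (mul_left_cancel₀ s.ne_zero (t.symm.trans (mul_one _).symm)))
end

theorem frob {F : Type*} [Field F] [Fintype F] {m : ℕ} [hF : IsSz F m] {G : Type*} [Group G] [Finite G]
    (φ : G →* Cfsg.Sz F m) (Y : Subgroup G) (h : Ok m G) (hY : Y.map φ = ⊤) (hR : PiGrp {2}ᶜ ⁅Y, Y ⊓ φ.ker⁆) :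
    ∃ P ≤ Y, PiGrp {2} P ∧ P ≠ ⊥ ∧ P ⊓ φ.ker = ⊥ ∧ ∃ g ∈ Y, g ∈ N(P) ∧ orderOf g = cm m 1 ∧
      orderOf (φ g) = cm m 1 := by
  obtain ⟨x, ox⟩ := IsCyclic.exists_ofOrder_eq_natCard (α := H F m)
  have ox : orderOf (x : Cfsg.Sz F m) = cm m 1 := by rw [orderOf_coe, ox, card_H, hF.card]; rfl
  have hU : PiGrp {2} (U F m) := piGrp_of_isPGroup Nat.prime_two isPGroup_U
  obtain ⟨T, TY, hT, e, g, gY, gN, hg, e2⟩ := H7.SqB.lift (π := {p | p ∣ cm m 1}) hY Nat.prime_two hU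
    (normalizer_U.ge (H_le_B x.2)) fun p _ d => ox ▸ d
  have og : orderOf g = cm m 1 := Nat.dvd_antisymm (h.over dvd_rfl hg) (ox ▸ e2 ▸ orderOf_map_dvd φ g)
  have c0 : Y ⊓ N(T) ≤ C(T ⊓ φ.ker) := comm_eq_bot_iff.1 (le_bot_iff.1 (le_trans
    (le_inf ((H18.comm_mono le_rfl inf_le_left).trans (comm_le_right inf_le_right))
      (H18.comm_mono inf_le_left (inf_le_inf_right _ TY))) (inf_eq_bot_of_coprime' (hT.coprime hR)).le))
  have a1 : ⁅⁅T, T⁆, T⁆ ≤ T ⊓ φ.ker := le_inf (comm_le_of_le der_le le_rfl) ((Subgroup.map_eq_bot_iff _).1 (by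
    rw [map_commutator, map_commutator, e, der_U]))
  have a2 : ⁅⁅⁅T, T⁆, T⁆, T⁆ = ⊥ := comm_eq_bot_iff.2 (cent_symm (((le_inf TY H18.le_N).trans c0).trans (C_anti a1)))
  have aA : Abel ⁅T, T⁆ := comm_eq_bot_iff.1
    (commutator_commutator_eq_bot_of_rotate (by rwa [H18.comm_comm (A := T) (B := ⁅T, T⁆)]) a2)
  have nA : zpowers g ≤ N(⁅T, T⁆) := norm_comm (zpowers_le.2 gN) (zpowers_le.2 gN)
  have oo : PiNat {2}ᶜ (cm m 1) := H7.SqB.piNat_two_compl.2 odd_cm1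
  have l : ⁅⁅T, T⁆, zpowers g⁆ ≤ T := (comm_le_left nA).trans der_le
  have k := abel_comm_inf_cent aA nA (by rw [card_zpowers', og]; exact oo.coprime' (hT.of_le der_le))
  refine ⟨⁅⁅T, T⁆, zpowers g⁆, l.trans TY, hT.of_le l, fun b => ?_, ?_, g, gY, norm_comm_right (mem_zpowers g), og,
    e2 ▸ ox⟩
  · obtain ⟨a, ha, a1⟩ := exists_mem_ne_one' (der_U_ne (F := F) (m := m))
    rw [← e, ← map_commutator] at ha
    obtain ⟨a, ha, rfl⟩ := ha
    have c := congrArg φ (mem_C.1 (comm_eq_bot_iff.1 b ha) g (mem_zpowers g))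
    rw [map_mul, map_mul, e2] at c
    rcases (H7.SqB.dSz F m).cit (φ a) x (((hT.of_le der_le).elt ha).of_dvd (orderOf_map_dvd _ _)) (by
      rw [PiElt, ox]; exact oo) c.symm with c | c
    · exact a1 c
    · rw [c, orderOf_one, cm1] at ox
      have : 2 ^ 3 ≤ 2 ^ (2 * m + 1) := Nat.pow_le_pow_right two_pos (by have := hF.hm; omega)
      omega
  · exact le_bot_iff.1 (k ▸ le_inf inf_le_left ((inf_le_inf_right _ l).trans
      (cent_symm (zpowers_le.2 (c0 ⟨gY, gN⟩)))))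

end H13.SqA
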