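import Cfsg.Agent.H13.SzClass

/-! The character table of the Suzuki group: the irreducible characters `stX` (degree `q²`), `XL λ`
(degree `q²+1`), `YL λ`, `ZL λ` (degrees `(q ∓ r + 1)(q - 1)`), `W1`, `W2` (degree `r (q-1)/2`) with
their values (`H13.Sz.Vals`), and the enumeration of all irreducible characters
(`H13.Sz.sum_irr`, `H13.Sz.irr_cases`). -/

set_option autoImplicit false

open H5 Cfsg
open scoped ComplexConjugate commutatorElement

namespace H13

open Classical in
/-- Indicator function of a conjugacy class. -/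
noncomputable def cind {G : Type*} [Group G] (x : G) : G → ℂ := fun y => if IsConj x y then 1 else 0

open Classical in
theorem isClassFunction_cind {G : Type*} [Group G] (x : G) : IsClassFunction G (cind x) :=
  isClassFunction_of_isConj fun _ _ hxy => if_congr
    ⟨fun h => h.trans hxy, fun h => h.trans hxy.symm⟩ rfl rfl

theorem indFun_one_mul_card {G : Type*} [Group G] [Fintype G] (N : Subgroup G) [Fintype N] (x : G) :
    indFun N (fun _ => 1) x * Nat.card N =
      Nat.card (Subgroup.centralizer {x}) * ∑ n : N, cind x n := by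
  classical
  have h2 := sum_indFun_mul N (fun _ => 1) (isClassFunction_cind x)
  have h3 := (isClassFunction_indFun N fun _ => 1).sum_filter_isConj x
  rw [Finset.sum_filter] at h3
  have h4 : ∑ g, indFun N (fun _ => 1) g * cind x g =
      (Subgroup.centralizer {x}).index * indFun N (fun _ => 1) x := by
    rw [← h3]
    refine Finset.sum_congr rfl fun g _ => ?_
    unfold cind
    split_ifs <;> simp
  rw [h4, ← (Subgroup.centralizer {x}).index_mul_card] at h2
  have e1 : (Nat.card (Subgroup.centralizer {x}) : ℂ) ≠ 0 := card_ne_zero_complex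
  have e2 : (Nat.card N : ℂ) ≠ 0 := card_ne_zero_complex
  have e3 : ((Subgroup.centralizer {x}).index : ℂ) ≠ 0 :=
    Nat.cast_ne_zero.mpr Subgroup.FiniteIndex.index_ne_zero
  simp only [one_mul] at h2
  push_cast at h2
  field_simp at h2
  linear_combination h2

namespace Sz

open MulAction

variable {F : Type*} [Field F] [Fintype F] {m : ℕ} [hF : IsSz F m]

attribute [local irreducible] ptInf pt u h w

/-! ### A character of `U` -/

variable (m) in
/-- `u a b` as an element of `U`. -/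
def uu (a b : F) : U F m := ⟨u m a b, u_mem_U a b⟩

theorem uu_mul (a b c d : F) : uu m a b * uu m c d = uu m (a + c) (b + d + th m a * c) :=
  Subtype.ext (u_mul_u a b c d)

theorem uu_zero : uu m (0 : F) 0 = 1 := Subtype.ext u_zero

theorem sum_uu (f : U F m → ℂ) : ∑ x, f x = ∑ a : F, ∑ b : F, f (uu m a b) := by
  have := sum_U' (extendByZero (U F m) f)
  simp only [extendByZero_coe] at this
  rw [this]
  exact Finset.sum_congr rfl fun a _ => Finset.sum_congr rfl fun b _ =>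
    extendByZero_coe (U F m) f (uu m a b)

theorem psi_eq_one_iff {a : F} (h : ∀ c, psi m (a * c) = 1) : a = 0 := by
  by_contra ha
  have := h a⁻¹
  rw [mul_inv_cancel₀ ha, psi_one] at this
  norm_num at this

theorem psi_comm (a c : F) : psi m (th m a * c + th m c * a) = psi m ((a ^ 2 + a) * th m c) := by
  rw [psi_add, ← psi_th (th m a * c), map_mul, th_th, ← psi_add]
  congr 1
  ring

theorem exists_eta : ∃ η : U F m → ℂ, IsIrrCharacter _ η ∧
    ∀ b x, η (uu m 0 b * x) = psi m b * η x := by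
  classical
  let φ : U F m → ℂ := fun x => ∑ b : F, if x = uu m 0 b then psi m b else 0
  have hcen : ∀ b : F, uu m 0 b ∈ Subgroup.center (U F m) := fun b => mem_center_U.mpr ⟨b, rfl⟩
  have hφ : IsClassFunction _ φ := by
    intro x y
    refine Finset.sum_congr rfl fun b _ => if_congr ?_ rfl rfl
    rw [mul_inv_eq_iff_eq_mul, ← Subgroup.mem_center_iff.mp (hcen b) y, mul_right_inj]
  have hne : φ ≠ 0 := by
    intro h0
    have := congrFun h0 1
    simp only [φ, Pi.zero_apply] at this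
    rw [Finset.sum_eq_single 0] at this
    · simp [uu_zero] at this
    · intro b _ hb
      exact if_neg fun h => u_zero_ne_one hb (congrArg Subtype.val h).symm
    · simp
  obtain ⟨η, hη, h1⟩ := hφ.exists_irr_constituent hne
  refine ⟨η, hη, fun b x => ?_⟩
  obtain ⟨c, hc0, hc⟩ := hη.center_le_charCenter (hcen b)
  have h2 : ∑ d : F, psi m d * conj (η (uu m 0 d)) ≠ 0 := by
    intro h
    apply h1
    simp only [classInner, φ, Finset.sum_mul, ite_mul, zero_mul]
    rw [Finset.sum_comm]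
    simp [h]
  have h3 := Equiv.sum_comp (Equiv.addLeft b) fun d => psi m d * conj (η (uu m 0 d))
  have h4 : ∀ d : F, η (uu m 0 (b + d)) = c * η (uu m 0 d) := fun d => by
    rw [← hc, uu_mul]
    simp
  simp only [Equiv.coe_addLeft, psi_add, h4, map_mul] at h3
  have h5 : psi m b * conj c = 1 := by
    apply mul_right_cancel₀ h2
    rw [one_mul]
    refine Eq.trans ?_ h3
    rw [Finset.mul_sum]
    exact Finset.sum_congr rfl fun d _ => by ring
  have h6 : c = psi m b := by
    have := congrArg conj h5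
    rw [map_mul, conj_psi, Complex.conj_conj, map_one] at this
    linear_combination psi m b * this - c * psi_mul_self (m := m) b
  rw [hc, h6]

variable (F m) in
/-- An irreducible character of `U` lying over `psi`. -/
noncomputable def eta : U F m → ℂ := (exists_eta (F := F) (m := m)).choose

theorem irr_eta : IsIrrCharacter _ (eta F m) := (exists_eta (F := F) (m := m)).choose_spec.1

theorem eta_mul (b : F) (x : U F m) : eta F m (uu m 0 b * x) = psi m b * eta F m x :=
  (exists_eta (F := F) (m := m)).choose_spec.2 b x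

theorem eta_add (a b d : F) : eta F m (uu m a (d + b)) = psi m d * eta F m (uu m a b) := by
  rw [← eta_mul, uu_mul]
  simp

theorem eta_eq_zero {a : F} (h0 : a ≠ 0) (h1 : a ≠ 1) (b : F) : eta F m (uu m a b) = 0 := by
  by_contra hne
  have : a ^ 2 + a = 0 := psi_eq_one_iff (m := m) fun c => by
    obtain ⟨c, rfl⟩ := th_surjective (m := m) c
    have h2 := irr_eta.isClassFunction (uu m a b) (uu m c 0)
    rw [show uu m c 0 * uu m a b * (uu m c 0)⁻¹ = uu m a (th m a * c + th m c * a + b) from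
      Subtype.ext ((u_conj_u c a b).trans (by congr 1; ring)), eta_add, psi_comm] at h2
    exact mul_right_cancel₀ hne (h2.trans (one_mul _).symm)
  have h2 : a * (a + 1) = 0 := by rw [← this]; ring
  rcases mul_eq_zero.mp h2 with h | h
  · exact h0 h
  · exact h1 (by grind)

theorem norm_eta_one_zero : ‖eta F m (uu m 1 0)‖ = ‖eta F m 1‖ := by
  rw [← irr_eta.mem_charCenter, irr_eta.mem_charCenter_iff_commutator]
  rintro ⟨_, c, d, rfl⟩ x
  change eta F m (⁅uu m (1 : F) 0, uu m c d⁆ * x) = _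
  rw [show ⁅uu m (1 : F) 0, uu m c d⁆ = uu m 0 (th m 1 * c + th m c * 1) from
    Subtype.ext (commutator_u_u 1 0 c d), eta_mul, psi_comm]
  simp [CharTwo.add_self_eq_zero]

theorem norm_psi (b : F) : ‖psi m b‖ = 1 := by
  unfold psi
  split_ifs <;> simp

theorem eta_one : eta F m 1 = 2 ^ m := by
  classical
  have h1 := irr_eta (F := F) (m := m).sum_norm_sq
  have h2 := sum_uu fun x => ((‖eta F m x‖ ^ 2 : ℝ) : ℂ)
  rw [← Complex.ofReal_sum, h1, Finset.sum_eq_add_of_mem 0 1 (Finset.mem_univ _) (Finset.mem_univ _)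
    zero_ne_one fun a _ ha => by simp [eta_eq_zero ha.1 ha.2]] at h2
  have h3 : ∀ b : F, ‖eta F m (uu m 0 b)‖ = ‖eta F m 1‖ := fun b => by
    rw [← add_zero b, eta_add, norm_mul, norm_psi, uu_zero, one_mul]
  have h4 : ∀ b : F, ‖eta F m (uu m 1 b)‖ = ‖eta F m 1‖ := fun b => by
    rw [← add_zero b, eta_add, norm_mul, norm_psi, norm_eta_one_zero, one_mul]
  obtain ⟨n, -, hn⟩ := irr_eta (F := F) (m := m).exists_apply_one
  simp only [h3, h4, hn, Finset.sum_const, Finset.card_univ, card_U, Complex.norm_natCast,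
    nsmul_eq_mul] at h2
  have h5 : Fintype.card F ^ 2 = Fintype.card F * n ^ 2 + Fintype.card F * n ^ 2 := by
    exact_mod_cast h2
  have h6 : (2 ^ m) ^ 2 = n ^ 2 := by
    have h7 : Fintype.card F = 2 * (2 ^ m) ^ 2 := by
      rw [hF.card]
      ring
    have h8 := eight_le_card (F := F)
    apply Nat.eq_of_mul_eq_mul_left (show 0 < 2 * Fintype.card F by omega)
    nlinarith
  rw [hn, ← Nat.pow_left_injective two_ne_zero h6]
  push_cast
  rfl

variable (F m) in
/-- The value of `W1` at `u 1 0`. -/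
noncomputable def cW : ℂ := eta F m (uu m 1 0)

theorem eta_one_one : eta F m (uu m 1 1) = -cW F m := by
  simpa [cW] using eta_add (m := m) (1 : F) 0 1

theorem conj_cW : conj (cW F m) = -cW F m := by
  rw [← eta_one_one, cW, ← irr_eta.apply_inv]
  congr 1
  exact Subtype.ext u_inv_one_zero

theorem cW_mul_self : cW F m * cW F m = -(2 ^ m) ^ 2 := by
  have h1 := Complex.mul_conj (cW F m)
  rw [conj_cW, Complex.normSq_eq_norm_sq, cW, norm_eta_one_zero, eta_one] at h1
  simp only [norm_pow, Complex.norm_ofNat, Complex.ofReal_pow, Complex.ofReal_ofNat] at h1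
  rw [cW]
  linear_combination -h1

theorem norm_cW : ‖cW F m‖ = 2 ^ m := by
  rw [cW, norm_eta_one_zero, eta_one]
  simp

/-! ### Tables of values -/

/-- The values of a function on the class representatives. -/
structure Vals (f : Cfsg.Sz F m → ℂ) (a b c d : ℂ) (eH e1 e2 : Cfsg.Sz F m → ℂ) : Prop where
  one : f 1 = a
  i : f (u m 0 1) = b
  y : f (u m 1 0) = c
  y' : f (u m 1 1) = d
  onH : ∀ t ∈ H F m, t ≠ 1 → f t = eH t
  on1 : ∀ t ∈ T1 F m, t ≠ 1 → f t = e1 t
  on2 : ∀ t ∈ T2 F m, t ≠ 1 → f t = e2 t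

theorem mem_cU_i : u m 0 1 ∈ conjUnion (U F m) :=
  mem_conjUnion_self (u_mem_U _ _) (u_zero_ne_one one_ne_zero)

theorem u_one_ne_one (b : F) : u m 1 b ≠ 1 := by simp [u_eq_one]

theorem mem_cU_y (b : F) : u m 1 b ∈ conjUnion (U F m) :=
  mem_conjUnion_self (u_mem_U _ _) (u_one_ne_one b)

theorem disjoint_B_T {A : Subgroup (Cfsg.Sz F m)} (hA : A ≤ B F m) {z : Cfsg.Sz F m}
    (hz : Elliptic z) : Disjoint (conjUnion A) (conjUnion (Subgroup.centralizer {z})) :=
  Set.disjoint_left.mpr fun _ h h' => not_elliptic_of_mem_conjUnion hA h (hz.of_mem_conjUnion h')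

theorem ind_eq_zero {A A' : Subgroup (Cfsg.Sz F m)} (h : Disjoint (conjUnion A) (conjUnion A'))
    (θ : A' → ℂ) {g : Cfsg.Sz F m} (hg : g ∈ A) (h1 : g ≠ 1) : indFun A' θ g = 0 :=
  indFun_eq_zero_of_not_mem_conjUnion θ h1 (Set.disjoint_left.mp h (mem_conjUnion_self hg h1))

theorem cast_index {A : Subgroup (Cfsg.Sz F m)} {c : ℂ}
    (h : c * Nat.card A = Fintype.card F ^ 2 * (Fintype.card F ^ 2 + 1) * (Fintype.card F - 1)) :
    (A.index : ℂ) = c := by
  apply mul_right_cancel₀ (card_ne_zero_complex (G := A))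
  rw [h, ← cast_card_Sz, ← A.index_mul_card]
  push_cast
  rfl

theorem vals_indH (θ : H F m → ℂ) : Vals (indFun (H F m) θ)
    (Fintype.card F ^ 2 * (Fintype.card F ^ 2 + 1) * θ 1) 0 0 0 (indFun (H F m) θ) 0 0 where
  one := by rw [indFun_apply_one, cast_index (by rw [cast_card_H])]
  i := ind_eq_zero disjoint_conjUnion_U_H θ (u_mem_U _ _) (u_zero_ne_one one_ne_zero)
  y := ind_eq_zero disjoint_conjUnion_U_H θ (u_mem_U _ _) (u_one_ne_one _)
  y' := ind_eq_zero disjoint_conjUnion_U_H θ (u_mem_U _ _) (u_one_ne_one _)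
  onH _ _ _ := rfl
  on1 _ ht h1 := ind_eq_zero (disjoint_B_T H_le_B ell_t1).symm θ ht h1
  on2 _ ht h1 := ind_eq_zero (disjoint_B_T H_le_B ell_t2).symm θ ht h1

theorem vals_ind1 (θ : T1 F m → ℂ) : Vals (indFun (T1 F m) θ)
    (Fintype.card F ^ 2 * (Fintype.card F - 1) * (Fintype.card F - 2 * 2 ^ m + 1) * θ 1) 0 0 0 0
    (indFun (T1 F m) θ) 0 where
  one := by
    rw [indFun_apply_one, cast_index (c := Fintype.card F ^ 2 * (Fintype.card F - 1) * (Fintype.card F - 2 * 2 ^ m + 1))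
      (by rw [cast_card_T1, cast_card]; ring)]
  i := ind_eq_zero (disjoint_B_T U_le_B ell_t1) θ (u_mem_U _ _) (u_zero_ne_one one_ne_zero)
  y := ind_eq_zero (disjoint_B_T U_le_B ell_t1) θ (u_mem_U _ _) (u_one_ne_one _)
  y' := ind_eq_zero (disjoint_B_T U_le_B ell_t1) θ (u_mem_U _ _) (u_one_ne_one _)
  onH _ ht h1 := ind_eq_zero (disjoint_B_T H_le_B ell_t1) θ ht h1
  on1 _ _ _ := rfl
  on2 _ ht h1 := ind_eq_zero disjoint_T.symm θ ht h1

theorem vals_ind2 (θ : T2 F m → ℂ) : Vals (indFun (T2 F m) θ)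
    (Fintype.card F ^ 2 * (Fintype.card F - 1) * (Fintype.card F + 2 * 2 ^ m + 1) * θ 1) 0 0 0 0 0
    (indFun (T2 F m) θ) where
  one := by
    rw [indFun_apply_one, cast_index (c := Fintype.card F ^ 2 * (Fintype.card F - 1) * (Fintype.card F + 2 * 2 ^ m + 1))
      (by rw [cast_card_T2, cast_card]; ring)]
  i := ind_eq_zero (disjoint_B_T U_le_B ell_t2) θ (u_mem_U _ _) (u_zero_ne_one one_ne_zero)
  y := ind_eq_zero (disjoint_B_T U_le_B ell_t2) θ (u_mem_U _ _) (u_one_ne_one _)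
  y' := ind_eq_zero (disjoint_B_T U_le_B ell_t2) θ (u_mem_U _ _) (u_one_ne_one _)
  onH _ ht h1 := ind_eq_zero (disjoint_B_T H_le_B ell_t2) θ ht h1
  on1 _ ht h1 := ind_eq_zero disjoint_T θ ht h1
  on2 _ _ _ := rfl

variable (F m) in
/-- The permutation character on the ovoid. -/
noncomputable def perm : Cfsg.Sz F m → ℂ :=
  fun g => (Nat.card (fixedBy (Cfsg.suzukiOvoid F m) g) : ℂ)

theorem perm_U {x : Cfsg.Sz F m} (hx : x ∈ U F m) (h1 : x ≠ 1) : perm F m x = 1 := by
  have : fixedBy (Cfsg.suzukiOvoid F m) x = {ptInf F m} :=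
    Set.eq_singleton_iff_unique_mem.mpr ⟨U_le_B hx, fun p hp => fix_of_mem_U hx h1 hp⟩
  simp [perm, this]

theorem perm_ell {x : Cfsg.Sz F m} (hx : Elliptic x) : perm F m x = 0 := by
  have : fixedBy (Cfsg.suzukiOvoid F m) x = ∅ := Set.eq_empty_of_forall_notMem hx
  simp [perm, this]

theorem vals_perm : Vals (perm F m) (Fintype.card F ^ 2 + 1) 1 1 1 2 0 0 where
  one := by
    simp only [perm, fixedBy_one_eq_univ, Nat.card_univ, card_ovoid]
    push_cast
    rfl
  i := perm_U (u_mem_U _ _) (u_zero_ne_one one_ne_zero)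
  y := perm_U (u_mem_U _ _) (u_one_ne_one _)
  y' := perm_U (u_mem_U _ _) (u_one_ne_one _)
  onH := by
    rintro _ ⟨s, rfl⟩ h1
    have hs : s ≠ 1 := by
      rintro rfl
      exact h1 (map_one _)
    have : fixedBy (Cfsg.suzukiOvoid F m) (h m s) = {ptInf F m, pt m 0 0} := by
      ext p
      refine ⟨fun hp => fix_of_h hs hp, ?_⟩
      rintro (rfl | rfl) <;> simp
    rw [perm, hHom_apply, this, Nat.card_coe_set_eq, Set.ncard_pair (pt_ne_ptInf _ _).symm]
    simp
  on1 _ ht h1 := perm_ell (ell_t1.of_mem_centralizer ht h1)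
  on2 _ ht h1 := perm_ell (ell_t2.of_mem_centralizer ht h1)

open Classical in
theorem ind_eta_U (x : U F m) (h1 : x ≠ 1) : indFun (U F m) (eta F m) x =
    ∑ s : Fˣ, eta F m ⟨h m s * x * (h m s)⁻¹, conj_mem_U (H_le_B (h_mem_H s)) x.2⟩ := by
  rw [isTI_U.ind_apply _ x.2 fun h => h1 (Subtype.ext h)]
  have hb : Function.Bijective fun p : U F m × Fˣ =>
      (⟨p.1 * h m p.2, mul_mem (U_le_B p.1.2) (H_le_B (h_mem_H _))⟩ : B F m) := by
    constructor
    · rintro ⟨⟨_, a, b, rfl⟩, s⟩ ⟨⟨_, c, d, rfl⟩, t⟩ h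
      obtain ⟨rfl, rfl, rfl⟩ := uh_inj (congrArg Subtype.val h)
      rfl
    · rintro ⟨g, hg⟩
      obtain ⟨a, b, s, rfl⟩ := mem_B_iff.mp hg
      exact ⟨(uu m a b, s), rfl⟩
  rw [← hb.sum_comp, Fintype.sum_prod_type,
    Finset.sum_congr rfl (g := fun _ => ∑ s : Fˣ, eta F m ⟨h m s * x * (h m s)⁻¹,
      conj_mem_U (H_le_B (h_mem_H s)) x.2⟩) fun v _ => Finset.sum_congr rfl fun s _ => ?_]
  · rw [Finset.sum_const, Finset.card_univ, ← Nat.card_eq_fintype_card, nsmul_eq_mul,
      inv_mul_cancel_left₀ card_ne_zero_complex]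
  · refine Eq.trans ?_ (irr_eta.isClassFunction _ v)
    congr 1
    apply Subtype.ext
    simp [mul_assoc]

theorem ind_eta_y (b : F) : indFun (U F m) (eta F m) (u m 1 b) = eta F m (uu m 1 b) := by
  classical
  refine (ind_eta_U (uu m 1 b) fun h => u_one_ne_one b (congrArg Subtype.val h)).trans ?_
  rw [Finset.sum_eq_single 1]
  · congr 1
    apply Subtype.ext
    simp
  · intro s _ hs
    refine Eq.trans (congrArg (eta F m) (Subtype.ext (h_conj_u s 1 b) : _ = uu m _ _))
      (eta_eq_zero (a := th m (s : F) * 1) ?_ ?_ (th m (s : F) * (s : F) ^ 2 * b))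
    · simp [th_eq_zero]
    · rw [mul_one]
      exact fun h => hs (Units.ext (th_eq_one h))
  · simp

theorem vals_ind_eta : Vals (indFun (U F m) (eta F m))
    ((Fintype.card F ^ 2 + 1) * (Fintype.card F - 1) * 2 ^ m) (-2 ^ m) (cW F m) (-cW F m) 0 0 0 where
  one := by rw [indFun_apply_one, eta_one, 
    cast_index (c := (Fintype.card F ^ 2 + 1) * (Fintype.card F - 1)) (by rw [card_U]; push_cast; ring)]
  i := by
    classical
    refine (ind_eta_U (uu m 0 1) fun h => u_zero_ne_one one_ne_zero (congrArg Subtype.val h)).trans ?_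
    have h1 : ∀ s : Fˣ, eta F m ⟨h m s * (uu m 0 1 : U F m) * (h m s)⁻¹,
        conj_mem_U (H_le_B (h_mem_H s)) (uu m 0 1).2⟩ = psi m (th m (s : F) * (s : F) ^ 2) * 2 ^ m := by
      intro s
      rw [← eta_one (F := F), ← eta_mul, mul_one]
      congr 1
      exact Subtype.ext ((h_conj_u s 0 1).trans (by simp [uu]))
    simp only [h1, ← Finset.sum_mul]
    have h2 := (Finite.injective_iff_bijective.mp (th_mul_sq_injective (F := F) (m := m))).sum_comp
      (psi m)
    rw [sum_psi, ← Finset.add_sum_erase _ _ (Finset.mem_univ (0 : F))] at h2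
    have h3 : ∑ s : Fˣ, psi m (th m (s : F) * (s : F) ^ 2) =
        ∑ x ∈ Finset.univ.erase (0 : F), psi m (th m x * x ^ 2) := by
      refine Finset.sum_of_injOn Units.val Units.val_injective.injOn (by simp) ?_ (by simp)
      intro x hx h
      exact absurd ⟨Units.mk0 x (Finset.ne_of_mem_erase hx), by simp, rfl⟩ h
    simp only [map_zero, zero_mul, psi_zero] at h2
    rw [h3, eq_neg_of_add_eq_zero_right h2]
    ring
  y := ind_eta_y 0
  y' := (ind_eta_y 1).trans eta_one_one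
  onH _ ht h1 := ind_eq_zero disjoint_conjUnion_U_H.symm _ ht h1
  on1 _ ht h1 := ind_eq_zero (disjoint_B_T U_le_B ell_t1).symm _ ht h1
  on2 _ ht h1 := ind_eq_zero (disjoint_B_T U_le_B ell_t2).symm _ ht h1

/-- The permutation character on the conjugates of a torus. -/
noncomputable def PT (z : Cfsg.Sz F m) : Cfsg.Sz F m → ℂ :=
  indFun (Subgroup.normalizer (Subgroup.centralizer {z} : Set (Cfsg.Sz F m))) fun _ => 1

theorem PT_self {z t : Cfsg.Sz F m} (hz : Tor z) (ht : t ∈ Subgroup.centralizer {z}) (h1 : t ≠ 1) :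
    PT z t = 1 :=
  indFun_apply_of_TI _ (isClassFunction_const 1) ⟨t, Subgroup.le_normalizer ht⟩ fun x hx _ =>
    hz.mem_normalizer ht h1 (hz.mem_of_mem_normalizer ((hz.of_mem ht h1).conj x) hx)

theorem PT_eq_zero {z s t : Cfsg.Sz F m} (hz : Tor z) (hs : Tor s)
    (h : Disjoint (conjUnion (Subgroup.centralizer {s})) (conjUnion (Subgroup.centralizer {z})))
    (ht : t ∈ Subgroup.centralizer {s}) (h1 : t ≠ 1) : PT z t = 0 :=
  indFun_eq_zero_of_not_conj _ _ fun x hx => Set.disjoint_left.mp h (mem_conjUnion_self ht h1)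
    ⟨x⁻¹, _, hz.mem_of_mem_normalizer ((hs.of_mem ht h1).conj x) hx,
      ((hs.of_mem ht h1).conj x).1, by group⟩

theorem PT_H {z t : Cfsg.Sz F m} (hz : Elliptic z) (ht : t ∈ H F m) (h1 : t ≠ 1) : PT z t = 0 := by
  obtain ⟨s, hs⟩ := exists_unit_ne_one (F := F)
  rw [← centralizer_h hs] at ht
  exact PT_eq_zero hz.tor (tor_h hs) (by rw [centralizer_h hs]; exact disjoint_B_T H_le_B hz) ht h1

theorem PT_two {z x : Cfsg.Sz F m} (hz : Elliptic z) (h1 : x ≠ 1) (h4 : x ^ 4 = 1) :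
    PT z x = (Nat.card (Subgroup.centralizer {x}) : ℂ) / 4 *
      (cind x (u m 0 1) + cind x (u m 1 0) + cind x (u m 1 1)) := by
  have h2 := indFun_one_mul_card
    (Subgroup.normalizer (Subgroup.centralizer {z} : Set (Cfsg.Sz F m))) x
  rw [hz.sum_normalizer (isClassFunction_cind x), Finset.sum_eq_zero, hz.card_normalizer] at h2
  · have e2 : (Nat.card (Subgroup.centralizer {z}) : ℂ) ≠ 0 := card_ne_zero_complex
    push_cast at h2
    apply mul_right_cancel₀ e2
    rw [PT]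
    linear_combination (1 / 4 : ℂ) * h2
  · intro t _
    apply if_neg
    intro h
    obtain ⟨k, hk⟩ := isConj_iff.mp h
    refine (hz.tor.of_mem t.2 ?_).pow_four_ne ?_
    · rw [← hk]
      exact fun h => h1 (conj_eq_one_iff.mp h)
    · rw [← hk, conj_pow, h4]
      simp

theorem vals_D : Vals (PT (t2 F m) - PT (t1 F m)) (Fintype.card F ^ 2 * (Fintype.card F - 1) * 2 ^ m)
    0 0 0 0 (-1) 1 where
  one := by
    simp only [Pi.sub_apply, PT, indFun_apply_one]
    rw [cast_index (c := Fintype.card F ^ 2 * (Fintype.card F - 1) * (Fintype.card F + 2 * 2 ^ m + 1) / 4)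
      (by rw [ell_t2.card_normalizer]; push_cast; rw [cast_card_T2, cast_card]; ring),
      cast_index (c := Fintype.card F ^ 2 * (Fintype.card F - 1) * (Fintype.card F - 2 * 2 ^ m + 1) / 4)
      (by rw [ell_t1.card_normalizer]; push_cast; rw [cast_card_T1, cast_card]; ring)]
    ring
  i := by
    rw [Pi.sub_apply, PT_two ell_t1 (u_zero_ne_one one_ne_zero) (u_pow_four _ _),
      PT_two ell_t2 (u_zero_ne_one one_ne_zero) (u_pow_four _ _), sub_self]
  y := by
    rw [Pi.sub_apply, PT_two ell_t1 (u_one_ne_one _) (u_pow_four _ _),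
      PT_two ell_t2 (u_one_ne_one _) (u_pow_four _ _), sub_self]
  y' := by
    rw [Pi.sub_apply, PT_two ell_t1 (u_one_ne_one _) (u_pow_four _ _),
      PT_two ell_t2 (u_one_ne_one _) (u_pow_four _ _), sub_self]
  onH t ht h1 := by simp [PT_H ell_t1 ht h1, PT_H ell_t2 ht h1]
  on1 t ht h1 := by
    simp [PT_self ell_t1.tor ht h1, PT_eq_zero ell_t2.tor ell_t1.tor disjoint_T ht h1]
  on2 t ht h1 := by
    simp [PT_self ell_t2.tor ht h1, PT_eq_zero ell_t1.tor ell_t2.tor disjoint_T.symm ht h1]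

/-! ### The irreducible characters -/

variable (F m) in
/-- The character of degree `r (q - 1) / 2`. -/
noncomputable def W1 : Cfsg.Sz F m → ℂ := indFun (U F m) (eta F m) - (PT (t2 F m) - PT (t1 F m))

variable (F m) in
/-- The complex conjugate of `W1`. -/
noncomputable def W2 : Cfsg.Sz F m → ℂ := fun g => conj (W1 F m g)

variable (F m) in
/-- The Steinberg character. -/
noncomputable def stX : Cfsg.Sz F m → ℂ := perm F m - fun _ => 1

/-- The principal series. -/
noncomputable def XL (θ : H F m → ℂ) : Cfsg.Sz F m → ℂ :=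
  indFun (H F m) θ - indFun (H F m) (fun _ => 1) + perm F m

/-- The discrete series of the torus of order `q + r + 1`. -/
noncomputable def YL (θ : T1 F m → ℂ) : Cfsg.Sz F m → ℂ :=
  indFun (T1 F m) (fun _ => 1) - indFun (T1 F m) θ + (stX F m - (fun _ => 1) - W1 F m - W2 F m)

/-- The discrete series of the torus of order `q - r + 1`. -/
noncomputable def ZL (θ : T2 F m → ℂ) : Cfsg.Sz F m → ℂ :=
  indFun (T2 F m) (fun _ => 1) - indFun (T2 F m) θ + (stX F m - (fun _ => 1) + W1 F m + W2 F m)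

theorem vals_W1 : Vals (W1 F m) (2 ^ m * (Fintype.card F - 1)) (-2 ^ m) (cW F m) (-cW F m) 0 1 (-1) where
  one := by rw [W1, Pi.sub_apply, vals_ind_eta.one, vals_D.one]; ring
  i := by rw [W1, Pi.sub_apply, vals_ind_eta.i, vals_D.i]; ring
  y := by rw [W1, Pi.sub_apply, vals_ind_eta.y, vals_D.y]; ring
  y' := by rw [W1, Pi.sub_apply, vals_ind_eta.y', vals_D.y']; ring
  onH t ht h1 := by rw [W1, Pi.sub_apply, vals_ind_eta.onH t ht h1, vals_D.onH t ht h1]; simp
  on1 t ht h1 := by rw [W1, Pi.sub_apply, vals_ind_eta.on1 t ht h1, vals_D.on1 t ht h1]; simp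
  on2 t ht h1 := by rw [W1, Pi.sub_apply, vals_ind_eta.on2 t ht h1, vals_D.on2 t ht h1]; simp

theorem vals_W2 : Vals (W2 F m) (2 ^ m * (Fintype.card F - 1)) (-2 ^ m) (-cW F m) (cW F m) 0 1 (-1) where
  one := by simp [W2, vals_W1.one, map_ofNat]
  i := by simp [W2, vals_W1.i, map_ofNat]
  y := by simp [W2, vals_W1.y, conj_cW]
  y' := by simp [W2, vals_W1.y', conj_cW]
  onH t ht h1 := by simp [W2, vals_W1.onH t ht h1]
  on1 t ht h1 := by simp [W2, vals_W1.on1 t ht h1]
  on2 t ht h1 := by simp [W2, vals_W1.on2 t ht h1]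

theorem vals_stX : Vals (stX F m) (Fintype.card F ^ 2) 0 0 0 1 (-1) (-1) where
  one := by simp [stX, vals_perm.one]
  i := by simp [stX, vals_perm.i]
  y := by simp [stX, vals_perm.y]
  y' := by simp [stX, vals_perm.y']
  onH t ht h1 := by simp [stX, vals_perm.onH t ht h1]; norm_num
  on1 t ht h1 := by simp [stX, vals_perm.on1 t ht h1]
  on2 t ht h1 := by simp [stX, vals_perm.on2 t ht h1]

theorem vals_XL {θ : H F m → ℂ} (h : θ 1 = 1) :
    Vals (XL θ) (Fintype.card F ^ 2 + 1) 1 1 1 (indFun (H F m) θ) 0 0 where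
  one := by simp [XL, (vals_indH _).one, vals_perm.one, h]
  i := by simp [XL, (vals_indH _).i, vals_perm.i]
  y := by simp [XL, (vals_indH _).y, vals_perm.y]
  y' := by simp [XL, (vals_indH _).y', vals_perm.y']
  onH t ht h1 := by simp [XL, isTorus_H.ind_one_apply ht h1, vals_perm.onH t ht h1]
  on1 t ht h1 := by simp [XL, (vals_indH _).on1 t ht h1, vals_perm.on1 t ht h1]
  on2 t ht h1 := by simp [XL, (vals_indH _).on2 t ht h1, vals_perm.on2 t ht h1]

theorem vals_YL {θ : T1 F m → ℂ} (h : θ 1 = 1) :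
    Vals (YL θ) ((Fintype.card F - 2 * 2 ^ m + 1) * (Fintype.card F - 1)) (2 * 2 ^ m - 1) (-1) (-1) 0
      (-indFun (T1 F m) θ) 0 where
  one := by
    simp only [YL, Pi.add_apply, Pi.sub_apply, (vals_ind1 _).one, vals_stX.one, vals_W1.one,
      vals_W2.one, h]
    ring
  i := by simp [YL, (vals_ind1 _).i, vals_stX.i, vals_W1.i, vals_W2.i]; ring
  y := by simp [YL, (vals_ind1 _).y, vals_stX.y, vals_W1.y, vals_W2.y]
  y' := by simp [YL, (vals_ind1 _).y', vals_stX.y', vals_W1.y', vals_W2.y']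
  onH t ht h1 := by
    simp [YL, (vals_ind1 _).onH t ht h1, vals_stX.onH t ht h1, vals_W1.onH t ht h1,
      vals_W2.onH t ht h1]
  on1 t ht h1 := by
    simp [YL, ell_t1.isTorus.ind_one_apply ht h1, vals_stX.on1 t ht h1, vals_W1.on1 t ht h1,
      vals_W2.on1 t ht h1]
    ring
  on2 t ht h1 := by
    simp [YL, (vals_ind1 _).on2 t ht h1, vals_stX.on2 t ht h1, vals_W1.on2 t ht h1,
      vals_W2.on2 t ht h1]

theorem vals_ZL {θ : T2 F m → ℂ} (h : θ 1 = 1) :
    Vals (ZL θ) ((Fintype.card F + 2 * 2 ^ m + 1) * (Fintype.card F - 1)) (-(2 * 2 ^ m) - 1) (-1) (-1)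
      0 0 (-indFun (T2 F m) θ) where
  one := by
    simp only [ZL, Pi.add_apply, Pi.sub_apply, (vals_ind2 _).one, vals_stX.one, vals_W1.one,
      vals_W2.one, h]
    ring
  i := by simp [ZL, (vals_ind2 _).i, vals_stX.i, vals_W1.i, vals_W2.i]; ring
  y := by simp [ZL, (vals_ind2 _).y, vals_stX.y, vals_W1.y, vals_W2.y]
  y' := by simp [ZL, (vals_ind2 _).y', vals_stX.y', vals_W1.y', vals_W2.y']
  onH t ht h1 := by
    simp [ZL, (vals_ind2 _).onH t ht h1, vals_stX.onH t ht h1, vals_W1.onH t ht h1,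
      vals_W2.onH t ht h1]
  on1 t ht h1 := by
    simp [ZL, (vals_ind2 _).on1 t ht h1, vals_stX.on1 t ht h1, vals_W1.on1 t ht h1,
      vals_W2.on1 t ht h1]
  on2 t ht h1 := by
    simp [ZL, ell_t2.isTorus.ind_one_apply ht h1, vals_stX.on2 t ht h1, vals_W1.on2 t ht h1,
      vals_W2.on2 t ht h1]
    ring

theorem gen_perm : IsGeneralizedCharacter _ (perm F m) := (isCharacter_fixedBy _).isGen

theorem gen_W1 : IsGeneralizedCharacter _ (W1 F m) :=
  irr_eta.isGen.indFun.sub (isGen_one.indFun.sub isGen_one.indFun)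

theorem gen_W2 : IsGeneralizedCharacter _ (W2 F m) := gen_W1.conj

theorem gen_stX : IsGeneralizedCharacter _ (stX F m) := gen_perm.sub isGen_one

theorem sum_sub_const {T : Subgroup (Cfsg.Sz F m)} {f : Cfsg.Sz F m → ℂ} {c : ℂ}
    (h : ∀ t ∈ T, t ≠ 1 → f t = c) :
    ∑ t : T, f t * conj (f t) - f 1 * conj (f 1) = (Nat.card T - 1) * (c * conj c) := by
  classical
  rw [← Finset.add_sum_erase _ _ (Finset.mem_univ (1 : T)), OneMemClass.coe_one, add_sub_cancel_left,
    Finset.sum_congr rfl (g := fun _ => c * conj c) fun t ht => by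
      rw [h t t.2 fun h => Finset.ne_of_mem_erase ht (Subtype.ext h)],
    Finset.sum_const, Finset.card_erase_of_mem (Finset.mem_univ _), Finset.card_univ,
    ← Nat.card_eq_fintype_card, nsmul_eq_mul, Nat.cast_sub Nat.card_pos, Nat.cast_one]

theorem irr_of_sum {f : Cfsg.Sz F m → ℂ} (hf : IsGeneralizedCharacter _ f) {n : ℕ} (h1 : f 1 = n)
    {a b c : ℂ} (ha : ∑ t : H F m, f t * conj (f t) - f 1 * conj (f 1) = a)
    (hb : ∑ t : T1 F m, f t * conj (f t) - f 1 * conj (f 1) = b)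
    (hc : ∑ t : T2 F m, f t * conj (f t) - f 1 * conj (f 1) = c)
    (h : f 1 * conj (f 1) + (Fintype.card F ^ 2 + 1) *
      ((Fintype.card F - 1) * (f (u m 0 1) * conj (f (u m 0 1))) +
        Fintype.card F * (Fintype.card F - 1) / 2 * (f (u m 1 0) * conj (f (u m 1 0)) +
          f (u m 1 1) * conj (f (u m 1 1)))) +
      Fintype.card F ^ 2 * (Fintype.card F ^ 2 + 1) / 2 * a +
      Fintype.card F ^ 2 * (Fintype.card F - 1) * (Fintype.card F - 2 * 2 ^ m + 1) / 4 * b +
      Fintype.card F ^ 2 * (Fintype.card F - 1) * (Fintype.card F + 2 * 2 ^ m + 1) / 4 * c =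
      Fintype.card F ^ 2 * (Fintype.card F ^ 2 + 1) * (Fintype.card F - 1)) :
    IsIrrCharacter _ f := by
  refine hf.isIrr_of_classInner_self_of_apply_one ?_ (by simp [h1])
  apply mul_left_cancel₀ (card_ne_zero_complex (G := Cfsg.Sz F m))
  rw [card_mul_classInner, sum_eq (f := fun g => f g * conj (f g))
    (hf.isClassFunction.mul hf.isClassFunction.conj), ha, hb, hc, h, cast_card_Sz, mul_one]

theorem cast_deg_W : (2 ^ m * (Fintype.card F - 1) : ℂ) = (2 ^ m * (Fintype.card F - 1) : ℕ) := by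
  push_cast [Nat.cast_sub (Fintype.card_pos (α := F))]
  rfl

theorem cast_deg_Y : ((Fintype.card F - 2 * 2 ^ m + 1) * (Fintype.card F - 1) : ℂ) =
    ((Fintype.card F - 2 ^ (m + 1) + 1) * (Fintype.card F - 1) : ℕ) := by
  rw [← cast_card_T2, card_T2]
  push_cast [Nat.cast_sub (Fintype.card_pos (α := F))]
  rfl

theorem cast_deg_Z : ((Fintype.card F + 2 * 2 ^ m + 1) * (Fintype.card F - 1) : ℂ) =
    ((Fintype.card F + 2 ^ (m + 1) + 1) * (Fintype.card F - 1) : ℕ) := by
  push_cast [Nat.cast_sub (Fintype.card_pos (α := F))]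
  ring

theorem irr_W1 : IsIrrCharacter _ (W1 F m) := by
  refine irr_of_sum gen_W1 (vals_W1.one.trans cast_deg_W) (sum_sub_const (c := 0) vals_W1.onH)
    (sum_sub_const (c := 1) vals_W1.on1) (sum_sub_const (c := -1) vals_W1.on2) ?_
  simp only [vals_W1.one, vals_W1.i, vals_W1.y, vals_W1.y', cast_card_T1, cast_card_T2, map_mul,
    map_sub, map_neg, map_pow, map_natCast, map_one, map_ofNat, map_zero, conj_cW, cast_card]
  linear_combination (-((2 * (2 ^ m) ^ 2) ^ 2 + 1) * (2 * (2 ^ m) ^ 2 * (2 * (2 ^ m) ^ 2 - 1)) : ℂ) *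
    cW_mul_self (F := F) (m := m)

theorem irr_W2 : IsIrrCharacter _ (W2 F m) := irr_W1.conj

theorem irr_stX : IsIrrCharacter _ (stX F m) := by
  refine irr_of_sum gen_stX (n := Fintype.card F ^ 2) (vals_stX.one.trans (by simp))
    (sum_sub_const (c := 1) vals_stX.onH) (sum_sub_const (c := -1) vals_stX.on1)
    (sum_sub_const (c := -1) vals_stX.on2) ?_
  simp only [vals_stX.one, vals_stX.i, vals_stX.y, vals_stX.y', cast_card_T1, cast_card_T2,
    cast_card_H, map_mul, map_neg, map_pow, map_one, map_ofNat, map_zero, cast_card]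
  ring

theorem irr_XL {θ : H F m → ℂ} (h : IsIrrCharacter _ θ) (hne : θ ≠ fun _ => 1) :
    IsIrrCharacter _ (XL θ) := by
  have hv := vals_XL (isTorus_H.irr_one h)
  refine irr_of_sum ((h.isGen.indFun.sub isGen_one.indFun).add gen_perm) (n := Fintype.card F ^ 2 + 1)
    (hv.one.trans (by simp)) (isTorus_H.sum_normSq_ind h hne (c := 1) (by simpa using hv.onH))
    (sum_sub_const (c := 0) hv.on1) (sum_sub_const (c := 0) hv.on2) ?_
  simp only [hv.one, hv.i, hv.y, hv.y', cast_card_H, map_mul, map_add, map_pow, map_one, map_ofNat,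
    map_zero, cast_card]
  ring

theorem irr_YL {θ : T1 F m → ℂ} (h : IsIrrCharacter _ θ) (hne : θ ≠ fun _ => 1) :
    IsIrrCharacter _ (YL θ) := by
  have hv := vals_YL (ell_t1.isTorus.irr_one h)
  refine irr_of_sum ((isGen_one.indFun.sub h.isGen.indFun).add
    (((gen_stX.sub isGen_one).sub gen_W1).sub gen_W2)) (hv.one.trans cast_deg_Y)
    (sum_sub_const (c := 0) hv.onH) (ell_t1.isTorus.sum_normSq_ind h hne (c := -1) (by simpa using hv.on1))
    (sum_sub_const (c := 0) hv.on2) ?_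
  simp only [hv.one, hv.i, hv.y, hv.y', cast_card_T1, map_mul, map_add, map_sub, map_neg, map_pow,
    map_one, map_ofNat, map_zero, cast_card]
  push_cast
  ring

theorem irr_ZL {θ : T2 F m → ℂ} (h : IsIrrCharacter _ θ) (hne : θ ≠ fun _ => 1) :
    IsIrrCharacter _ (ZL θ) := by
  have hv := vals_ZL (ell_t2.isTorus.irr_one h)
  refine irr_of_sum ((isGen_one.indFun.sub h.isGen.indFun).add
    (((gen_stX.sub isGen_one).add gen_W1).add gen_W2)) (hv.one.trans cast_deg_Z)
    (sum_sub_const (c := 0) hv.onH) (sum_sub_const (c := 0) hv.on1)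
    (ell_t2.isTorus.sum_normSq_ind h hne (c := -1) (by simpa using hv.on2)) ?_
  simp only [hv.one, hv.i, hv.y, hv.y', cast_card_T2, map_mul, map_add, map_sub, map_neg, map_pow,
    map_one, map_ofNat, map_zero, cast_card]
  push_cast
  ring

/-! ### Enumeration of the irreducible characters -/

/-- The non-principal irreducible characters. -/
noncomputable def nt (T : Subgroup (Cfsg.Sz F m)) : Finset (IrrCharacter T) :=
  open Classical in Finset.univ.erase (irrOne T)

theorem ne_of_mem_nt {T : Subgroup (Cfsg.Sz F m)} {θ : IrrCharacter T} (h : θ ∈ nt T) :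
    (θ : T → ℂ) ≠ fun _ => 1 := fun h' => by
  classical
  exact Finset.ne_of_mem_erase h (Subtype.ext h')

theorem mem_nt {T : Subgroup (Cfsg.Sz F m)} {θ : IrrCharacter T} : θ ∈ nt T ↔ θ ≠ irrOne T := by
  simp [nt]

theorem sum_nt_const {T N : Subgroup (Cfsg.Sz F m)} {e : ℕ} (h : IsTorus T N e)
    {f : IrrCharacter T → ℂ} {c : ℂ} (hf : ∀ θ : IrrCharacter T, (θ : T → ℂ) 1 = 1 → f θ = c) :
    ∑ θ ∈ nt T, f θ = (Nat.card T - 1) * c := by
  classical
  rw [Finset.sum_congr rfl fun θ _ => hf θ (h.irr_one θ.2), Finset.sum_const, nt,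
    Finset.card_erase_of_mem (Finset.mem_univ _), Finset.card_univ, h.card_irr, nsmul_eq_mul,
    Nat.cast_sub Nat.card_pos, Nat.cast_one]

theorem sum_nt_ind {T N : Subgroup (Cfsg.Sz F m)} {e : ℕ} (h : IsTorus T N e) {t : Cfsg.Sz F m}
    (ht : t ∈ T) (h1 : t ≠ 1) {f : IrrCharacter T → ℂ} {c : ℂ}
    (hf : ∀ θ : IrrCharacter T, (θ : T → ℂ) 1 = 1 → f θ = c * indFun T θ t) :
    ∑ θ ∈ nt T, f θ = -c * e := by
  classical
  have := h.sum_ind h1
  rw [← Finset.add_sum_erase _ _ (Finset.mem_univ (irrOne T)), coe_irrOne,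
    h.ind_one_apply ht h1] at this
  rw [Finset.sum_congr rfl fun θ _ => hf θ (h.irr_one θ.2), ← Finset.mul_sum, nt]
  linear_combination c * this

theorem vals_SX : Vals (fun g => ∑ θ ∈ nt (H F m), XL θ.1 g)
    ((Fintype.card F - 2) * (Fintype.card F ^ 2 + 1)) (Fintype.card F - 2) (Fintype.card F - 2)
    (Fintype.card F - 2) (-2) 0 0 where
  one := by rw [sum_nt_const isTorus_H fun _ h => (vals_XL h).one, cast_card_H]; ring
  i := by rw [sum_nt_const isTorus_H fun _ h => (vals_XL h).i, cast_card_H]; ring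
  y := by rw [sum_nt_const isTorus_H fun _ h => (vals_XL h).y, cast_card_H]; ring
  y' := by rw [sum_nt_const isTorus_H fun _ h => (vals_XL h).y', cast_card_H]; ring
  onH t ht h1 := by
    rw [sum_nt_ind isTorus_H ht h1 (c := 1) fun _ h => by simpa using (vals_XL h).onH t ht h1]
    simp
  on1 t ht h1 := by
    rw [sum_nt_const isTorus_H (c := 0) fun _ h => (vals_XL h).on1 t ht h1]
    simp
  on2 t ht h1 := by
    rw [sum_nt_const isTorus_H (c := 0) fun _ h => (vals_XL h).on2 t ht h1]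
    simp

theorem vals_SY : Vals (fun g => ∑ θ ∈ nt (T1 F m), YL θ.1 g)
    ((Fintype.card F + 2 * 2 ^ m) * ((Fintype.card F - 2 * 2 ^ m + 1) * (Fintype.card F - 1)))
    ((Fintype.card F + 2 * 2 ^ m) * (2 * 2 ^ m - 1)) (-(Fintype.card F + 2 * 2 ^ m))
    (-(Fintype.card F + 2 * 2 ^ m)) 0 4 0 where
  one := by rw [sum_nt_const ell_t1.isTorus fun _ h => (vals_YL h).one, cast_card_T1]; ring
  i := by rw [sum_nt_const ell_t1.isTorus fun _ h => (vals_YL h).i, cast_card_T1]; ring
  y := by rw [sum_nt_const ell_t1.isTorus fun _ h => (vals_YL h).y, cast_card_T1]; ring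
  y' := by rw [sum_nt_const ell_t1.isTorus fun _ h => (vals_YL h).y', cast_card_T1]; ring
  onH t ht h1 := by
    rw [sum_nt_const ell_t1.isTorus (c := 0) fun _ h => (vals_YL h).onH t ht h1]
    simp
  on1 t ht h1 := by
    rw [sum_nt_ind ell_t1.isTorus ht h1 (c := -1) fun _ h => by simpa using (vals_YL h).on1 t ht h1]
    simp
  on2 t ht h1 := by
    rw [sum_nt_const ell_t1.isTorus (c := 0) fun _ h => (vals_YL h).on2 t ht h1]
    simp

theorem vals_SZ : Vals (fun g => ∑ θ ∈ nt (T2 F m), ZL θ.1 g)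
    ((Fintype.card F - 2 * 2 ^ m) * ((Fintype.card F + 2 * 2 ^ m + 1) * (Fintype.card F - 1)))
    ((Fintype.card F - 2 * 2 ^ m) * (-(2 * 2 ^ m) - 1)) (-(Fintype.card F - 2 * 2 ^ m))
    (-(Fintype.card F - 2 * 2 ^ m)) 0 0 4 where
  one := by rw [sum_nt_const ell_t2.isTorus fun _ h => (vals_ZL h).one, cast_card_T2]; ring
  i := by rw [sum_nt_const ell_t2.isTorus fun _ h => (vals_ZL h).i, cast_card_T2]; ring
  y := by rw [sum_nt_const ell_t2.isTorus fun _ h => (vals_ZL h).y, cast_card_T2]; ring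
  y' := by rw [sum_nt_const ell_t2.isTorus fun _ h => (vals_ZL h).y', cast_card_T2]; ring
  onH t ht h1 := by
    rw [sum_nt_const ell_t2.isTorus (c := 0) fun _ h => (vals_ZL h).onH t ht h1]
    simp
  on1 t ht h1 := by
    rw [sum_nt_const ell_t2.isTorus (c := 0) fun _ h => (vals_ZL h).on1 t ht h1]
    simp
  on2 t ht h1 := by
    rw [sum_nt_ind ell_t2.isTorus ht h1 (c := -1) fun _ h => by simpa using (vals_ZL h).on2 t ht h1]
    simp

variable (F m) in
/-- Index set for the irreducible characters (with repetitions). -/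
abbrev Idx := Fin 4 ⊕ nt (H F m) ⊕ nt (T1 F m) ⊕ nt (T2 F m)

/-- The family of all irreducible characters. -/
noncomputable def fam : Idx F m → Cfsg.Sz F m → ℂ :=
  Sum.elim ![fun _ => 1, stX F m, W1 F m, W2 F m]
    (Sum.elim (fun θ => XL θ.1) (Sum.elim (fun θ => YL θ.1) fun θ => ZL θ.1))

/-- Weights compensating the repetitions. -/
noncomputable def wt : Idx F m → ℂ :=
  Sum.elim (fun _ => 1) (Sum.elim (fun _ => 1 / 2) (Sum.elim (fun _ => 1 / 4) fun _ => 1 / 4))

theorem irr_fam (i : Idx F m) : IsIrrCharacter _ (fam i) := by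
  rcases i with i | θ | θ | θ
  · fin_cases i
    exacts [isIrrCharacter_one, irr_stX, irr_W1, irr_W2]
  · exact irr_XL θ.1.2 (ne_of_mem_nt θ.2)
  · exact irr_YL θ.1.2 (ne_of_mem_nt θ.2)
  · exact irr_ZL θ.1.2 (ne_of_mem_nt θ.2)

theorem sum_fam (Φ : (Cfsg.Sz F m → ℂ) → ℂ) : ∑ i, wt i * Φ (fam i) =
    Φ (fun _ => 1) + Φ (stX F m) + Φ (W1 F m) + Φ (W2 F m) + 1 / 2 * ∑ θ ∈ nt (H F m), Φ (XL θ.1) +
      1 / 4 * ∑ θ ∈ nt (T1 F m), Φ (YL θ.1) + 1 / 4 * ∑ θ ∈ nt (T2 F m), Φ (ZL θ.1) := by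
  simp only [Fintype.sum_sum_type, Fin.sum_univ_four, wt, fam, Sum.elim_inl, Sum.elim_inr, one_mul,
    ← Finset.mul_sum]
  rw [Finset.sum_coe_sort (nt (H F m)) fun θ => Φ (XL θ.1),
    Finset.sum_coe_sort (nt (T1 F m)) fun θ => Φ (YL θ.1),
    Finset.sum_coe_sort (nt (T2 F m)) fun θ => Φ (ZL θ.1)]
  simp [add_assoc]

theorem sum_fam_deg (g : Cfsg.Sz F m) : ∑ i, wt i * fam i 1 * fam i g =
    1 + Fintype.card F ^ 2 * stX F m g + 2 ^ m * (Fintype.card F - 1) * (W1 F m g + W2 F m g) +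
      (Fintype.card F ^ 2 + 1) / 2 * ∑ θ ∈ nt (H F m), XL θ.1 g +
      (Fintype.card F - 2 * 2 ^ m + 1) * (Fintype.card F - 1) / 4 * ∑ θ ∈ nt (T1 F m), YL θ.1 g +
      (Fintype.card F + 2 * 2 ^ m + 1) * (Fintype.card F - 1) / 4 * ∑ θ ∈ nt (T2 F m), ZL θ.1 g := by
  have := sum_fam (F := F) (m := m) fun f => f 1 * f g
  simp only [← mul_assoc] at this
  rw [this, vals_stX.one, vals_W1.one, vals_W2.one,
    Finset.sum_congr rfl fun θ _ => by rw [(vals_XL (isTorus_H.irr_one θ.2)).one],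
    Finset.sum_congr (s₁ := nt (T1 F m)) rfl fun θ _ => by
      rw [(vals_YL (ell_t1.isTorus.irr_one θ.2)).one],
    Finset.sum_congr (s₁ := nt (T2 F m)) rfl fun θ _ => by
      rw [(vals_ZL (ell_t2.isTorus.irr_one θ.2)).one]]
  simp only [← Finset.mul_sum]
  ring

theorem sum_irr' (Φ : (Cfsg.Sz F m → ℂ) → ℂ) :
    ∑ ψ : IrrCharacter (Cfsg.Sz F m), Φ ψ = ∑ i, wt i * Φ (fam i) := by
  refine sum_irr_eq_of_regular fam irr_fam wt ?_ (fun g hg => ?_) Φ
  · rw [sum_fam_deg, vals_stX.one, vals_W1.one, vals_W2.one, vals_SX.one, vals_SY.one, vals_SZ.one,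
      cast_card_Sz, cast_card]
    ring
  · refine classes (P := fun g => ∑ i, wt i * fam i 1 * fam i g = 0) (fun x y hxy h => ?_)
      ?_ ?_ ?_ (fun s hs => ?_) (fun t ht h1 => ?_) (fun t ht h1 => ?_) hg
    · rw [← h]
      exact Finset.sum_congr rfl fun i _ => by rw [(irr_fam i).isClassFunction.eq_of_isConj hxy]
    · rw [sum_fam_deg, vals_stX.i, vals_W1.i, vals_W2.i, vals_SX.i, vals_SY.i, vals_SZ.i, cast_card]
      ring
    · rw [sum_fam_deg, vals_stX.y, vals_W1.y, vals_W2.y, vals_SX.y, vals_SY.y, vals_SZ.y, cast_card]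
      ring
    · rw [sum_fam_deg, vals_stX.y', vals_W1.y', vals_W2.y', vals_SX.y', vals_SY.y', vals_SZ.y',
        cast_card]
      ring
    · have ht := h_mem_H (m := m) s
      have h1 := (tor_h (m := m) hs).1
      rw [sum_fam_deg, vals_stX.onH _ ht h1, vals_W1.onH _ ht h1, vals_W2.onH _ ht h1,
        vals_SX.onH _ ht h1, vals_SY.onH _ ht h1, vals_SZ.onH _ ht h1]
      simp
      ring
    · rw [sum_fam_deg, vals_stX.on1 _ ht h1, vals_W1.on1 _ ht h1, vals_W2.on1 _ ht h1,
        vals_SX.on1 _ ht h1, vals_SY.on1 _ ht h1, vals_SZ.on1 _ ht h1]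
      simp
      ring
    · rw [sum_fam_deg, vals_stX.on2 _ ht h1, vals_W1.on2 _ ht h1, vals_W2.on2 _ ht h1,
        vals_SX.on2 _ ht h1, vals_SY.on2 _ ht h1, vals_SZ.on2 _ ht h1]
      simp
      ring

theorem sum_irr (Φ : (Cfsg.Sz F m → ℂ) → ℂ) : ∑ ψ : IrrCharacter (Cfsg.Sz F m), Φ ψ =
    Φ (fun _ => 1) + Φ (stX F m) + Φ (W1 F m) + Φ (W2 F m) + 1 / 2 * ∑ θ ∈ nt (H F m), Φ (XL θ.1) +
      1 / 4 * ∑ θ ∈ nt (T1 F m), Φ (YL θ.1) + 1 / 4 * ∑ θ ∈ nt (T2 F m), Φ (ZL θ.1) :=
  (sum_irr' Φ).trans (sum_fam Φ)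

theorem exists_nt {T N : Subgroup (Cfsg.Sz F m)} {e : ℕ} (h : IsTorus T N e) (hT : 1 < Nat.card T) :
    ∃ θ : T → ℂ, IsIrrCharacter T θ ∧ θ ≠ fun _ => 1 := by
  rw [← h.card_irr, Fintype.one_lt_card_iff_nontrivial] at hT
  obtain ⟨θ, hθ⟩ := exists_ne (irrOne T)
  exact ⟨θ, θ.2, fun h => hθ (Subtype.ext h)⟩

/-- The degrees of the irreducible characters. -/
theorem degree_iff (d : ℕ) : (∃ χ, IsIrrCharacter (Cfsg.Sz F m) χ ∧ χ 1 = d) ↔
    d = 1 ∨ d = Fintype.card F ^ 2 ∨ d = 2 ^ m * (Fintype.card F - 1) ∨ d = Fintype.card F ^ 2 + 1 ∨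
      d = (Fintype.card F - 2 ^ (m + 1) + 1) * (Fintype.card F - 1) ∨
      d = (Fintype.card F + 2 ^ (m + 1) + 1) * (Fintype.card F - 1) := by
  have h8 := eight_le_card (F := F)
  constructor
  · rintro ⟨χ, hχ, hd⟩
    obtain ⟨i, rfl⟩ := exists_eq_of_sum_irr fam wt sum_irr' hχ
    rcases i with i | θ | θ | θ
    · fin_cases i
      · exact Or.inl (Nat.cast_injective (R := ℂ) (hd.symm.trans Nat.cast_one.symm))
      · exact Or.inr (Or.inl (by exact_mod_cast hd.symm.trans vals_stX.one))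
      · exact Or.inr (Or.inr (Or.inl (Nat.cast_injective (R := ℂ)
          (hd.symm.trans (vals_W1.one.trans cast_deg_W)))))
      · exact Or.inr (Or.inr (Or.inl (Nat.cast_injective (R := ℂ)
          (hd.symm.trans (vals_W2.one.trans cast_deg_W)))))
    · exact Or.inr (Or.inr (Or.inr (Or.inl (by
        exact_mod_cast hd.symm.trans (vals_XL (isTorus_H.irr_one θ.1.2)).one))))
    · exact Or.inr (Or.inr (Or.inr (Or.inr (Or.inl (Nat.cast_injective (R := ℂ)
        (hd.symm.trans ((vals_YL (ell_t1.isTorus.irr_one θ.1.2)).one.trans cast_deg_Y)))))))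
    · exact Or.inr (Or.inr (Or.inr (Or.inr (Or.inr (Nat.cast_injective (R := ℂ)
        (hd.symm.trans ((vals_ZL (ell_t2.isTorus.irr_one θ.1.2)).one.trans cast_deg_Z)))))))
  · rintro (rfl | rfl | rfl | rfl | rfl | rfl)
    · exact ⟨_, isIrrCharacter_one, by simp⟩
    · exact ⟨_, irr_stX, vals_stX.one.trans (by simp)⟩
    · exact ⟨_, irr_W1, vals_W1.one.trans cast_deg_W⟩
    · obtain ⟨θ, h1, h2⟩ := exists_nt (isTorus_H (F := F)) (by rw [card_H]; omega)
      exact ⟨_, irr_XL h1 h2, (vals_XL (isTorus_H.irr_one h1)).one.trans (by simp)⟩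
    · obtain ⟨θ, h1, h2⟩ := exists_nt (ell_t1 (F := F)).isTorus (by have := (ell_t1 (F := F)).five_le; omega)
      exact ⟨_, irr_YL h1 h2, (vals_YL (ell_t1.isTorus.irr_one h1)).one.trans cast_deg_Y⟩
    · obtain ⟨θ, h1, h2⟩ := exists_nt (ell_t2 (F := F)).isTorus (by have := (ell_t2 (F := F)).five_le; omega)
      exact ⟨_, irr_ZL h1 h2, (vals_ZL (ell_t2.isTorus.irr_one h1)).one.trans cast_deg_Z⟩

end Sz

end H13
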