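import Cfsg.Agent.H13.SzClass
import Mathlib.Combinatorics.Enumerative.DoubleCounting

/-! Solubilizers in the Suzuki groups: `Sol x`, `mem_Sol_iff`, and the counts `ncard_Sol_invol`, `ncard_Sol_four`,
`ncard_Sol_h`, `ncard_Sol_ell`; double counting `ncard_mul_eq`. -/

set_option autoImplicit false

namespace H13

open Subgroup MulAction

theorem ncard_mul_eq {α β : Type*} [Finite α] [Finite β] {s : Set α} {t : Set β} (r : α → β → Prop) {a b : ℕ}
    (h1 : ∀ x ∈ s, {y | y ∈ t ∧ r x y}.ncard = a) (h2 : ∀ y ∈ t, {x | x ∈ s ∧ r x y}.ncard = b) :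
    s.ncard * a = t.ncard * b := by
  classical
  rw [Set.ncard_eq_toFinset_card s, Set.ncard_eq_toFinset_card t]
  refine Finset.card_mul_eq_card_mul r (fun x hx => ?_) fun y hy => ?_
  · rw [← h1 x (by simpa using hx), ← Set.ncard_coe_finset]
    congr 1
    ext y
    simp
  · rw [← h2 y (by simpa using hy), ← Set.ncard_coe_finset]
    congr 1
    ext x
    simp

/-- the solubilizer -/
def Sol {G : Type*} [Group G] (x : G) : Set G := {y | Group.IsSolvable (closure ({x, y} : Set G))}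

theorem map_mem_Sol {G H : Type*} [Group G] [Group H] (f : G →* H) {x y : G} (h : y ∈ Sol x) : f y ∈ Sol (f x) := by
  have : Group.IsSolvable (closure ({x, y} : Set G)) := h
  change Group.IsSolvable (closure ({f x, f y} : Set H))
  rw [← Set.image_pair, ← MonoidHom.map_closure]
  exact Group.isSolvable_of_surjective (f.subgroupMap_surjective _)

theorem ncard_Sol_map {G H : Type*} [Group G] [Group H] (e : G ≃* H) (x : G) : (Sol (e x)).ncard = (Sol x).ncard := by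
  rw [← Set.ncard_image_of_injective (Sol x) e.injective]
  congr 1
  ext y
  constructor
  · intro h
    exact ⟨e.symm y, by simpa using map_mem_Sol e.symm.toMonoidHom h, by simp⟩
  · rintro ⟨y, h, rfl⟩
    exact map_mem_Sol e.toMonoidHom h

theorem ncard_ne {α : Type*} [Finite α] (a : α) : {b | b ≠ a}.ncard = Nat.card α - 1 := by
  rw [show {b | b ≠ a} = Set.univ \ {a} by ext; simp, Set.ncard_sdiff_singleton_of_mem (Set.mem_univ _),
    Set.ncard_univ]

theorem card_eq_ncard {G : Type*} [Group G] (H : Subgroup G) : Nat.card H = (H : Set G).ncard := rfl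

namespace Sz

variable {F : Type*} [Field F] [Fintype F] {m : ℕ} [hF : IsSz F m]

attribute [local irreducible] ptInf pt u h w

/-- the torus of `z` -/
abbrev CT (z : Cfsg.Sz F m) : Subgroup (Cfsg.Sz F m) := centralizer {z}
/-- the normaliser of the torus of `z` -/
abbrev NT (z : Cfsg.Sz F m) : Subgroup (Cfsg.Sz F m) := normalizer (centralizer {z} : Set (Cfsg.Sz F m))

theorem self_mem_CT (z : Cfsg.Sz F m) : z ∈ CT z := mem_centralizer_singleton_iff.2 rfl

theorem mem_Sol_iff {x y : Cfsg.Sz F m} : y ∈ Sol x ↔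
    (∃ p : Cfsg.suzukiOvoid F m, x • p = p ∧ y • p = p) ∨ ∃ z, Tor z ∧ x ∈ NT z ∧ y ∈ NT z := by
  have hx : x ∈ closure ({x, y} : Set _) := subset_closure (by simp)
  have hy : y ∈ closure ({x, y} : Set _) := subset_closure (by simp)
  have key : ∀ M : Subgroup (Cfsg.Sz F m), Group.IsSolvable M → x ∈ M → y ∈ M → y ∈ Sol x := fun M hM h1 h2 =>
    Group.isSolvable_of_isSolvable_injective (inclusion_injective
      ((closure_le M).2 (Set.pair_subset h1 h2)))
  constructor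
  · intro h
    rcases local_of_isSolvable h with ⟨p, hp⟩ | ⟨z, -, h1, h2⟩
    · exact Or.inl ⟨p, hp hx, hp hy⟩
    · exact Or.inr ⟨z, h1, h2 hx, h2 hy⟩
  · rintro (⟨p, h1, h2⟩ | ⟨z, h1, h2, h3⟩)
    · exact key _ (isSolvable_stabilizer p) h1 h2
    · exact key _ h1.isSolvable_normalizer h2 h3

theorem Tor.NT_eq {z y : Cfsg.Sz F m} (hz : Tor z) (hy : Tor y) (h : y ∈ NT z) : NT y = NT z := by
  rw [NT, hz.centralizer_eq (hz.mem_of_mem_normalizer hy h) hy.1]

theorem Sol_ell {x : Cfsg.Sz F m} (hx : Elliptic x) : Sol x = NT x := by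
  ext y
  rw [mem_Sol_iff]
  constructor
  · rintro (⟨p, h1, -⟩ | ⟨z, h1, h2, h3⟩)
    · exact absurd h1 (hx p)
    · rwa [← h1.NT_eq hx.tor h2] at h3
  · exact fun h => Or.inr ⟨x, hx.tor, le_normalizer (self_mem_CT x), h⟩

theorem ncard_Sol_ell {x : Cfsg.Sz F m} (hx : Elliptic x) : (Sol x).ncard = 4 * Nat.card (CT x) := by
  rw [Sol_ell hx, ← hx.card_normalizer]
  rfl

theorem ncard_Sol_h {s : Fˣ} (hs : s ≠ 1) :
    (Sol (h m s)).ncard = 2 * Fintype.card F ^ 2 * (Fintype.card F - 1) := by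
  have e : NT (h m s) = N F m := by rw [NT, centralizer_h hs, normalizer_H]
  have h1 : Sol (h m s) = ((B F m : Set _) ∪ stabilizer (Cfsg.Sz F m) (pt m (0 : F) 0)) ∪ (N F m \ H F m) := by
    ext y
    rw [mem_Sol_iff]
    constructor
    · rintro (⟨p, h1, h2⟩ | ⟨z, h1, h2, h3⟩)
      · rcases fix_of_h hs h1 with rfl | rfl
        exacts [Or.inl (Or.inl h2), Or.inl (Or.inr h2)]
      · rw [← h1.NT_eq (tor_h hs) h2, e] at h3
        by_cases h4 : y ∈ H F m
        exacts [Or.inl (Or.inl (H_le_B h4)), Or.inr ⟨h3, h4⟩]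
    · rintro ((h1 | h1) | h1)
      · exact Or.inl ⟨_, h_smul_ptInf s, h1⟩
      · exact Or.inl ⟨_, (mem_H_iff.1 (h_mem_H s)).2, h1⟩
      · exact Or.inr ⟨_, tor_h hs, le_normalizer (self_mem_CT _), e ▸ h1.1⟩
  have h2 : (B F m : Set (Cfsg.Sz F m)) ∩ stabilizer (Cfsg.Sz F m) (pt m (0 : F) 0) = H F m :=
    Set.ext fun y => mem_H_iff.symm
  have h3 := Set.ncard_union_add_ncard_inter (B F m : Set (Cfsg.Sz F m)) (stabilizer (Cfsg.Sz F m) (pt m (0 : F) 0))
  have h4 : Nat.card (stabilizer (Cfsg.Sz F m) (pt m (0 : F) 0)) = Nat.card (B F m) :=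
    (Nat.card_congr (stabilizerEquivStabilizer (g := w F m) w_smul_ptInf.symm).toEquiv).symm
  have h5 := Set.ncard_sdiff_add_ncard_of_subset (show (H F m : Set (Cfsg.Sz F m)) ⊆ N F m from H_le_N)
  rw [h1, Set.ncard_union_eq]
  · rw [h2] at h3
    simp only [← Nat.card_coe_set_eq, SetLike.coe_sort_coe, h4, card_B, card_H, card_N] at h3 h5 ⊢
    rw [mul_assoc]
    omega
  · rw [Set.disjoint_left]
    rintro y hy ⟨h6, h7⟩
    obtain ⟨t, rfl | rfl⟩ := h6
    · exact h7 (h_mem_H t)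
    · rcases hy with hy | hy
      · exact w_not_mem_B (((B F m).mul_mem_cancel_left (H_le_B (h_mem_H t))).1 hy)
      · rw [SetLike.mem_coe, mem_stabilizer_iff, mul_smul, ← w_smul_ptInf, ← mul_smul (w F m), w_mul_w, one_smul,
          h_smul_ptInf, w_smul_ptInf] at hy
        exact pt_ne_ptInf _ _ hy.symm

/-- the toral elements whose torus is normalised by `x` -/
def A (x : Cfsg.Sz F m) : Set (Cfsg.Sz F m) := {t | Tor t ∧ x ∈ NT t}

theorem mem_NT_conj {x t : Cfsg.Sz F m} (k : Cfsg.Sz F m) (h : x ∈ NT t) : k * x * k⁻¹ ∈ NT (k * t * k⁻¹) := by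
  rw [NT, centralizer_conj_eq, ← map_equiv_normalizer_eq]
  exact ⟨x, h, rfl⟩

theorem ncard_A_conj {x y : Cfsg.Sz F m} (h : IsConj x y) : (A x).ncard = (A y).ncard := by
  have key : ∀ x k : Cfsg.Sz F m, (A x).ncard ≤ (A (k * x * k⁻¹)).ncard := fun x k =>
    Set.ncard_le_ncard_of_injOn (fun t => k * t * k⁻¹) (fun t ht => ⟨ht.1.conj k, mem_NT_conj k ht.2⟩)
      fun a _ b _ e => by simpa using e
  obtain ⟨k, rfl⟩ := isConj_iff.1 h
  refine le_antisymm (key x k) ?_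
  simpa [mul_assoc] using key (k * x * k⁻¹) k⁻¹

theorem A_inv (x : Cfsg.Sz F m) : A x⁻¹ = A x := Set.ext fun _ => and_congr_right fun _ => inv_mem_iff

section invol

variable {i : Cfsg.Sz F m} (hU : i ∈ U F m) (h1 : i ≠ 1) (h2 : i * i = 1)
include hU h1 h2

theorem mul_sq_of_mem_A {t : Cfsg.Sz F m} (ht : t ∈ A i) : t * i * (t * i) = 1 := by
  have := ht.1.inverts h1 h2 ht.2 (self_mem_CT t)
  rw [inv_eq_of_mul_eq_one_right h2] at this
  rw [mul_assoc, ← mul_assoc i, this, mul_inv_cancel]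

theorem mul_not_mem_B {t : Cfsg.Sz F m} (ht : t ∈ A i) : t * i ∉ B F m := fun h =>
  ht.1.not_mem_U (((U F m).mul_mem_cancel_right hU).1
    (mem_U_of_pow_four h (pow_four_of_mul_self (mul_sq_of_mem_A hU h1 h2 ht))))

theorem not_mem_B_of_mem_A {t : Cfsg.Sz F m} (ht : t ∈ A i) : t ∉ B F m := fun h =>
  mul_not_mem_B hU h1 h2 ht (mul_mem h (U_le_B hU))

theorem CT_eq {t t' y : Cfsg.Sz F m} (ht : t ∈ A i) (ht' : t' ∈ A i) (hy : y ∉ B F m) (e : y ∈ NT t)
    (e' : y ∈ NT t') : CT t = CT t' := by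
  have key : ∀ z, Tor z → z ∈ NT t → z ∈ NT t' → CT t = CT t' := fun z hz a b =>
    (ht.1.centralizer_eq (ht.1.mem_of_mem_normalizer hz a) hz.1).symm.trans
      (ht'.1.centralizer_eq (ht'.1.mem_of_mem_normalizer hz b) hz.1)
  by_cases h4 : y ^ 4 = 1
  · by_cases h5 : y * y = 1
    · exact key _ (tor_mul hU h1 h2 h5 hy) (mul_mem e ht.2) (mul_mem e' ht'.2)
    · have h6 : y * y * (y * y) = 1 := by rw [← h4]; simp only [pow_succ, pow_zero, one_mul, mul_assoc]
      refine key _ (tor_mul hU h1 h2 h6 fun h => hy ?_) (mul_mem (mul_mem e e) ht.2) (mul_mem (mul_mem e' e') ht'.2)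
      exact U_le_B (centralizer_u_le (mem_U_of_pow_four h (pow_four_of_mul_self h6)) h5
        (mem_centralizer_singleton_iff.2 (mul_assoc _ _ _).symm))
  · exact key _ (tor_of_pow_four_ne h4) e e'

theorem card_NT_inf {t : Cfsg.Sz F m} (ht : t ∈ A i) {k : ℕ} (hk : k = 1 ∨ k = 2)
    (e : Nat.card (NT t) = 2 ^ k * Nat.card (CT t)) : Nat.card ↥(NT t ⊓ U F m) = 2 ^ k := by
  obtain ⟨P, hP⟩ := (isPGroup_U.comap_subtype (K := NT t)).exists_le_sylow
  have h3 : Nat.card P = 2 ^ k := by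
    rw [P.card_eq_multiplicity, e, Nat.factorization_mul (by positivity) Nat.card_pos.ne']
    rw [Finsupp.add_apply, Nat.factorization_eq_zero_of_not_dvd ht.1.odd_card.not_two_dvd_nat]
    simp [Nat.prime_two.factorization]
  have h4 : IsMulCommutative P := by
    rcases hk with rfl | rfl
    · have := isCyclic_of_prime_card (p := 2) h3
      infer_instance
    · exact IsPGroup.isMulCommutative_of_card_eq_prime_sq h3
  have h5 : (P : Subgroup (NT t)) = (U F m).comap (NT t).subtype := le_antisymm (fun y hy =>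
    centralizer_u_le hU h1 (mem_centralizer_singleton_iff.2 (congrArg (fun z : P => z.1.1)
      (h4.is_comm.comm ⟨y, hy⟩ ⟨⟨i, ht.2⟩, hP hU⟩)))) hP
  rw [← h3, h5, inf_comm, ← subgroupOf_map_subtype, card_map_of_injective (NT t).subtype_injective]
  rfl

theorem exists_mul {t y : Cfsg.Sz F m} (ht : t ∈ A i) (hy : y ∈ NT t) : ∃ c ∈ CT t, c⁻¹ * y ∈ U F m := by
  obtain ⟨k, hk, e⟩ : ∃ k, (k = 1 ∨ k = 2) ∧ Nat.card (NT t) = 2 ^ k * Nat.card (CT t) := by
    rcases ht.1.cases with h3 | ⟨k, s, hs, rfl⟩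
    · exact ⟨2, Or.inr rfl, h3.card_normalizer⟩
    · exact ⟨1, Or.inl rfl, card_normalizer_conj_h k hs⟩
  have h3 : Function.Bijective fun p : CT t × ↥(NT t ⊓ U F m) =>
      (⟨p.1 * p.2, mul_mem (le_normalizer p.1.2) p.2.2.1⟩ : NT t) := by
    rw [Nat.bijective_iff_injective_and_card, Nat.card_prod, card_NT_inf hU h1 h2 ht hk e, e, mul_comm]
    refine ⟨fun p q h => ?_, rfl⟩
    have h4 : p.1.1 * p.2.1 = q.1 * q.2 := congrArg Subtype.val h
    have h5 : q.1.1⁻¹ * p.1 = 1 := by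
      by_contra h5
      refine (ht.1.of_mem (mul_mem (inv_mem q.1.2) p.1.2) h5).not_mem_U ?_
      rw [show q.1.1⁻¹ * p.1 = q.2 * p.2.1⁻¹ by rw [eq_mul_inv_iff_mul_eq, mul_assoc, h4, inv_mul_cancel_left]]
      exact mul_mem q.2.2.2 (inv_mem p.2.2.2)
    rw [inv_mul_eq_one] at h5
    rw [h5] at h4
    exact Prod.ext (Subtype.ext h5.symm) (Subtype.ext (mul_left_cancel h4))
  obtain ⟨⟨c, d⟩, e⟩ := h3.2 ⟨y, hy⟩
  refine ⟨c, c.2, ?_⟩
  rw [← show c.1 * d.1 = y from congrArg Subtype.val e, inv_mul_cancel_left]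
  exact d.2.2

theorem ncard_S {E : Set (Cfsg.Sz F m)} (hE : E ⊆ A i) (hE' : ∀ t ∈ E, ∀ c ∈ CT t, c ≠ 1 → c ∈ E) {k : ℕ}
    (hk : k = 1 ∨ k = 2) (e : ∀ t ∈ E, Nat.card (NT t) = 2 ^ k * Nat.card (CT t)) :
    {y | y ∉ B F m ∧ ∃ t ∈ E, y ∈ NT t}.ncard = E.ncard * 2 ^ k := by
  rw [← mul_one (Set.ncard _)]
  refine ncard_mul_eq (fun y t => y ∈ NT t ∧ t⁻¹ * y ∈ U F m) ?_ fun t ht => ?_
  · rintro y ⟨hy, t, ht, h3⟩
    obtain ⟨c, hc, h4⟩ := exists_mul hU h1 h2 (hE ht) h3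
    have h5 : c ≠ 1 := by
      rintro rfl
      exact hy (U_le_B (by simpa using h4))
    have h6 : y ∈ NT c := by rwa [NT, (hE ht).1.centralizer_eq hc h5]
    rw [Set.ncard_eq_one]
    refine ⟨c, Set.eq_singleton_iff_unique_mem.2 ⟨⟨hE' t ht c hc h5, h6, h4⟩, fun d hd => ?_⟩⟩
    by_contra h7
    refine ((hE ht).1.of_mem (mul_mem (inv_mem hc) ((CT_eq hU h1 h2 (hE ht) (hE hd.1) hy h3 hd.2.1).ge (self_mem_CT d)))
      fun h => h7 (inv_mul_eq_one.1 h).symm).not_mem_U ?_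
    simpa using mul_mem h4 (inv_mem hd.2.2)
  · rw [← card_NT_inf hU h1 h2 (hE ht) hk (e t ht), card_eq_ncard,
      ← Set.ncard_image_of_injective (SetLike.coe _) (mul_right_injective t)]
    congr 1
    ext y
    constructor
    · rintro ⟨-, h3, h4⟩
      exact ⟨t⁻¹ * y, mem_inf.2 ⟨mul_mem (inv_mem (le_normalizer (self_mem_CT t))) h3, h4⟩, by simp⟩
    · rintro ⟨y, ⟨h3, h4⟩, rfl⟩
      have := mul_mem (le_normalizer (self_mem_CT t)) h3
      exact ⟨⟨fun h => not_mem_B_of_mem_A hU h1 h2 (hE ht) (((B F m).mul_mem_cancel_right (U_le_B h4)).1 h),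
        t, ht, this⟩, this, by simpa using h4⟩

theorem ncard_A : (A i).ncard = Fintype.card F ^ 2 * (Fintype.card F - 1) := by
  have e1 : (A i).ncard = {j : Cfsg.Sz F m | j ∉ B F m ∧ j * j = 1}.ncard := by
    rw [← Set.ncard_image_of_injective _ (mul_left_injective i)]
    congr 1
    ext j
    constructor
    · rintro ⟨t, ht, rfl⟩
      exact ⟨mul_not_mem_B hU h1 h2 ht, mul_sq_of_mem_A hU h1 h2 ht⟩
    · rintro ⟨h3, h4⟩
      have h5 := tor_mul hU h1 h2 h4 h3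
      refine ⟨j * i, ⟨h5, h5.mem_normalizer (self_mem_CT _) h5.1 ?_⟩, by simp [mul_assoc, h2]⟩
      rw [show i * (j * i) * i⁻¹ = (j * i)⁻¹ by
        simp [mul_assoc, inv_eq_of_mul_eq_one_right h2, inv_eq_of_mul_eq_one_right h4, h2]]
      exact inv_mem (self_mem_CT _)
  have e2 : {p | p ≠ ptInf F m}.ncard = Fintype.card F ^ 2 := by
    rw [ncard_ne, card_ovoid, Nat.add_sub_cancel]
  rw [e1, ← e2, ← mul_one (Set.ncard _)]
  refine ncard_mul_eq (fun j p => j • p = p) ?_ fun p hp => ?_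
  · rintro j ⟨h3, h4⟩
    obtain ⟨p, hp, hu⟩ := existsUnique_fix (z := j) (by rintro rfl; exact h3 (one_mem _)) (pow_four_of_mul_self h4)
    rw [Set.ncard_eq_one]
    exact ⟨p, Set.eq_singleton_iff_unique_mem.2 ⟨⟨by rintro rfl; exact h3 hp, hp⟩, fun q hq => hu q hq.2⟩⟩
  · obtain ⟨g, rfl⟩ := exists_smul_eq (Cfsg.Sz F m) (ptInf F m) p
    have e3 : {b : F | b ≠ 0}.ncard = Fintype.card F - 1 := by
      rw [ncard_ne, Nat.card_eq_fintype_card]
    rw [← e3, ← Set.ncard_image_of_injective _ (f := fun b : F => g * u m 0 b * g⁻¹)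
      fun a b e => by simpa [u_inj] using e]
    congr 1
    ext j
    constructor
    · rintro ⟨⟨h3, h4⟩, h5⟩
      obtain ⟨b, hb⟩ := exists_eq_u_zero (z := g⁻¹ * j * g) (by
        rw [mem_stabilizer_iff, mul_smul, mul_smul, h5, inv_smul_smul]) (by
        rw [show g⁻¹ * j * g * (g⁻¹ * j * g) = g⁻¹ * (j * j) * g by group, h4]; group)
      refine ⟨b, ?_, by simp only [← hb]; group⟩
      rintro rfl
      rw [u_zero, mul_assoc, inv_mul_eq_one, right_eq_mul] at hb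
      exact h3 (hb ▸ one_mem _)
    · rintro ⟨b, hb, rfl⟩
      have h3 : (g * u m 0 b * g⁻¹) • g • ptInf F m = g • ptInf F m := by simp [mul_smul]
      have h4 : g * u m 0 b * g⁻¹ * (g * u m 0 b * g⁻¹) = 1 := by
        rw [conj_mul, u_zero_mul_self]; group
      exact ⟨⟨fun h => hp ((existsUnique_fix (by simpa using u_zero_ne_one hb)
        (pow_four_of_mul_self h4)).unique h3 h), h4⟩, h3⟩

theorem ncard_A_non : {t | t ∈ A i ∧ ¬ Elliptic t}.ncard * 2 = Fintype.card F ^ 2 * (Fintype.card F - 2) := by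
  have e2 : {p | p ≠ ptInf F m}.ncard = Fintype.card F ^ 2 := by
    rw [ncard_ne, card_ovoid, Nat.add_sub_cancel]
  rw [← e2]
  refine ncard_mul_eq (fun t p => t • p = p) ?_ fun p hp => ?_
  · rintro t ⟨h3, h4⟩
    have h5 := not_mem_B_of_mem_A hU h1 h2 h3
    obtain ⟨k, s, hs, rfl⟩ := h3.1.cases.resolve_left h4
    rw [Set.ncard_eq_two]
    refine ⟨k • ptInf F m, k • pt m 0 0, fun h => pt_ne_ptInf _ _ (smul_left_cancel _ h).symm, ?_⟩
    ext p
    constructor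
    · rintro ⟨-, h6⟩
      rw [mul_smul, mul_smul, ← eq_inv_smul_iff] at h6
      simpa only [inv_smul_eq_iff, Set.mem_insert_iff, Set.mem_singleton_iff] using fix_of_h hs h6
    · intro h6
      have : (k * h m s * k⁻¹) • p = p := by rcases h6 with rfl | rfl <;> simp [mul_smul]
      exact ⟨by rintro rfl; exact h5 this, this⟩
  · obtain ⟨g, e3, e4⟩ := exists_smul_eq_pair (p := p) (p' := i • p) fun h => hp (fix_of_mem_U hU h1 h.symm)
    have e5 : {s : Fˣ | s ≠ 1}.ncard = Fintype.card F - 2 := by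
      rw [ncard_ne, Nat.card_units, Nat.card_eq_fintype_card]
      rfl
    have hi : i⁻¹ = i := inv_eq_of_mul_eq_one_right h2
    have e6 : ∀ t : Cfsg.Sz F m, t • p = p → t • i • p = i • p → g⁻¹ * t * g ∈ H F m := fun t a b =>
      mem_H_iff.2 ⟨by rw [mul_smul, mul_smul, e3, a, inv_smul_eq_iff, e3],
        by rw [mul_smul, mul_smul, e4, b, inv_smul_eq_iff, e4]⟩
    rw [← e5, ← Set.ncard_image_of_injective _ (f := fun s : Fˣ => g * h m s * g⁻¹)
      fun a b e => h_injective (by simpa using e)]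
    congr 1
    ext t
    constructor
    · rintro ⟨⟨h3, -⟩, h5⟩
      obtain ⟨s, hs⟩ := mem_H.1 (e6 t h5 (by
        rw [← eq_inv_smul_iff, ← h3.1.inverts h1 h2 h3.2 (self_mem_CT t), mul_smul, mul_smul, inv_smul_smul, h5]))
      refine ⟨s, ?_, by simp only [hs]; group⟩
      rintro rfl
      rw [h_one, eq_comm, mul_assoc, inv_mul_eq_one, right_eq_mul] at hs
      exact h3.1.1 hs
    · rintro ⟨s, hs, rfl⟩
      have h3 : (g * h m s * g⁻¹) • p = p := by rw [← e3]; simp [mul_smul]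
      have h4 : (g * h m s * g⁻¹) • i • p = i • p := by rw [← e4]; simp [mul_smul]
      have h5 := (tor_h (m := m) hs).conj g
      refine ⟨⟨⟨h5, h5.mem_normalizer (self_mem_CT _) h5.1 ?_⟩, fun h => h p h3⟩, h3⟩
      have := e6 (i * (g * h m s * g⁻¹) * i⁻¹) (by rw [mul_smul, mul_smul, hi, h4, ← mul_smul, h2, one_smul])
        (by rw [mul_smul, mul_smul, inv_smul_smul, h3])
      rw [← centralizer_h hs, ← mem_centralizer_conj g] at this
      simpa [mul_assoc] using this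

theorem ncard_A_ell : {t | t ∈ A i ∧ Elliptic t}.ncard * 2 = Fintype.card F ^ 3 := by
  have e1 := ncard_A hU h1 h2
  have e2 := ncard_A_non hU h1 h2
  have e3 := Set.ncard_inter_add_ncard_sdiff_eq_ncard (A i) {t | Elliptic t}
  obtain ⟨q, hq⟩ : ∃ q, Fintype.card F = q + 2 := ⟨Fintype.card F - 2, by have := eight_le_card (F := F); omega⟩
  rw [hq] at e1 e2 ⊢
  change {t | t ∈ A i ∧ Elliptic t}.ncard + {t | t ∈ A i ∧ ¬ Elliptic t}.ncard = _ at e3
  rw [show q + 2 - 1 = q + 1 from rfl] at e1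
  rw [Nat.add_sub_cancel] at e2
  nlinarith

end invol

theorem Sol_eq {x : Cfsg.Sz F m} (hU : x ∈ U F m) (h1 : x ≠ 1) :
    Sol x = (B F m : Set _) ∪ {y | y ∉ B F m ∧ ∃ t ∈ A x, y ∈ NT t} := by
  ext y
  rw [mem_Sol_iff]
  constructor
  · rintro (⟨p, h2, h3⟩ | ⟨z, h2, h3, h4⟩)
    · rw [fix_of_mem_U hU h1 h2] at h3
      exact Or.inl h3
    · by_cases h5 : y ∈ B F m
      exacts [Or.inl h5, Or.inr ⟨h5, z, ⟨h2, h3⟩, h4⟩]
  · rintro (h2 | ⟨-, t, h2, h3⟩)
    · exact Or.inl ⟨_, U_le_B hU, h2⟩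
    · exact Or.inr ⟨t, h2.1, h2.2, h3⟩

theorem ncard_Sol_U {x : Cfsg.Sz F m} (hU : x ∈ U F m) (h1 : x ≠ 1) : (Sol x).ncard =
    Fintype.card F ^ 2 * (Fintype.card F - 1) + {y | y ∉ B F m ∧ ∃ t ∈ A x, y ∈ NT t}.ncard := by
  rw [Sol_eq hU h1, Set.ncard_union_eq (Set.disjoint_left.2 fun y a b => b.1 a), ← card_B (m := m)]
  rfl

theorem mem_A_of_mem {x t c : Cfsg.Sz F m} (ht : t ∈ A x) (hc : c ∈ CT t) (h : c ≠ 1) : c ∈ A x :=
  ⟨ht.1.of_mem hc h, by rw [NT, ht.1.centralizer_eq hc h]; exact ht.2⟩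

theorem ncard_Sol_invol {x : Cfsg.Sz F m} (hx : orderOf x = 2) :
    (Sol x).ncard = Fintype.card F ^ 2 * (4 * Fintype.card F - 3) := by
  obtain ⟨h2, h0⟩ := (orderOf_eq_prime_iff (p := 2)).1 hx
  rw [sq] at h2
  obtain ⟨k, i, hU, h1, rfl⟩ := conj_U_of_pow_four h0 (pow_four_of_mul_self h2)
  rw [conj_mul, conj_eq_one_iff] at h2
  have e1 := ncard_S hU h1 h2 (E := {t | t ∈ A i ∧ Elliptic t}) (fun _ h => h.1)
    (fun t ht c hc h => ⟨mem_A_of_mem ht.1 hc h, ht.2.of_mem_centralizer hc h⟩) (Or.inr rfl)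
    fun t ht => ht.2.card_normalizer
  have e2 := ncard_S hU h1 h2 (E := {t | t ∈ A i ∧ ¬ Elliptic t}) (fun _ h => h.1)
    (fun t ht c hc h => ⟨mem_A_of_mem ht.1 hc h, fun h' => ht.2 (h'.of_mem_centralizer
      (ht.1.1.centralizer_eq hc h ▸ self_mem_CT t) ht.1.1.1)⟩) (Or.inl rfl) fun t ht => by
      obtain ⟨k, s, hs, rfl⟩ := ht.1.1.cases.resolve_left ht.2
      exact card_normalizer_conj_h k hs
  have e3 := ncard_A_ell hU h1 h2
  have e4 := ncard_A_non hU h1 h2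
  have e5 := Set.ncard_union_eq (s := {y | y ∉ B F m ∧ ∃ t ∈ {t | t ∈ A i ∧ Elliptic t}, y ∈ NT t})
    (t := {y | y ∉ B F m ∧ ∃ t ∈ {t | t ∈ A i ∧ ¬ Elliptic t}, y ∈ NT t}) (Set.disjoint_left.2 (by
      rintro y ⟨h3, t, ht, h4⟩ ⟨-, t', ht', h5⟩
      exact ht'.2 (ht.2.of_mem_centralizer ((CT_eq hU h1 h2 ht.1 ht'.1 h3 h4 h5).ge (self_mem_CT t')) ht'.1.1.1)))
  rw [← MulAut.conj_apply, ncard_Sol_map, ncard_Sol_U hU h1, show {y | y ∉ B F m ∧ ∃ t ∈ A i, y ∈ NT t} =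
      {y | y ∉ B F m ∧ ∃ t ∈ {t | t ∈ A i ∧ Elliptic t}, y ∈ NT t} ∪
      {y | y ∉ B F m ∧ ∃ t ∈ {t | t ∈ A i ∧ ¬ Elliptic t}, y ∈ NT t} by
    ext y
    exact ⟨fun ⟨a, t, b, c⟩ => (em (Elliptic t)).imp (fun d => ⟨a, t, ⟨b, d⟩, c⟩) fun d => ⟨a, t, ⟨b, d⟩, c⟩,
      fun h => h.elim (fun ⟨a, t, b, c⟩ => ⟨a, t, b.1, c⟩) fun ⟨a, t, b, c⟩ => ⟨a, t, b.1, c⟩⟩, e5, e1, e2]
  obtain ⟨q, hq⟩ : ∃ q, Fintype.card F = q + 2 := ⟨Fintype.card F - 2, by have := eight_le_card (F := F); omega⟩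
  rw [hq] at e3 e4 ⊢
  rw [Nat.add_sub_cancel] at e4
  rw [show q + 2 - 1 = q + 1 from rfl, show 4 * (q + 2) - 3 = 4 * q + 5 by omega]
  nlinarith

theorem ell_of_mem_A {x t : Cfsg.Sz F m} (hx : orderOf x = 4) (ht : t ∈ A x) : Elliptic t := by
  refine ht.1.cases.resolve_right ?_
  rintro ⟨k, s, hs, rfl⟩
  have := orderOf_dvd_natCard _ ht.2
  rw [card_normalizer_conj_h k hs, hx] at this
  have := ht.1.odd_card.not_two_dvd_nat
  omega

theorem ncard_Sol_four {x : Cfsg.Sz F m} (hx : orderOf x = 4) :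
    (Sol x).ncard = Fintype.card F ^ 2 * (Fintype.card F + 3) := by
  obtain ⟨k, x, hU, h0, rfl⟩ := conj_U_of_pow_four (z := x) (by rintro rfl; simp at hx)
    (by have := pow_orderOf_eq_one x; rwa [hx] at this)
  rw [orderOf_conj'] at hx
  have h4 : ∀ {y : Cfsg.Sz F m}, y * y = x * x → y ^ 4 = 1 := fun {y} e => by
    rw [show y ^ 4 = y * y * (y * y) by simp only [pow_succ, pow_zero, one_mul, mul_assoc], e, ← pow_four_of_mem_U hU]
    simp only [pow_succ, pow_zero, one_mul, mul_assoc]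
  have h1 : x * x ≠ 1 := fun e => by
    have := orderOf_dvd_of_pow_eq_one (show x ^ 2 = 1 by rw [sq, e])
    rw [hx] at this
    omega
  have h2 : x * x * (x * x) = 1 := by rw [← h4 rfl]; simp only [pow_succ, pow_zero, one_mul, mul_assoc]
  have hU' := mul_mem hU hU
  have e1 := ncard_S hU' h1 h2 (E := A x) (fun t h => ⟨h.1, mul_mem h.2 h.2⟩)
    (fun t ht c hc h => mem_A_of_mem ht hc h) (Or.inr rfl) fun t ht => (ell_of_mem_A hx ht).card_normalizer
  have e2 : {y | y * y = x * x}.ncard = Fintype.card F := by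
    obtain ⟨a, b, rfl⟩ := hU
    rw [← Nat.card_eq_fintype_card, ← Set.ncard_univ, ← Set.ncard_image_of_injective _ (f := fun c : F => u m a c)
      fun c d e => (u_inj.1 e).2]
    congr 1
    ext y
    constructor
    · intro e
      rw [Set.mem_ofPred] at e
      obtain ⟨c, d, rfl⟩ := centralizer_u_le hU' h1 (show y ∈ _ by
        rw [mem_centralizer_singleton_iff, ← e, mul_assoc])
      rw [← sq, ← sq, u_sq, u_sq, u_inj] at e
      exact ⟨d, trivial, by rw [mul_th_injective (a₁ := c) (a₂ := a) (by simp only [mul_comm _ (th m _), e.2])]⟩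
    · rintro ⟨c, -, rfl⟩
      rw [Set.mem_ofPred, ← sq, ← sq, u_sq, u_sq]
  have e3 : ∀ y : Cfsg.Sz F m, y * y = x * x → (A y).ncard = (A (u m (1 : F) 0)).ncard := fun y e => by
    rcases isConj_of_pow_four (c := y) (by rintro rfl; exact h1 (by simpa using e.symm)) (h4 e) with h | ⟨-, h | h⟩
    · exact absurd (e ▸ h.1) h1
    · exact (ncard_A_conj h).symm
    · rw [← ncard_A_conj h, ← u_inv_one_zero, A_inv]
  have e4 := ncard_mul_eq (s := {y | y * y = x * x}) (t := {t | t ∈ A (x * x) ∧ Elliptic t}) (fun y t => y ∈ NT t)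
    (a := (A x).ncard) (b := 2) (fun y e => by
      rw [e3 x rfl, ← e3 y e]
      congr 1
      ext t
      refine ⟨fun h => ⟨h.1.1.1, h.2⟩, fun h => ⟨⟨⟨h.1, e ▸ mul_mem h.2 h.2⟩, ell_of_mem_A ?_ h⟩, h.2⟩⟩
      exact orderOf_eq_prime_pow (p := 2) (n := 1) (by rw [pow_one, sq, e]; exact h1) (h4 e)) fun t ht => by
      have k1 := card_NT_inf hU' h1 h2 ht.1 (Or.inr rfl) ht.2.card_normalizer
      have k2 : ∀ y ∈ NT t ⊓ U F m, y ≠ 1 → y * y = 1 → y = x * x := fun y hy a b => by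
        by_contra c
        refine (ht.1.1.of_mem (y := y * (x * x)) ?_ fun d => c ?_).not_mem_U (mul_mem hy.2 hU')
        · rw [mem_centralizer_singleton_iff, ← mul_inv_eq_iff_eq_mul, mul_inv_rev,
            show y * (x * x) * t * ((x * x)⁻¹ * y⁻¹) = y * (x * x * t * (x * x)⁻¹) * y⁻¹ by group,
            ht.1.1.inverts h1 h2 ht.1.2 (self_mem_CT t), ht.1.1.inverts a b hy.1 (inv_mem (self_mem_CT t)), inv_inv]
        · rw [eq_inv_of_mul_eq_one_left d, inv_eq_of_mul_eq_one_right h2]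
      rw [show {y | y ∈ {y | y * y = x * x} ∧ y ∈ NT t} = ((NT t ⊓ U F m : Subgroup _) : Set _) \ {1, x * x} by
        ext y
        constructor
        · rintro ⟨a, b⟩
          refine ⟨⟨b, centralizer_u_le hU' h1 (by rw [mem_centralizer_singleton_iff, ← a, mul_assoc])⟩, ?_⟩
          rintro (rfl | rfl)
          · exact h1 (by simpa using a.symm)
          · exact h1 (a.symm.trans h2)
        · rintro ⟨a, b⟩
          simp only [Set.mem_insert_iff, Set.mem_singleton_iff, not_or] at b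
          refine ⟨k2 _ (mul_mem a a) (fun c => b.2 (k2 y a b.1 c)) ?_, a.1⟩
          rw [← pow_four_of_mem_U a.2]
          simp only [pow_succ, pow_zero, one_mul, mul_assoc],
        Set.ncard_sdiff (Set.pair_subset (one_mem _) (mem_inf.2 ⟨ht.1.2, hU'⟩)), Set.ncard_pair h1.symm,
        ← card_eq_ncard, k1]
      rfl
  rw [e2, ncard_A_ell hU' h1 h2, pow_succ'] at e4
  rw [← MulAut.conj_apply, ncard_Sol_map, ncard_Sol_U hU h0, e1, Nat.eq_of_mul_eq_mul_left Fintype.card_pos e4]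
  obtain ⟨q, hq⟩ : ∃ q, Fintype.card F = q + 1 := ⟨Fintype.card F - 1, by have := eight_le_card (F := F); omega⟩
  rw [hq, Nat.add_sub_cancel]
  ring

include hF in
theorem coprime_sub_add : (Fintype.card F - 1).Coprime (Fintype.card F ^ 2 + 1) := by
  have hodd := odd_card_sub_one (F := F)
  obtain ⟨q, hq⟩ : ∃ q, Fintype.card F = q + 1 := ⟨Fintype.card F - 1, by have := eight_le_card (F := F); omega⟩
  rw [hq, Nat.add_sub_cancel] at hodd ⊢
  rw [show (q + 1) ^ 2 + 1 = 2 + q * (q + 2) by ring, Nat.coprime_add_mul_left_right]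
  simpa using hodd

theorem ncard_Sol_split {x : Cfsg.Sz F m} (h1 : x ≠ 1) (hx : orderOf x ∣ Fintype.card F - 1) :
    (Sol x).ncard = 2 * Fintype.card F ^ 2 * (Fintype.card F - 1) := by
  have : Tor x := ⟨h1, odd_card_sub_one.of_dvd_nat hx⟩
  rcases this.cases with h | ⟨k, s, hs, rfl⟩
  · exact absurd (orderOf_eq_one_iff.1 (Nat.eq_one_of_dvd_coprimes coprime_sub_add hx h.orderOf_dvd)) h1
  · rw [← MulAut.conj_apply, ncard_Sol_map, ncard_Sol_h hs]

theorem ncard_Sol_nonsplit {x : Cfsg.Sz F m} (h1 : x ≠ 1) :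
    (orderOf x ∣ Fintype.card F + 2 ^ (m + 1) + 1 → (Sol x).ncard = 4 * (Fintype.card F + 2 ^ (m + 1) + 1)) ∧
    (orderOf x ∣ Fintype.card F - 2 ^ (m + 1) + 1 → (Sol x).ncard = 4 * (Fintype.card F - 2 ^ (m + 1) + 1)) := by
  have e1 := r_le (F := F)
  have e2 : (Fintype.card F + 2 ^ (m + 1) + 1) * (Fintype.card F - 2 ^ (m + 1) + 1) = Fintype.card F ^ 2 + 1 := by
    have := r_sq (F := F)
    obtain ⟨d, hd⟩ : ∃ d, Fintype.card F = d + 2 ^ (m + 1) := ⟨Fintype.card F - 2 ^ (m + 1), by omega⟩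
    rw [hd] at this ⊢
    rw [Nat.add_sub_cancel]
    nlinarith
  have e3 := orderOf_dvd_natCard _ (self_mem_CT x)
  have e4 : Elliptic x → orderOf x ∣ Fintype.card F + 2 ^ (m + 1) + 1 →
      orderOf x ∣ Fintype.card F - 2 ^ (m + 1) + 1 → False := fun h a b => by
    have := Nat.dvd_sub a b
    rw [show Fintype.card F + 2 ^ (m + 1) + 1 - (Fintype.card F - 2 ^ (m + 1) + 1) = 2 ^ (m + 2) by
      rw [pow_succ 2 (m + 1)]; omega] at this
    exact h1 (orderOf_eq_one_iff.1 (((Nat.coprime_two_right.2 h.tor.2).pow_right _).eq_one_of_dvd this))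
  have e5 : Elliptic x → Nat.card (CT x) ≠ Fintype.card F - 1 := fun h a =>
    h1 (orderOf_eq_one_iff.1 (Nat.eq_one_of_dvd_coprimes coprime_sub_add (a ▸ e3) h.orderOf_dvd))
  constructor <;> intro hx
  · have h := elliptic_of_orderOf_dvd h1 (e2 ▸ hx.mul_right _)
    rcases h.tor.card_cases with a | a | a
    · exact absurd a (e5 h)
    · rw [ncard_Sol_ell h, a]
    · exact (e4 h hx (a ▸ e3)).elim
  · have h := elliptic_of_orderOf_dvd h1 (e2 ▸ hx.mul_left _)
    rcases h.tor.card_cases with a | a | a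
    · exact absurd a (e5 h)
    · exact (e4 h (a ▸ e3) hx).elim
    · rw [ncard_Sol_ell h, a]

end Sz

end H13
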